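import Cfsg.Agent.EqLemmas

/-!
# Counting weighted tuples of monic polynomials with non-zero constant term

* `cc q j` : the number of monic polynomials of degree `j` with non-zero constant term;
* `cnt q ws n` : the number of tuples with weights `ws` of total weighted degree `n`;
* `cnt_down_le` : for the weights `N, …, 1` at most `q ^ n - q ^ (n - N)`;
* `cnt_two_le` : for the weights `N, …, 2` at most `q ^ (n - 2) + q ^ (n / 2)`.
-/

set_option autoImplicit false

namespace Cfsg.Agent.SLComm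

/-- The number of monic polynomials of degree `j` with non-zero constant term over `q` elements. -/
def cc (q : ℕ) : ℕ → ℕ
  | 0 => 1
  | j + 1 => (q - 1) * q ^ j

theorem cc_le (q j : ℕ) : cc q j ≤ q ^ j := by
  cases j with
  | zero => simp [cc]
  | succ j =>
    rw [cc, pow_succ']
    exact Nat.mul_le_mul (Nat.sub_le q 1) le_rfl

theorem cc_succ (q : ℕ) {j : ℕ} (hj : 0 < j) : cc q (j + 1) = q * cc q j := by
  obtain ⟨i, rfl⟩ : ∃ i, j = i + 1 := ⟨j - 1, by omega⟩
  simp only [cc, pow_succ]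
  ring

/-- The number of tuples of weighted degree `n`. -/
def cnt (q : ℕ) : List ℕ → ℕ → ℕ
  | [], n => if n = 0 then 1 else 0
  | w :: ws, n => ∑ j ∈ (Finset.range (n + 1)).filter (fun j => w * j ≤ n), cc q j * cnt q ws (n - w * j)

theorem cnt_cons (q w : ℕ) (ws : List ℕ) (n : ℕ) : cnt q (w :: ws) n =
    ∑ j ∈ (Finset.range (n + 1)).filter (fun j => w * j ≤ n), cc q j * cnt q ws (n - w * j) := rfl

theorem cnt_perm (q : ℕ) {ws ws' : List ℕ} (h : ws.Perm ws') (hpos : ∀ w ∈ ws, 0 < w) (n : ℕ) :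
    cnt q ws n = cnt q ws' n := by
  induction h generalizing n with
  | nil => rfl
  | cons a _ ih =>
    rw [cnt_cons, cnt_cons]
    exact Finset.sum_congr rfl fun j _ => by rw [ih fun x hx => hpos x (List.mem_cons_of_mem _ hx)]
  | swap a b l =>
    simp only [cnt_cons, Finset.mul_sum]
    rw [Finset.sum_comm' (t' := (Finset.range (n + 1)).filter fun j => a * j ≤ n)
      (s' := fun j => (Finset.range (n - a * j + 1)).filter fun i => b * i ≤ n - a * j)]
    · refine Finset.sum_congr rfl fun j _ => Finset.sum_congr rfl fun i _ => ?_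
      rw [Nat.sub_right_comm]
      ring
    · intro i j
      simp only [Finset.mem_filter, Finset.mem_range]
      have hb : i ≤ b * i := Nat.le_mul_of_pos_left i (hpos b List.mem_cons_self)
      have ha : j ≤ a * j := Nat.le_mul_of_pos_left j (hpos a (by simp))
      constructor
      · rintro ⟨⟨h1, h2⟩, h3, h4⟩
        refine ⟨⟨?_, ?_⟩, ?_, ?_⟩ <;> omega
      · rintro ⟨⟨h1, h2⟩, h3, h4⟩
        refine ⟨⟨?_, ?_⟩, ?_, ?_⟩ <;> omega
  | trans h₁ _ ih ih' => exact (ih hpos n).trans (ih' (fun x hx => hpos x (h₁.mem_iff.2 hx)) n)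

/-- The weights `N, …, 2, 1`. -/
def down : ℕ → List ℕ
  | 0 => []
  | N + 1 => (N + 1) :: down N

/-- The weights `N, …, 2`. -/
def downTwo : ℕ → List ℕ
  | 0 => []
  | 1 => []
  | N + 2 => (N + 2) :: downTwo (N + 1)

theorem down_perm : ∀ N : ℕ, (down (N + 1)).Perm (1 :: downTwo (N + 1))
  | 0 => List.Perm.refl _
  | N + 1 => ((down_perm N).cons (N + 2)).trans (List.Perm.swap _ _ _)

theorem cnt_one_cons (q : ℕ) (ws : List ℕ) (n : ℕ) :
    cnt q (1 :: ws) n = ∑ j ∈ Finset.range (n + 1), cc q j * cnt q ws (n - j) := by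
  rw [cnt_cons, Finset.filter_true_of_mem fun j hj => by rw [one_mul]; exact Nat.le_of_lt_succ (Finset.mem_range.1 hj)]
  simp

theorem cnt_zero (q : ℕ) : ∀ ws : List ℕ, (∀ w ∈ ws, 0 < w) → cnt q ws 0 = 1
  | [], _ => by simp [cnt]
  | w :: ws, h => by
    rw [cnt_cons, show (Finset.range (0 + 1)).filter (fun j => w * j ≤ 0) = {0} by
      ext j; simp +contextual [Finset.mem_filter]]
    simp [cc, cnt_zero q ws fun x hx => h x (List.mem_cons_of_mem _ hx)]

theorem down_pos : ∀ (N : ℕ), ∀ w ∈ down N, 0 < w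
  | 0, w, h => by simp [down] at h
  | N + 1, w, h => by
    rcases List.mem_cons.1 h with rfl | h
    · exact Nat.succ_pos N
    · exact down_pos N w h

/-- The tuples using the weight `w` at least once. -/
def dd (q w : ℕ) (ws : List ℕ) (n : ℕ) : ℕ :=
  ∑ j ∈ (Finset.range (n + 1)).filter (fun j => 0 < j ∧ w * j ≤ n), cc q j * cnt q ws (n - w * j)

theorem cnt_eq_add_dd (q w : ℕ) (ws : List ℕ) (n : ℕ) : cnt q (w :: ws) n = cnt q ws n + dd q w ws n := by
  rw [cnt_cons, dd, show (Finset.range (n + 1)).filter (fun j => w * j ≤ n) =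
    insert 0 ((Finset.range (n + 1)).filter (fun j => 0 < j ∧ w * j ≤ n)) by
      ext j; simp only [Finset.mem_filter, Finset.mem_insert, Finset.mem_range]
      rcases Nat.eq_zero_or_pos j with rfl | h
      · simp
      · exact ⟨fun hh => Or.inr ⟨hh.1, h, hh.2⟩, fun hh => hh.elim (fun e => absurd e h.ne') fun e => ⟨e.1, e.2.2⟩⟩]
  · rw [Finset.sum_insert (by simp)]
    simp [cc]

theorem dd_step (q : ℕ) {w : ℕ} (hw : 0 < w) (ws : List ℕ) (n : ℕ) :
    dd q w ws (n + w) = q * dd q w ws n + (q - 1) * cnt q ws n := by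
  rw [dd, dd, show (Finset.range (n + w + 1)).filter (fun j => 0 < j ∧ w * j ≤ n + w) =
    ((Finset.range (n + 1)).filter (fun j => w * j ≤ n)).map ⟨(· + 1), add_left_injective 1⟩ by
      ext j
      simp only [Finset.mem_filter, Finset.mem_range, Finset.mem_map, Function.Embedding.coeFn_mk]
      constructor
      · rintro ⟨h1, h2, h3⟩
        obtain ⟨i, rfl⟩ : ∃ i, j = i + 1 := ⟨j - 1, by omega⟩
        rw [Nat.mul_succ] at h3
        refine ⟨i, ⟨?_, by omega⟩, rfl⟩
        have := Nat.le_mul_of_pos_left i hw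
        omega
      · rintro ⟨i, ⟨h1, h2⟩, rfl⟩
        rw [Nat.mul_succ]
        omega]
  rw [Finset.sum_map, show (Finset.range (n + 1)).filter (fun j => w * j ≤ n) =
    insert 0 ((Finset.range (n + 1)).filter (fun j => 0 < j ∧ w * j ≤ n)) by
      ext j; simp only [Finset.mem_filter, Finset.mem_insert, Finset.mem_range]
      rcases Nat.eq_zero_or_pos j with rfl | h
      · simp
      · exact ⟨fun hh => Or.inr ⟨hh.1, h, hh.2⟩, fun hh => hh.elim (fun e => absurd e h.ne') fun e => ⟨e.1, e.2.2⟩⟩, Finset.sum_insert (by simp), Finset.mul_sum, add_comm]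
  congr 1
  · refine Finset.sum_congr rfl fun j hj => ?_
    simp only [Finset.mem_filter, Finset.mem_range] at hj
    show cc q (j + 1) * cnt q ws (n + w - w * (j + 1)) = _
    rw [cc_succ q hj.2.1, show n + w - w * (j + 1) = n - w * j by rw [Nat.mul_succ]; omega]
    ring
  · show cc q (0 + 1) * _ = _
    simp [cc]

theorem dd_lt (q w : ℕ) (ws : List ℕ) {n : ℕ} (h : n < w) : dd q w ws n = 0 := by
  rw [dd, Finset.sum_eq_zero]
  intro j hj
  simp only [Finset.mem_filter] at hj
  have := Nat.le_mul_of_pos_right w hj.2.1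
  omega

theorem dd_le (q : ℕ) (hq : 1 ≤ q) {M : ℕ} {ws : List ℕ} (h1 : ∀ n, cnt q ws n ≤ q ^ n)
    (h2 : ∀ n, M ≤ n → cnt q ws n + q ^ (n - M) ≤ q ^ n) :
    ∀ n, M + 1 ≤ n → dd q (M + 1) ws n ≤ (q - 1) * q ^ (n - (M + 1)) := by
  intro n
  induction n using Nat.strong_induction_on with
  | _ n ih =>
    intro hn
    obtain ⟨m, rfl⟩ : ∃ m, n = m + (M + 1) := ⟨n - (M + 1), by omega⟩
    rw [dd_step q M.succ_pos, Nat.add_sub_cancel]
    rcases Nat.lt_or_ge m (M + 1) with hm | hm
    · rw [dd_lt q _ ws hm, mul_zero, zero_add]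
      exact Nat.mul_le_mul le_rfl (h1 m)
    · calc q * dd q (M + 1) ws m + (q - 1) * cnt q ws m
          ≤ q * ((q - 1) * q ^ (m - (M + 1))) + (q - 1) * cnt q ws m :=
            Nat.add_le_add_right (Nat.mul_le_mul le_rfl (ih m (by omega) hm)) _
        _ = (q - 1) * (cnt q ws m + q ^ (m - M)) := by
            rw [show m - M = m - (M + 1) + 1 by omega, pow_succ]; ring
        _ ≤ (q - 1) * q ^ m := Nat.mul_le_mul le_rfl (h2 m (by omega))

theorem cnt_down_bounds (q : ℕ) (hq : 1 ≤ q) : ∀ N : ℕ,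
    (∀ n, cnt q (down N) n ≤ q ^ n) ∧ (∀ n, N ≤ n → 0 < N → cnt q (down N) n + q ^ (n - N) ≤ q ^ n)
  | 0 => ⟨fun n => by
      simp only [down, cnt]
      split_ifs with h
      · exact Nat.one_le_pow _ _ hq
      · exact Nat.zero_le _, fun _ _ h => absurd h (lt_irrefl 0)⟩
  | 1 => by
    have h : ∀ n, cnt q (down 1) n = cc q n := fun n => by
      rw [show down 1 = [1] from rfl, cnt_one_cons,
        Finset.sum_eq_single n (fun j hj hne => by
          rw [Finset.mem_range] at hj
          simp [cnt, show n - j ≠ 0 by omega]) (by simp)]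
      simp [cnt]
    refine ⟨fun n => (h n).le.trans (cc_le q n), fun n hn _ => ?_⟩
    obtain ⟨m, rfl⟩ : ∃ m, n = m + 1 := ⟨n - 1, by omega⟩
    rw [h, cc, Nat.add_sub_cancel, ← Nat.succ_mul, Nat.succ_eq_add_one, Nat.sub_add_cancel hq, pow_succ']
  | M + 2 => by
    obtain ⟨h1, h2⟩ := cnt_down_bounds q hq (M + 1)
    have hd := dd_le q hq (M := M + 1) h1 fun n hn => h2 n hn M.succ_pos
    have hmain : ∀ n, M + 2 ≤ n → cnt q (down (M + 2)) n + q ^ (n - (M + 2)) ≤ q ^ n := by
      intro n hn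
      rw [show down (M + 2) = (M + 2) :: down (M + 1) from rfl, cnt_eq_add_dd]
      have a1 : dd q (M + 2) (down (M + 1)) n ≤ (q - 1) * q ^ (n - (M + 2)) := hd n hn
      have a2 := h2 n (by omega) M.succ_pos
      have a3 : (q - 1) * q ^ (n - (M + 2)) + q ^ (n - (M + 2)) = q ^ (n - (M + 1)) := by
        rw [← Nat.succ_mul, Nat.succ_eq_add_one, Nat.sub_add_cancel hq, ← pow_succ']
        congr 1
        omega
      omega
    refine ⟨fun n => ?_, fun n hn _ => hmain n hn⟩
    rcases Nat.lt_or_ge n (M + 2) with hn | hn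
    · rw [show down (M + 2) = (M + 2) :: down (M + 1) from rfl, cnt_eq_add_dd, dd_lt q _ _ hn, add_zero]
      exact h1 n
    · exact le_trans (Nat.le_add_right _ _) (hmain n hn)

theorem cnt_down_le (q : ℕ) (hq : 1 ≤ q) (N n : ℕ) : cnt q (down N) n ≤ q ^ n := (cnt_down_bounds q hq N).1 n

theorem cnt_downTwo_le_down (q N n : ℕ) : cnt q (downTwo N) n ≤ cnt q (down N) n := by
  cases N with
  | zero => exact le_rfl
  | succ N =>
    rw [cnt_perm q (down_perm N) (down_pos _), cnt_eq_add_dd]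
    exact Nat.le_add_right _ _

theorem cnt_two_weight (q n : ℕ) : cnt q [2] n = if n % 2 = 0 then cc q (n / 2) else 0 := by
  rw [cnt_cons]
  split_ifs with h
  · rw [Finset.sum_eq_single (n / 2) (fun j hj hne => by
      simp only [Finset.mem_filter, Finset.mem_range] at hj
      simp [cnt, show n - 2 * j ≠ 0 by omega]) (fun hh => absurd hh (by simp; omega))]
    simp [cnt, show n - 2 * (n / 2) = 0 by omega]
  · refine Finset.sum_eq_zero fun j hj => ?_
    simp only [Finset.mem_filter, Finset.mem_range] at hj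
    simp [cnt, show n - 2 * j ≠ 0 by omega]

theorem cnt_two_le (q : ℕ) (hq : 1 ≤ q) {n : ℕ} (hn : 2 ≤ n) : ∀ N : ℕ, 2 ≤ N →
    cnt q (downTwo N) n + q ^ (n - N) ≤ (if n % 2 = 0 then q ^ (n / 2) else 0) + q ^ (n - 2)
  | 0, h => by omega
  | 1, h => by omega
  | 2, _ => by
    rw [show downTwo 2 = [2] from rfl, cnt_two_weight]
    refine Nat.add_le_add_right ?_ _
    split_ifs
    · exact cc_le _ _
    · exact le_rfl
  | N + 3, _ => by
    have ih := cnt_two_le q hq hn (N + 2) (by omega)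
    rw [show downTwo (N + 3) = (N + 3) :: downTwo (N + 2) from rfl, cnt_eq_add_dd]
    rcases Nat.lt_or_ge n (N + 3) with hlt | hge
    · rw [dd_lt q _ _ hlt, add_zero, show n - (N + 3) = n - (N + 2) by omega]
      exact ih
    · have h1 : dd q (N + 3) (downTwo (N + 2)) n ≤ dd q (N + 3) (down (N + 2)) n :=
        Finset.sum_le_sum fun j _ => Nat.mul_le_mul le_rfl (cnt_downTwo_le_down q _ _)
      have h2 : dd q (N + 3) (down (N + 2)) n ≤ (q - 1) * q ^ (n - (N + 3)) := dd_le q hq (M := N + 2) (cnt_down_bounds q hq (N + 2)).1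
        (fun n hn => (cnt_down_bounds q hq (N + 2)).2 n hn (by omega)) n hge
      have h3 : (q - 1) * q ^ (n - (N + 3)) + q ^ (n - (N + 3)) = q ^ (n - (N + 2)) := by
        rw [← Nat.succ_mul, Nat.succ_eq_add_one, Nat.sub_add_cancel hq, ← pow_succ']
        congr 1
        omega
      omega

end Cfsg.Agent.SLComm
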