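import Cfsg.Agent.Lib.SLComm.Blocks
import Cfsg.Agent.Lib.SLComm.Count

/-!
# The data of a conjugacy class of `GL_n`

* `tupSet F ws n` : tuples `f i` (`i ∈ ws`) of monic polynomials with non-zero constant term and weighted
  degree `n`; `ncard_tupSet_le`;
* `PairsOk`, `blocks`, `tupOf` : a list of pairs (prime, exponent), its blocks and its tuple; `perm_of_tupOf_eq`;
* `exists_pairs` : every automorphism has such a list; `isConj_of_sim`; `ncard_monic_ne`.
-/

set_option autoImplicit false
set_option linter.style.haveILetI false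
set_option linter.unusedVariables false
set_option linter.unusedSectionVars false

namespace Cfsg.Agent.SLComm

open Polynomial Module Matrix

variable {F : Type*} [Field F]

variable (F) in
/-- The monic polynomials of degree `j` with non-zero constant term. -/
def monicNe (j : ℕ) : Set F[X] := {p | p.Monic ∧ p.natDegree = j ∧ p.coeff 0 ≠ 0}

variable [Finite F]

theorem monicNe_finite_card (j : ℕ) : (monicNe F j).Finite ∧ (monicNe F j).ncard = cc (Nat.card F) j := by
  classical
  cases j with
  | zero =>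
    have : monicNe F 0 = {1} := Set.ext fun p => by
      simp only [monicNe, Set.mem_setOf_eq, Set.mem_singleton_iff]
      exact ⟨fun h => h.1.natDegree_eq_zero.1 h.2.1, fun h => by rw [h]; exact ⟨monic_one, natDegree_one, by simp⟩⟩
    rw [this]
    exact ⟨Set.finite_singleton _, by simp [cc]⟩
  | succ m =>
    let mk : Fˣ × (Fin m → F) → F[X] := fun v =>
      X ^ (m + 1) + ∑ i : Fin (m + 1), C ((Fin.cons (v.1 : F) v.2 : Fin (m + 1) → F) i) * X ^ i.val
    have hcoeff : ∀ v (i : Fin (m + 1)), (mk v).coeff i.val = (Fin.cons (v.1 : F) v.2 : Fin (m + 1) → F) i := by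
      intro v i
      simp only [mk, coeff_add, coeff_X_pow, finset_sum_coeff, coeff_C_mul]
      rw [if_neg (by omega), zero_add, Finset.sum_eq_single i (fun j _ hj => by
        rw [if_neg (fun e => hj (Fin.ext e.symm)), mul_zero]) (by simp)]
      simp
    have hlt : ∀ v : Fˣ × (Fin m → F), (∑ i : Fin (m + 1),
        C ((Fin.cons (v.1 : F) v.2 : Fin (m + 1) → F) i) * X ^ i.val).degree < ((m + 1 : ℕ) : WithBot ℕ) :=
      fun v => degree_sum_fin_lt _
    have heq : monicNe F (m + 1) = mk '' Set.univ := by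
      ext p
      simp only [monicNe, Set.mem_setOf_eq, Set.image_univ, Set.mem_range]
      constructor
      · rintro ⟨hm, hd, h0⟩
        refine ⟨(Units.mk0 _ h0, fun i => p.coeff (i.val + 1)), ?_⟩
        refine Polynomial.ext fun i => ?_
        rcases lt_trichotomy i (m + 1) with hi | hi | hi
        · have := hcoeff (Units.mk0 _ h0, fun j => p.coeff (j.val + 1)) ⟨i, hi⟩
          simp only at this
          rw [this]
          obtain ⟨i', rfl⟩ | rfl := (show (∃ i', i = i' + 1) ∨ i = 0 by
            rcases i with _ | i'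
            · exact Or.inr rfl
            · exact Or.inl ⟨i', rfl⟩)
          · rw [show (⟨i' + 1, hi⟩ : Fin (m + 1)) = Fin.succ ⟨i', by omega⟩ from rfl, Fin.cons_succ]
          · rw [show (⟨0, hi⟩ : Fin (m + 1)) = 0 from rfl, Fin.cons_zero]
            rfl
        · subst hi
          have h' := coeff_eq_zero_of_degree_lt (hlt (Units.mk0 _ h0, fun j => p.coeff (j.val + 1)))
          simp only at h'
          simp only [mk, coeff_add, coeff_X_pow, if_pos]
          rw [h', add_zero, ← hd, hm.coeff_natDegree]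
        · rw [coeff_eq_zero_of_natDegree_lt (by omega : p.natDegree < i)]
          have h' := coeff_eq_zero_of_degree_lt
            ((hlt (Units.mk0 _ h0, fun j => p.coeff (j.val + 1))).trans (Nat.cast_lt.2 hi : ((m + 1 : ℕ) : WithBot ℕ) < i))
          simp only at h'
          simp only [mk, coeff_add, coeff_X_pow]
          rw [if_neg (by omega), h', add_zero]
      · rintro ⟨v, rfl⟩
        have hm : (mk v).Monic := (monic_X_pow (m + 1)).add_of_left (by rw [degree_X_pow]; exact hlt v)
        refine ⟨hm, ?_, ?_⟩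
        · refine natDegree_eq_of_degree_eq_some ?_
          rw [show mk v = X ^ (m + 1) + _ from rfl, degree_add_eq_left_of_degree_lt
            (by rw [degree_X_pow]; exact hlt v), degree_X_pow]
        · have := hcoeff v 0
          simp only [Fin.val_zero, Fin.cons_zero] at this
          rw [this]
          exact v.1.ne_zero
    refine ⟨heq ▸ Set.finite_univ.image _, ?_⟩
    rw [heq, Set.ncard_image_of_injective _ fun v w e => ?_, Set.ncard_univ, Nat.card_prod, Nat.card_units,
      Nat.card_fun, Nat.card_fin]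
    · rfl
    · refine Prod.ext (Units.ext ?_) (funext fun i => ?_)
      · have h1 := hcoeff v 0; have h2 := hcoeff w 0
        rw [e] at h1
        simp only [Fin.val_zero, Fin.cons_zero] at h1 h2
        rw [← h1, h2]
      · have h1 := hcoeff v i.succ; have h2 := hcoeff w i.succ
        rw [e] at h1
        simp only [Fin.cons_succ] at h1 h2
        rw [← h1, h2]

variable (F) in
/-- Tuples indexed by `ws` of weighted degree `n`. -/
def tupSet (ws : List ℕ) (n : ℕ) : Set (ℕ → F[X]) :=
  {f | (∀ i, i ∉ ws → f i = 1) ∧ (∀ i, (f i).Monic ∧ (f i).coeff 0 ≠ 0) ∧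
    (ws.map fun w => w * (f w).natDegree).sum = n}

theorem tupSet_finite_card : ∀ (ws : List ℕ), ws.Nodup → (∀ w ∈ ws, 0 < w) → ∀ n,
    (tupSet F ws n).Finite ∧ (tupSet F ws n).ncard ≤ cnt (Nat.card F) ws n
  | [], _, _, n => by
    have hsub : tupSet F [] n ⊆ {fun _ => (1 : F[X])} := fun f hf => funext fun i => hf.1 i (by simp)
    refine ⟨(Set.finite_singleton _).subset hsub, ?_⟩
    simp only [cnt]
    split_ifs with h
    · exact (Set.ncard_le_ncard hsub (Set.finite_singleton _)).trans (by simp)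
    · rw [show tupSet F [] n = ∅ from Set.eq_empty_of_forall_notMem fun f hf => h (by simpa using hf.2.2.symm)]
      simp
  | w :: ws, hnd, hpos, n => by
    classical
    obtain ⟨hw, hnd'⟩ := List.nodup_cons.1 hnd
    have hpos' : ∀ x ∈ ws, 0 < x := fun x hx => hpos x (List.mem_cons_of_mem _ hx)
    have ih := fun m => tupSet_finite_card ws hnd' hpos' m
    set J := (Finset.range (n + 1)).filter (fun j => w * j ≤ n)
    have hsub : tupSet F (w :: ws) n ⊆ ⋃ j ∈ J,
        (fun x : F[X] × (ℕ → F[X]) => Function.update x.2 w x.1) '' (monicNe F j ×ˢ tupSet F ws (n - w * j)) := by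
      rintro f ⟨h1, h2, h3⟩
      rw [List.map_cons, List.sum_cons] at h3
      refine Set.mem_iUnion₂.2 ⟨(f w).natDegree, ?_, (f w, Function.update f w 1), ⟨⟨(h2 w).1, rfl, (h2 w).2⟩, ?_⟩, ?_⟩
      · have hwj := Nat.le_mul_of_pos_left (f w).natDegree (hpos w List.mem_cons_self)
        simp only [J, Finset.mem_filter, Finset.mem_range]
        omega
      · refine ⟨fun i hi => ?_, fun i => ?_, ?_⟩ <;> dsimp only
        · by_cases e : i = w
          · subst e; simp
          · rw [Function.update_of_ne e]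
            exact h1 i (by simp [e, hi])
        · by_cases e : i = w
          · subst e; simp
          · rw [Function.update_of_ne e]; exact h2 i
        · rw [show ws.map (fun x => x * ((Function.update f w 1) x).natDegree) = ws.map fun x => x * (f x).natDegree from
            List.map_congr_left fun x hx => by rw [Function.update_of_ne (fun (e : x = w) => hw (e ▸ hx))]]
          omega
      · simp
    have hfin : ∀ j ∈ J, ((fun x : F[X] × (ℕ → F[X]) => Function.update x.2 w x.1) ''
        (monicNe F j ×ˢ tupSet F ws (n - w * j))).Finite := fun j _ =>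
      ((monicNe_finite_card j).1.prod (ih _).1).image _
    refine ⟨(J.finite_toSet.biUnion hfin).subset hsub, ?_⟩
    refine (Set.ncard_le_ncard hsub (J.finite_toSet.biUnion hfin)).trans ?_
    refine (Finset.set_ncard_biUnion_le J _).trans ?_
    rw [cnt_cons]
    refine Finset.sum_le_sum fun j hj => ?_
    refine (Set.ncard_image_le ((monicNe_finite_card j).1.prod (ih _).1)).trans ?_
    rw [Set.ncard_prod, (monicNe_finite_card j).2]
    exact Nat.mul_le_mul le_rfl (ih _).2

theorem down_nodup : ∀ N : ℕ, (down N).Nodup ∧ ∀ i, i ∈ down N ↔ 1 ≤ i ∧ i ≤ N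
  | 0 => ⟨List.nodup_nil, fun i => by simp [down]; omega⟩
  | N + 1 => by
    obtain ⟨h1, h2⟩ := down_nodup N
    refine ⟨List.nodup_cons.2 ⟨fun h => ?_, h1⟩, fun i => ?_⟩
    · have := (h2 _).1 h; omega
    · show i ∈ (N + 1) :: down N ↔ _
      rw [List.mem_cons, h2]; omega

theorem downTwo_nodup : ∀ N : ℕ, (downTwo N).Nodup ∧ ∀ i, i ∈ downTwo N ↔ 2 ≤ i ∧ i ≤ N
  | 0 => ⟨List.nodup_nil, fun i => by simp [downTwo]; omega⟩
  | 1 => ⟨List.nodup_nil, fun i => by simp [downTwo]; omega⟩
  | N + 2 => by
    obtain ⟨h1, h2⟩ := downTwo_nodup (N + 1)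
    refine ⟨List.nodup_cons.2 ⟨fun h => ?_, h1⟩, fun i => ?_⟩
    · have := (h2 _).1 h; omega
    · show i ∈ (N + 2) :: downTwo (N + 1) ↔ _
      rw [List.mem_cons, h2]; omega

/-! ### Lists of primary pairs -/

/-- Monic irreducibles other than `X` with positive exponents. -/
def PairsOk (ps : List (F[X] × ℕ)) : Prop :=
  ∀ x ∈ ps, Irreducible x.1 ∧ x.1.Monic ∧ 0 < x.2 ∧ x.1.coeff 0 ≠ 0

/-- The blocks of a list of pairs. -/
noncomputable def blocks (ps : List (F[X] × ℕ)) : List F[X] := ps.map fun x => x.1 ^ x.2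

/-- The tuple of a list of pairs. -/
noncomputable def tupOf (ps : List (F[X] × ℕ)) (i : ℕ) : F[X] :=
  ((ps.filter fun x => decide (x.2 = i)).map Prod.fst).prod

/-- The weighted degree of a list of pairs. -/
noncomputable def pdeg (ps : List (F[X] × ℕ)) : ℕ := (ps.map fun x => x.2 * x.1.natDegree).sum

theorem tupOf_cons (x : F[X] × ℕ) (ps : List (F[X] × ℕ)) (i : ℕ) :
    tupOf (x :: ps) i = (if x.2 = i then x.1 else 1) * tupOf ps i := by
  by_cases h : x.2 = i <;> simp [tupOf, h]

theorem tupOf_monic {ps : List (F[X] × ℕ)} (h : PairsOk ps) (i : ℕ) :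
    (tupOf ps i).Monic ∧ (tupOf ps i).coeff 0 ≠ 0 := by
  induction ps with
  | nil => simp [tupOf]
  | cons x ps ih =>
    obtain ⟨-, hm, -, h0⟩ := h x List.mem_cons_self
    obtain ⟨a, b⟩ := ih fun y hy => h y (List.mem_cons_of_mem _ hy)
    rw [tupOf_cons]
    split_ifs with e
    · exact ⟨hm.mul a, by rw [mul_coeff_zero]; exact mul_ne_zero h0 b⟩
    · rw [one_mul]; exact ⟨a, b⟩

theorem le_pdeg {ps : List (F[X] × ℕ)} (h : PairsOk ps) {x : F[X] × ℕ} (hx : x ∈ ps) : x.2 ≤ pdeg ps := by
  refine le_trans ?_ (List.single_le_sum (fun _ _ => Nat.zero_le _) _ (List.mem_map.2 ⟨x, hx, rfl⟩))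
  exact Nat.le_mul_of_pos_right _ (h x hx).1.natDegree_pos

theorem tupOf_eq_one {ps : List (F[X] × ℕ)} {i : ℕ} (h : ∀ x ∈ ps, x.2 ≠ i) : tupOf ps i = 1 := by
  rw [tupOf, List.filter_eq_nil_iff.2 fun x hx => by simpa using h x hx]
  rfl

theorem sum_weight_tupOf : ∀ {ps : List (F[X] × ℕ)} {ws : List ℕ}, PairsOk ps → ws.Nodup →
    (∀ x ∈ ps, x.2 ∈ ws) → (ws.map fun w => w * (tupOf ps w).natDegree).sum = pdeg ps
  | [], ws, _, _, _ => by simp [tupOf, pdeg, List.sum_eq_zero]
  | x :: ps, ws, hok, hnd, hmem => by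
    classical
    have hok' : PairsOk ps := fun y hy => hok y (List.mem_cons_of_mem _ hy)
    have ih := sum_weight_tupOf hok' hnd fun y hy => hmem y (List.mem_cons_of_mem _ hy)
    obtain ⟨-, hxm, -, -⟩ := hok x List.mem_cons_self
    have e : ∀ w, w * (tupOf (x :: ps) w).natDegree =
        w * (tupOf ps w).natDegree + if w = x.2 then x.2 * x.1.natDegree else 0 := by
      intro w
      rw [tupOf_cons]
      by_cases h : x.2 = w
      · subst h
        rw [if_pos rfl, if_pos rfl, hxm.natDegree_mul (tupOf_monic hok' _).1]; ring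
      · rw [if_neg h, if_neg (Ne.symm h), one_mul, add_zero]
    rw [List.map_congr_left fun w _ => e w, ← List.sum_toFinset _ hnd, Finset.sum_add_distrib,
      List.sum_toFinset _ hnd, ih, Finset.sum_ite_eq' ws.toFinset x.2 fun _ => x.2 * x.1.natDegree,
      if_pos (List.mem_toFinset.2 (hmem x List.mem_cons_self))]
    simp [pdeg]; ring

theorem tupOf_mem_tupSet {ps : List (F[X] × ℕ)} (h : PairsOk ps) :
    tupOf ps ∈ tupSet F (down (pdeg ps)) (pdeg ps) := by
  refine ⟨fun i hi => tupOf_eq_one fun x hx e => hi ?_, fun i => tupOf_monic h i, ?_⟩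
  · rw [(down_nodup _).2]
    exact ⟨e ▸ (h x hx).2.2.1, e ▸ le_pdeg h hx⟩
  · exact sum_weight_tupOf h (down_nodup _).1 fun x hx => ((down_nodup _).2 _).2 ⟨(h x hx).2.2.1, le_pdeg h hx⟩

theorem perm_of_tupOf_eq {ps ps' : List (F[X] × ℕ)} (h : PairsOk ps) (h' : PairsOk ps')
    (he : tupOf ps = tupOf ps') : ps.Perm ps' := by
  classical
  refine List.perm_iff_count.2 fun x => ?_
  have key : ∀ qs : List (F[X] × ℕ), PairsOk qs →
      (UniqueFactorizationMonoid.normalizedFactors (tupOf qs x.2)).count x.1 = qs.count x := by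
    intro qs hqs
    induction qs with
    | nil => simp [tupOf]
    | cons y qs ih =>
      obtain ⟨hy, hym, -, -⟩ := hqs y List.mem_cons_self
      have hqs' : PairsOk qs := fun z hz => hqs z (List.mem_cons_of_mem _ hz)
      rw [tupOf_cons, List.count_cons]
      by_cases e : y.2 = x.2
      · rw [if_pos e, UniqueFactorizationMonoid.normalizedFactors_mul hy.ne_zero (tupOf_monic hqs' _).1.ne_zero,
          UniqueFactorizationMonoid.normalizedFactors_irreducible hy, hym.normalize_eq_self, Multiset.count_add, ih hqs',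
          Multiset.count_singleton]
        by_cases e1 : y.1 = x.1
        · rw [if_pos e1.symm, if_pos (by simp [Prod.ext_iff, e, e1])]; ring
        · rw [if_neg (Ne.symm e1), if_neg (by simp [Prod.ext_iff, e1])]; ring
      · rw [if_neg e, one_mul, ih hqs', if_neg (by simp [Prod.ext_iff, e]), add_zero]
  rw [← key ps h, ← key ps' h', he]

theorem blocks_perm {ps ps' : List (F[X] × ℕ)} (h : ps.Perm ps') : (blocks ps).Perm (blocks ps') := h.map _

/-- Every automorphism has a list of pairs. -/
theorem exists_pairs {V : Type*} [AddCommGroup V] [Module F V] [Module.Finite F V] (φ : Module.End F V)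
    (hφ : LinearMap.det φ ≠ 0) :
    ∃ ps : List (F[X] × ℕ), PairsOk ps ∧ Sim φ (dcyc (blocks ps)) ∧ pdeg ps = finrank F V := by
  classical
  obtain ⟨L, hL, hs⟩ := exists_dcyc φ
  choose P e hP hPm he heq using hL
  set ps : List (F[X] × ℕ) := L.attach.map fun h => (P h.1 h.2, e h.1 h.2) with hps
  have hb : blocks ps = L := by
    rw [blocks, hps, List.map_map]
    conv_rhs => rw [← List.attach_map_subtype_val L]
    exact List.map_congr_left fun h _ => (heq h.1 h.2).symm
  have hm : ∀ h ∈ L, h.Monic := fun h hh => by rw [heq h hh]; exact (hPm h hh).pow _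
  refine ⟨ps, ?_, hb ▸ hs, ?_⟩
  · intro x hx
    obtain ⟨h, -, rfl⟩ := List.mem_map.1 hx
    refine ⟨hP _ h.2, hPm _ h.2, he _ h.2, fun h0 => hφ ?_⟩
    rw [hs.det_eq, det_dcyc hm]
    refine List.prod_eq_zero (List.mem_map.2 ⟨h.1, h.2, ?_⟩)
    rw [heq h.1 h.2, coeff_zero_eq_eval_zero, eval_pow, ← coeff_zero_eq_eval_zero, h0, zero_pow (he _ h.2).ne',
      mul_zero]
  · haveI : ∀ i, Module.Finite F (AdjoinRoot (L.get i)) := fun i => (hm _ (L.get_mem i)).finite_adjoinRoot
    obtain ⟨E, -⟩ := hs
    rw [E.finrank_eq, Module.finrank_pi_fintype, pdeg, hps, List.map_map]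
    rw [← List.sum_ofFn, List.map_congr_left (l := L.attach) (g := (fun h => h.natDegree) ∘ Subtype.val) fun h _ => by
      show e h.1 h.2 * (P h.1 h.2).natDegree = h.1.natDegree
      conv_rhs => rw [heq h.1 h.2, (hPm h.1 h.2).natDegree_pow]]
    rw [← List.map_map, List.attach_map_subtype_val]
    congr 1
    rw [List.ofFn_congr rfl]
    conv_lhs => rw [← List.ofFn_get L, List.map_ofFn]
    congr 1
    funext i
    exact (finrank_adjoinRoot (hm _ (L.get_mem i))).symm

theorem isConj_of_sim {n : ℕ} {g h : GL (Fin n) F}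
    (hs : Sim (Matrix.toLin' (g : Matrix (Fin n) (Fin n) F)) (Matrix.toLin' (h : Matrix (Fin n) (Fin n) F))) :
    IsConj g h := by
  obtain ⟨e, he⟩ := hs
  let x : GL (Fin n) F := ⟨LinearMap.toMatrix' (e : (Fin n → F) →ₗ[F] Fin n → F),
    LinearMap.toMatrix' (e.symm : (Fin n → F) →ₗ[F] Fin n → F),
    by rw [← LinearMap.toMatrix'_comp, e.comp_symm, LinearMap.toMatrix'_id],
    by rw [← LinearMap.toMatrix'_comp, e.symm_comp, LinearMap.toMatrix'_id]⟩
  refine isConj_iff.2 ⟨x, ?_⟩
  rw [mul_inv_eq_iff_eq_mul]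
  refine Units.ext (Matrix.toLin'.injective ?_)
  rw [Units.val_mul, Units.val_mul, Matrix.toLin'_mul, Matrix.toLin'_mul]
  refine LinearMap.ext fun v => ?_
  show Matrix.toLin' (LinearMap.toMatrix' (e : (Fin n → F) →ₗ[F] Fin n → F)) _ = Matrix.toLin' _
    (Matrix.toLin' (LinearMap.toMatrix' (e : (Fin n → F) →ₗ[F] Fin n → F)) v)
  rw [Matrix.toLin'_toMatrix']
  exact he v

end Cfsg.Agent.SLComm
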