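import Cfsg.Agent.EqLemmas
import Mathlib.RingTheory.AdjoinRoot
import Mathlib.LinearAlgebra.Charpoly.Basic
import Mathlib.LinearAlgebra.Determinant
import Mathlib.Algebra.Polynomial.Reverse
import Mathlib.LinearAlgebra.Dual.Lemmas

/-!
# Cyclic endomorphisms up to similarity

* `Sim φ ψ` : the endomorphisms are similar;
* `Cyc h` : multiplication by the root on `F[X]/(h)`;
* `sim_cyc`, `sim_cyc_prod` : recognition by one, resp. two, generating vectors;
* `cyc_mul_sim` : Chinese remainder theorem;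
* `invPoly`, `sim_inv` : the inverse of a cyclic endomorphism.
-/

set_option autoImplicit false
set_option linter.style.haveILetI false

namespace Cfsg.Agent.SLComm

open Polynomial Module

variable {F : Type*} [Field F] {V W U : Type*} [AddCommGroup V] [Module F V] [AddCommGroup W] [Module F W]
  [AddCommGroup U] [Module F U]

/-- Similarity of endomorphisms. -/
def Sim (φ : Module.End F V) (ψ : Module.End F W) : Prop := ∃ e : V ≃ₗ[F] W, ∀ v, e (φ v) = ψ (e v)

theorem Sim.refl (φ : Module.End F V) : Sim φ φ := ⟨LinearEquiv.refl F V, fun _ => rfl⟩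

theorem Sim.symm {φ : Module.End F V} {ψ : Module.End F W} (h : Sim φ ψ) : Sim ψ φ := by
  obtain ⟨e, he⟩ := h
  exact ⟨e.symm, fun w => e.injective (by rw [he]; simp)⟩

theorem Sim.trans {φ : Module.End F V} {ψ : Module.End F W} {χ : Module.End F U} (h : Sim φ ψ) (h' : Sim ψ χ) :
    Sim φ χ := by
  obtain ⟨e, he⟩ := h
  obtain ⟨e', he'⟩ := h'
  exact ⟨e.trans e', fun v => by simp [he, he']⟩

theorem Sim.det_eq {φ : Module.End F V} {ψ : Module.End F W} (h : Sim φ ψ) :
    LinearMap.det φ = LinearMap.det ψ := by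
  obtain ⟨e, he⟩ := h
  rw [← LinearMap.det_conj φ e]
  congr 1
  ext w
  simp [he]

theorem Sim.trace_eq {φ : Module.End F V} {ψ : Module.End F W} (h : Sim φ ψ) :
    LinearMap.trace F V φ = LinearMap.trace F W ψ := by
  obtain ⟨e, he⟩ := h
  rw [← LinearMap.trace_conj' φ e]
  congr 1
  ext w
  simp [LinearEquiv.conj_apply, he]

theorem Sim.charpoly_eq [Module.Finite F V] [Module.Finite F W] {φ : Module.End F V} {ψ : Module.End F W}
    (h : Sim φ ψ) : φ.charpoly = ψ.charpoly := by
  obtain ⟨e, he⟩ := h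
  rw [← e.charpoly_conj φ]
  congr 1
  ext w
  simp [LinearEquiv.conj_apply, he]

theorem Sim.prodMap {V' W' : Type*} [AddCommGroup V'] [Module F V'] [AddCommGroup W'] [Module F W']
    {φ : Module.End F V} {ψ : Module.End F W} {φ' : Module.End F V'} {ψ' : Module.End F W'}
    (h : Sim φ ψ) (h' : Sim φ' ψ') : Sim (φ.prodMap φ') (ψ.prodMap ψ') := by
  obtain ⟨e, he⟩ := h
  obtain ⟨e', he'⟩ := h'
  exact ⟨e.prodCongr e', fun v => by simp [he, he']⟩

theorem sim_prod_comm (φ : Module.End F V) (ψ : Module.End F W) : Sim (φ.prodMap ψ) (ψ.prodMap φ) :=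
  ⟨LinearEquiv.prodComm F V W, fun _ => rfl⟩

theorem sim_prod_assoc (φ : Module.End F V) (ψ : Module.End F W) (χ : Module.End F U) :
    Sim ((φ.prodMap ψ).prodMap χ) (φ.prodMap (ψ.prodMap χ)) :=
  ⟨LinearEquiv.prodAssoc F V W U, fun _ => rfl⟩

theorem Sim.aeval_apply {φ : Module.End F V} {ψ : Module.End F W} (e : V ≃ₗ[F] W)
    (he : ∀ v, e (φ v) = ψ (e v)) (G : F[X]) (v : V) : e (aeval φ G v) = aeval ψ G (e v) := by
  induction G using Polynomial.induction_on generalizing v with
  | C a => simp [Module.algebraMap_end_apply]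
  | add p q hp hq => simp [hp, hq]
  | monomial n a h =>
    rw [pow_succ, ← mul_assoc, map_mul, aeval_X, Module.End.mul_apply, h, he, map_mul (aeval ψ) (C a * X ^ n),
      aeval_X, Module.End.mul_apply]

/-- Conjugating a unit preserves similarity classes. -/
theorem Sim.inv {a : (Module.End F V)ˣ} {b : (Module.End F W)ˣ} (h : Sim (a : Module.End F V) (b : Module.End F W)) :
    Sim ((a⁻¹ : (Module.End F V)ˣ) : Module.End F V) ((b⁻¹ : (Module.End F W)ˣ) : Module.End F W) := by
  obtain ⟨e, he⟩ := h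
  refine ⟨e, fun v => ?_⟩
  have h1 := he ((a⁻¹ : (Module.End F V)ˣ).1 v)
  rw [← Module.End.mul_apply (a : Module.End F V), a.mul_inv, Module.End.one_apply] at h1
  rw [h1, ← Module.End.mul_apply, b.inv_mul, Module.End.one_apply]

/-! ### Generated subspaces -/

/-- The subspace generated by `v` under `φ`. -/
noncomputable def cspan (φ : Module.End F V) (v : V) : Submodule F V :=
  LinearMap.range ((LinearMap.applyₗ v).comp (aeval φ).toLinearMap)

theorem mem_cspan {φ : Module.End F V} {v w : V} : w ∈ cspan φ v ↔ ∃ G : F[X], aeval φ G v = w := Iff.rfl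

theorem self_mem_cspan (φ : Module.End F V) (v : V) : v ∈ cspan φ v := mem_cspan.2 ⟨1, by simp⟩

theorem aeval_mem {φ : Module.End F V} {S : Submodule F V} (hS : ∀ w ∈ S, φ w ∈ S) (G : F[X]) :
    ∀ w ∈ S, aeval φ G w ∈ S := by
  induction G using Polynomial.induction_on with
  | C a => intro w hw; simpa [Module.algebraMap_end_apply] using S.smul_mem a hw
  | add p q hp hq => intro w hw; simpa using S.add_mem (hp w hw) (hq w hw)
  | monomial n a h =>
    intro w hw
    rw [pow_succ, ← mul_assoc, map_mul, aeval_X, Module.End.mul_apply]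
    exact h _ (hS w hw)

theorem cspan_le {φ : Module.End F V} {v : V} {S : Submodule F V} (hS : ∀ w ∈ S, φ w ∈ S) (hv : v ∈ S) :
    cspan φ v ≤ S := by
  rintro w ⟨G, rfl⟩
  exact aeval_mem hS G v hv

theorem map_mem_cspan {φ : Module.End F V} {v : V} : ∀ w ∈ cspan φ v, φ w ∈ cspan φ v := by
  rintro w ⟨G, rfl⟩
  exact mem_cspan.2 ⟨X * G, by simp⟩

/-! ### The model -/

/-- Multiplication by the root on `F[X]/(h)`. -/
noncomputable def Cyc (h : F[X]) : Module.End F (AdjoinRoot h) := LinearMap.mulLeft F (AdjoinRoot.root h)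

theorem aeval_Cyc (h G : F[X]) : aeval (Cyc h) G = LinearMap.mulLeft F (AdjoinRoot.mk h G) := by
  rw [← AdjoinRoot.aeval_eq, Cyc]
  exact (aeval_algHom_apply (Algebra.lmul F (AdjoinRoot h)) (AdjoinRoot.root h) G)

theorem aeval_Cyc_one (h G : F[X]) : aeval (Cyc h) G 1 = AdjoinRoot.mk h G := by
  rw [aeval_Cyc]; simp

theorem finrank_adjoinRoot {h : F[X]} (hm : h.Monic) : finrank F (AdjoinRoot h) = h.natDegree := by
  rw [(AdjoinRoot.powerBasis' hm).finrank]; rfl

/-- Evaluation at a vector killed by `h`. -/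
noncomputable def evMap (φ : Module.End F V) (v : V) {h : F[X]} (hm : h.Monic) : AdjoinRoot h →ₗ[F] V :=
  ((LinearMap.applyₗ v).comp (aeval φ).toLinearMap).comp (AdjoinRoot.modByMonicHom hm)

theorem evMap_mk {φ : Module.End F V} {v : V} {h : F[X]} (hm : h.Monic) (hv : aeval φ h v = 0) (G : F[X]) :
    evMap φ v hm (AdjoinRoot.mk h G) = aeval φ G v := by
  show aeval φ (AdjoinRoot.modByMonicHom hm (AdjoinRoot.mk h G)) v = _
  rw [AdjoinRoot.modByMonicHom_mk]
  conv_rhs => rw [← modByMonic_add_div G h]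
  rw [map_add, LinearMap.add_apply, mul_comm h, map_mul, Module.End.mul_apply, hv, map_zero, add_zero]

theorem evMap_mul_root {φ : Module.End F V} {v : V} {h : F[X]} (hm : h.Monic) (hv : aeval φ h v = 0)
    (x : AdjoinRoot h) : evMap φ v hm (Cyc h x) = φ (evMap φ v hm x) := by
  induction x using AdjoinRoot.induction_on with
  | _ G =>
    show evMap φ v hm (AdjoinRoot.root h * AdjoinRoot.mk h G) = _
    rw [show AdjoinRoot.root h = AdjoinRoot.mk h X from rfl, ← map_mul, evMap_mk hm hv, evMap_mk hm hv,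
      map_mul, aeval_X, Module.End.mul_apply]

/-- Recognition of a cyclic endomorphism. -/
theorem sim_cyc [Module.Finite F V] {φ : Module.End F V} {v : V} {h : F[X]} (hm : h.Monic)
    (hd : finrank F V = h.natDegree) (hspan : cspan φ v = ⊤) (hv : aeval φ h v = 0) : Sim φ (Cyc h) := by
  haveI := hm.finite_adjoinRoot
  have hsurj : Function.Surjective (evMap φ v hm) := fun w => by
    obtain ⟨G, hG⟩ := mem_cspan.1 (hspan ▸ Submodule.mem_top : w ∈ cspan φ v)
    exact ⟨AdjoinRoot.mk h G, by rw [evMap_mk hm hv, hG]⟩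
  have hinj : Function.Injective (evMap φ v hm) :=
    (LinearMap.injective_iff_surjective_of_finrank_eq_finrank (by rw [finrank_adjoinRoot hm, hd])).2 hsurj
  exact Sim.symm ⟨LinearEquiv.ofBijective _ ⟨hinj, hsurj⟩, evMap_mul_root hm hv⟩

/-- A cyclic endomorphism is the model of its characteristic polynomial. -/
theorem sim_cyc_charpoly [Module.Finite F V] {φ : Module.End F V} {v : V} (hspan : cspan φ v = ⊤) :
    Sim φ (Cyc φ.charpoly) :=
  sim_cyc φ.charpoly_monic (φ.charpoly_natDegree).symm hspan (by rw [φ.aeval_self_charpoly]; rfl)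

/-- Recognition by two generating vectors. -/
theorem sim_cyc_prod [Module.Finite F V] {φ : Module.End F V} {v w : V} {h k : F[X]} (hm : h.Monic) (km : k.Monic)
    (hd : finrank F V = h.natDegree + k.natDegree) (hspan : cspan φ v ⊔ cspan φ w = ⊤)
    (hv : aeval φ h v = 0) (hw : aeval φ k w = 0) : Sim φ ((Cyc h).prodMap (Cyc k)) := by
  haveI := hm.finite_adjoinRoot
  haveI := km.finite_adjoinRoot
  let f := (evMap φ v hm).coprod (evMap φ w km)
  have hsurj : Function.Surjective f := fun x => by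
    obtain ⟨a, ha, b, hb, rfl⟩ :=
      Submodule.mem_sup.1 (hspan ▸ Submodule.mem_top : x ∈ cspan φ v ⊔ cspan φ w)
    obtain ⟨G, rfl⟩ := mem_cspan.1 ha
    obtain ⟨H, rfl⟩ := mem_cspan.1 hb
    exact ⟨(AdjoinRoot.mk h G, AdjoinRoot.mk k H), by simp [f, evMap_mk hm hv, evMap_mk km hw]⟩
  have hinj : Function.Injective f :=
    (LinearMap.injective_iff_surjective_of_finrank_eq_finrank
      (by rw [finrank_prod, finrank_adjoinRoot hm, finrank_adjoinRoot km, hd])).2 hsurj
  refine Sim.symm ⟨LinearEquiv.ofBijective f ⟨hinj, hsurj⟩, fun x => ?_⟩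
  show f ((Cyc h).prodMap (Cyc k) x) = φ (f x)
  simp only [f, LinearMap.coprod_apply, LinearMap.prodMap_apply, map_add, evMap_mul_root hm hv,
    evMap_mul_root km hw]

theorem cspan_Cyc (h : F[X]) : cspan (Cyc h) 1 = ⊤ := by
  rw [eq_top_iff]
  intro x _
  induction x using AdjoinRoot.induction_on with
  | _ G => exact mem_cspan.2 ⟨G, aeval_Cyc_one h G⟩

/-- Chinese remainder theorem. -/
theorem cyc_mul_sim {f g : F[X]} (hf : f.Monic) (hg : g.Monic) (hc : IsCoprime f g) :
    Sim (Cyc (f * g)) ((Cyc f).prodMap (Cyc g)) := by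
  haveI := hf.finite_adjoinRoot
  haveI := hg.finite_adjoinRoot
  haveI := (hf.mul hg).finite_adjoinRoot
  obtain ⟨a, b, hab⟩ := hc
  refine sim_cyc_prod (v := AdjoinRoot.mk _ g) (w := AdjoinRoot.mk _ f) hf hg
    (by rw [finrank_adjoinRoot (hf.mul hg), hf.natDegree_mul hg]) ?_ ?_ ?_
  · rw [eq_top_iff]
    intro x _
    induction x using AdjoinRoot.induction_on with
    | _ G =>
      refine Submodule.mem_sup.2 ⟨_, mem_cspan.2 ⟨G * b, rfl⟩, _, mem_cspan.2 ⟨G * a, rfl⟩, ?_⟩
      simp only [aeval_Cyc, LinearMap.mulLeft_apply, ← map_mul, ← map_add]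
      congr 1
      linear_combination G * hab
  · simp only [aeval_Cyc, LinearMap.mulLeft_apply, ← map_mul, AdjoinRoot.mk_self]
  · simp only [aeval_Cyc, LinearMap.mulLeft_apply, ← map_mul, mul_comm g f, AdjoinRoot.mk_self]

theorem det_prodMap' {V' : Type*} [AddCommGroup V'] [Module F V'] [Module.Finite F V] [Module.Finite F V']
    (φ : Module.End F V) (ψ : Module.End F V') :
    LinearMap.det (φ.prodMap ψ) = LinearMap.det φ * LinearMap.det ψ :=
  LinearMap.det_prodMap φ ψ

theorem charpoly_Cyc {h : F[X]} (hm : h.Monic) :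
    haveI := hm.finite_adjoinRoot
    (Cyc h).charpoly = h := by
  haveI := hm.finite_adjoinRoot
  have h1 : h ∣ (Cyc h).charpoly := by
    rw [← AdjoinRoot.mk_eq_zero, ← aeval_Cyc_one, LinearMap.aeval_self_charpoly]
    rfl
  refine Polynomial.eq_of_monic_of_dvd_of_natDegree_le hm (Cyc h).charpoly_monic h1 ?_
  rw [LinearMap.charpoly_natDegree, finrank_adjoinRoot hm]

theorem det_Cyc {h : F[X]} (hm : h.Monic) : LinearMap.det (Cyc h) = (-1) ^ h.natDegree * h.coeff 0 := by
  haveI := hm.finite_adjoinRoot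
  rw [LinearMap.det_eq_sign_charpoly_coeff, charpoly_Cyc hm, finrank_adjoinRoot hm]

theorem natDegree_eq_of_sim [Module.Finite F V] {φ : Module.End F V} {h : F[X]} (hm : h.Monic)
    (hs : Sim φ (Cyc h)) : finrank F V = h.natDegree := by
  obtain ⟨e, -⟩ := hs
  rw [e.finrank_eq, finrank_adjoinRoot hm]

theorem cspan_of_sim {φ : Module.End F V} {h : F[X]} (hs : Sim φ (Cyc h)) : ∃ v, cspan φ v = ⊤ := by
  obtain ⟨e, he⟩ := hs
  refine ⟨e.symm 1, eq_top_iff.2 fun w _ => ?_⟩
  obtain ⟨G, hG⟩ := mem_cspan.1 ((cspan_Cyc h).symm ▸ Submodule.mem_top : e w ∈ cspan (Cyc h) 1)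
  exact mem_cspan.2 ⟨G, e.injective (by rw [Sim.aeval_apply e he, e.apply_symm_apply, hG])⟩

theorem sim_Cyc_linear (c : F) : Sim (Cyc (X - C c)) (c • (1 : Module.End F F)) :=
  Sim.symm (sim_cyc (v := (1 : F)) (monic_X_sub_C c) (by simp)
    (eq_top_iff.2 fun w _ => mem_cspan.2 ⟨C w, by simp [Module.algebraMap_end_apply]⟩)
    (by simp [Module.algebraMap_end_apply]))

/-! ### The polynomial of the inverse -/

/-- The monic reversed polynomial. -/
noncomputable def invPoly (h : F[X]) : F[X] := C (h.coeff 0)⁻¹ * h.reverse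

theorem natDegree_reverse_of_coeff_zero {h : F[X]} (h0 : h.coeff 0 ≠ 0) :
    h.reverse.natDegree = h.natDegree := by
  rw [reverse_natDegree, natTrailingDegree_eq_zero.2 (Or.inr h0), Nat.sub_zero]

theorem invPoly_natDegree {h : F[X]} (h0 : h.coeff 0 ≠ 0) : (invPoly h).natDegree = h.natDegree := by
  rw [invPoly, natDegree_C_mul (inv_ne_zero h0), natDegree_reverse_of_coeff_zero h0]

theorem invPoly_monic {h : F[X]} (h0 : h.coeff 0 ≠ 0) : (invPoly h).Monic := by
  rw [invPoly, Monic, leadingCoeff_mul, leadingCoeff_C, reverse_leadingCoeff, trailingCoeff,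
    natTrailingDegree_eq_zero.2 (Or.inr h0), inv_mul_cancel₀ h0]

theorem invPoly_coeff_zero {h : F[X]} (hm : h.Monic) : (invPoly h).coeff 0 = (h.coeff 0)⁻¹ := by
  rw [invPoly, coeff_C_mul, coeff_zero_reverse, hm.leadingCoeff, mul_one]

theorem invPoly_mul (f g : F[X]) : invPoly (f * g) = invPoly f * invPoly g := by
  rw [invPoly, invPoly, invPoly, mul_coeff_zero, mul_inv, map_mul, reverse_mul_of_domain]
  ring

theorem invPoly_pow (f : F[X]) (k : ℕ) : invPoly (f ^ k) = invPoly f ^ k := by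
  induction k with
  | zero => rw [pow_zero, pow_zero, invPoly, ← C_1, reverse_C, coeff_C_zero, inv_one, ← map_mul, mul_one]
  | succ k ih => rw [pow_succ, invPoly_mul, ih, pow_succ]

theorem invPoly_linear {c : F} (hc : c ≠ 0) : invPoly (X - C c) = X - C c⁻¹ := by
  have hX : (X : F[X]).reverse = 1 := by
    rw [show (X : F[X]) = 1 * X by rw [one_mul], reverse_mul_X, ← C_1, reverse_C]
  have h : (X - C c).reverse = C 1 + C (-c) * X := by
    rw [sub_eq_add_neg, ← map_neg, reverse_add_C, natDegree_X, pow_one, hX, map_one]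
  rw [invPoly, h]
  simp only [coeff_sub, coeff_X_zero, coeff_C_zero, zero_sub, inv_neg, map_neg, map_one]
  rw [mul_add, mul_one, ← mul_assoc, neg_mul_neg, ← map_mul, inv_mul_cancel₀ hc, map_one, one_mul]
  ring

/-- Inverse of a cyclic endomorphism. -/
theorem sim_inv [Module.Finite F V] (a : (Module.End F V)ˣ) {h : F[X]} (hm : h.Monic) (h0 : h.coeff 0 ≠ 0)
    (hs : Sim (a : Module.End F V) (Cyc h)) :
    Sim ((a⁻¹ : (Module.End F V)ˣ) : Module.End F V) (Cyc (invPoly h)) := by
  haveI := hm.finite_adjoinRoot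
  obtain ⟨r, hr⟩ : ∃ r, r * AdjoinRoot.root h = 1 := by
    refine ⟨AdjoinRoot.mk h (C (-(h.coeff 0)⁻¹) * h.divX), ?_⟩
    rw [show AdjoinRoot.root h = AdjoinRoot.mk h X from rfl, ← map_mul, ← map_one (AdjoinRoot.mk h),
      AdjoinRoot.mk_eq_mk]
    refine ⟨C (-(h.coeff 0)⁻¹), ?_⟩
    conv_rhs => arg 1; rw [← X_mul_divX_add h]
    rw [add_mul, ← map_mul, mul_neg, mul_inv_cancel₀ h0, map_neg, map_neg, map_one]
    ring
  obtain ⟨e, he⟩ := hs
  let B : (Module.End F (AdjoinRoot h))ˣ :=
    ⟨Cyc h, LinearMap.mulLeft F r, LinearMap.ext fun x => by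
        show AdjoinRoot.root h * (r * x) = x
        rw [← mul_assoc, mul_comm _ r, hr, one_mul], LinearMap.ext fun x => by
        show r * (AdjoinRoot.root h * x) = x
        rw [← mul_assoc, hr, one_mul]⟩
  refine (Sim.inv (b := B) ⟨e, he⟩).trans ?_
  show Sim (LinearMap.mulLeft F r) _
  refine sim_cyc (v := (1 : AdjoinRoot h)) (invPoly_monic h0)
    (by rw [finrank_adjoinRoot hm, invPoly_natDegree h0]) ?_ ?_
  · set S := cspan (LinearMap.mulLeft F r) (1 : AdjoinRoot h) with hS
    have hinj : Function.Injective (LinearMap.mulLeft F r) :=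
      fun x y hxy => by
        simpa [← mul_assoc, mul_comm _ r, hr] using congrArg (AdjoinRoot.root h * ·) hxy
    have hmap : S.map (LinearMap.mulLeft F r) = S := by
      refine Submodule.eq_of_le_of_finrank_eq (Submodule.map_le_iff_le_comap.2 map_mem_cspan) ?_
      exact ((Submodule.equivMapOfInjective _ hinj S).finrank_eq).symm
    have hinv : ∀ x ∈ S, Cyc h x ∈ S := fun x hx => by
      rw [← hmap] at hx
      obtain ⟨y, hy, rfl⟩ := hx
      show AdjoinRoot.root h * (r * y) ∈ S
      rwa [← mul_assoc, mul_comm _ r, hr, one_mul]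
    rw [eq_top_iff, ← cspan_Cyc h]
    exact cspan_le hinv (self_mem_cspan _ _)
  · have e1 : aeval (LinearMap.mulLeft F r) (invPoly h) (1 : AdjoinRoot h) = aeval r (invPoly h) := by
      rw [show LinearMap.mulLeft F r = Algebra.lmul F (AdjoinRoot h) r from rfl, aeval_algHom_apply]
      simp
    rw [e1, invPoly, map_mul, aeval_C]
    letI : Invertible (AdjoinRoot.root h) := ⟨r, hr, by rw [mul_comm]; exact hr⟩
    have h2 := eval₂_reverse_mul_pow (algebraMap F (AdjoinRoot h)) (AdjoinRoot.root h) h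
    have h3 : aeval r h.reverse = 0 := by
      have hz : eval₂ (algebraMap F (AdjoinRoot h)) (AdjoinRoot.root h) h = 0 :=
        (aeval_def _ _).symm.trans (by rw [AdjoinRoot.aeval_eq, AdjoinRoot.mk_self])
      rw [hz] at h2
      have h4 := (((isUnit_of_invertible (AdjoinRoot.root h)).pow _).mul_left_eq_zero).1 h2
      exact (aeval_def r h.reverse).trans h4
    rw [h3, mul_zero]

end Cfsg.Agent.SLComm
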