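import Cfsg.Agent.Lib.SLComm.Blocks

/-!
# Commutators in the special linear groups over fields with at least four elements

* `gad_large` : every endomorphism of determinant one on a space of dimension at least two is a commutator
  of two automorphisms of determinant one.
-/

set_option autoImplicit false
set_option linter.style.haveILetI false
set_option linter.unusedVariables false

namespace Cfsg.Agent.SLComm

open Polynomial Module Matrix

variable {F : Type*} [Field F]

/-- The determinant of the model of `h`. -/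
noncomputable def cdet (h : F[X]) : F := (-1) ^ h.natDegree * h.coeff 0

theorem cdet_mul {f g : F[X]} (hf : f.Monic) (hg : g.Monic) : cdet (f * g) = cdet f * cdet g := by
  rw [cdet, cdet, cdet, hf.natDegree_mul hg, mul_coeff_zero, pow_add]; ring

theorem cdet_linear (c : F) : cdet (X - C c) = c := by simp [cdet]

theorem cdet_pow {f : F[X]} (hf : f.Monic) (k : ℕ) : cdet (f ^ k) = cdet f ^ k := by
  induction k with
  | zero => simp [cdet]
  | succ k ih => rw [pow_succ, cdet_mul (hf.pow k) hf, ih, pow_succ]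

/-- The determinant of a list of blocks. -/
noncomputable def ldet (L : List F[X]) : F := (L.map cdet).prod

theorem coprime_linear {p : F[X]} {c : F} (h : p.eval c ≠ 0) : IsCoprime (X - C c) p :=
  (irreducible_X_sub_C c).coprime_iff_not_dvd.2 fun hd => h (dvd_iff_isRoot.1 hd)

theorem exists_avoid [Finite F] (s : Finset F) (h : s.card < Nat.card F) : ∃ x, x ∉ s := by
  by_contra hh
  push Not at hh
  haveI := Fintype.ofFinite F
  rw [Nat.card_eq_fintype_card, ← Finset.card_univ] at h
  exact absurd (Finset.card_le_card fun x _ => hh x) (not_le.2 h)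

theorem exists_avoid3 [Finite F] (hq : 4 ≤ Nat.card F) (a b e : F) : ∃ x, x ≠ a ∧ x ≠ b ∧ x ≠ e := by
  classical
  obtain ⟨x, hx⟩ := exists_avoid ({a, b, e} : Finset F) (lt_of_le_of_lt Finset.card_le_three (by omega))
  simp only [Finset.mem_insert, Finset.mem_singleton, not_or] at hx
  exact ⟨x, hx⟩

theorem exists_quad [Finite F] (hq : 4 ≤ Nat.card F) {N : F} (hN : N ≠ 0) :
    ∃ τ : F, τ ≠ 0 ∧ ∀ x : F, x ^ 2 - τ * x + N ≠ 0 := by
  classical
  haveI := Fintype.ofFinite F
  rw [Nat.card_eq_fintype_card] at hq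
  by_contra h
  push Not at h
  set U : Finset F := Finset.univ.erase 0 with hU
  set g : F → F := fun x => x + N / x with hg
  set A := U.filter fun x => x * x = N
  set B := U.filter fun x => ¬ x * x = N
  have hsub : Finset.univ.erase (0 : F) ⊆ A.image g ∪ B.image g := by
    intro τ hτ
    obtain ⟨x, hx⟩ := h τ (Finset.ne_of_mem_erase hτ)
    have hx0 : x ≠ 0 := fun e => hN (by simpa [e] using hx)
    have hxg : g x = τ := by
      simp only [g]
      field_simp
      linear_combination hx
    by_cases hA : x * x = N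
    · exact Finset.mem_union_left _ (Finset.mem_image.2 ⟨x, by simp [A, U, hx0, hA], hxg⟩)
    · exact Finset.mem_union_right _ (Finset.mem_image.2 ⟨x, by simp [B, U, hx0, hA], hxg⟩)
  have hA2 : A.card ≤ 2 := by
    rcases A.eq_empty_or_nonempty with e | ⟨r, hr⟩
    · simp [e]
    · refine (Finset.card_le_card (t := {r, -r}) fun x hx => ?_).trans Finset.card_le_two
      simp [A, U] at hr hx
      rw [Finset.mem_insert, Finset.mem_singleton]
      exact mul_self_eq_mul_self_iff.1 (hx.2.trans hr.2.symm)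
  have hB2 : 2 * (B.image g).card ≤ B.card := by
    refine Finset.mul_card_image_le_card (f := g) _ 2 fun τ hτ => ?_
    obtain ⟨x, hx, rfl⟩ := Finset.mem_image.1 hτ
    simp [B, U] at hx
    have hne : x ≠ N / x := fun e => hx.2 (by rw [eq_div_iff hx.1] at e; exact e)
    rw [← Finset.card_pair hne]
    refine Finset.card_le_card fun y hy => ?_
    rw [Finset.mem_insert, Finset.mem_singleton] at hy
    rw [Finset.mem_filter]
    rcases hy with rfl | rfl
    · simp [B, U, hx.1, hx.2]
    · refine ⟨?_, ?_⟩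
      · simp only [B, U, Finset.mem_filter, Finset.mem_erase, Finset.mem_univ, and_true]
        refine ⟨div_ne_zero hN hx.1, fun e => hx.2 ?_⟩
        rw [div_mul_div_comm, div_eq_iff (mul_ne_zero hx.1 hx.1)] at e
        exact (mul_left_cancel₀ hN e).symm
      · simp only [g]
        rw [div_div_cancel₀ hN]
        ring
  have hAB : A.card + B.card = Fintype.card F - 1 := by
    rw [show A.card + B.card = U.card from Finset.card_filter_add_card_filter_not _, hU,
      Finset.card_erase_of_mem (Finset.mem_univ _), Finset.card_univ]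
  have h1 := (Finset.card_le_card hsub).trans (Finset.card_union_le _ _)
  rw [Finset.card_erase_of_mem (Finset.mem_univ _), Finset.card_univ] at h1
  have h2 : (A.image g).card ≤ A.card := Finset.card_image_le
  omega

theorem invPoly_quad {τ N : F} (hN : N ≠ 0) :
    invPoly (X ^ 2 - C (τ / N) * X + C N⁻¹) = X ^ 2 - C τ * X + C N := by
  have hX : (X : F[X]).reverse = 1 := by
    rw [show (X : F[X]) = 1 * X by rw [one_mul], reverse_mul_X, ← C_1, reverse_C]
  have hd : ((X + C (-(τ / N))) * X : F[X]).natDegree = 2 := by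
    rw [(monic_X_add_C _).natDegree_mul monic_X, natDegree_X_add_C, natDegree_X]
  have h : (X ^ 2 - C (τ / N) * X + C N⁻¹ : F[X]).reverse = 1 + C (-(τ / N)) * X + C N⁻¹ * X ^ 2 := by
    rw [show (X ^ 2 - C (τ / N) * X + C N⁻¹ : F[X]) = (X + C (-(τ / N))) * X + C N⁻¹ by rw [map_neg]; ring,
      reverse_add_C, hd, reverse_mul_X, reverse_add_C, natDegree_X, pow_one, hX]
  rw [invPoly, h]
  simp only [coeff_add, coeff_sub, coeff_X_pow, mul_coeff_zero, coeff_X_zero, coeff_C_zero]
  simp only [OfNat.zero_ne_ofNat, if_false, mul_zero, sub_zero, zero_add, inv_inv]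
  rw [mul_add, mul_add, ← mul_assoc, ← mul_assoc, ← map_mul, ← map_mul, mul_inv_cancel₀ hN,
    show N * -(τ / N) = -τ by field_simp, map_neg, map_one]
  ring

/-- The step of the chain: a block moves the free root from `d` to `d / cdet h`. -/
theorem exists_link [Finite F] (hq : 4 ≤ Nat.card F) {h : F[X]} (hm : h.Monic) (hd : 0 < h.natDegree)
    (h0 : h.coeff 0 ≠ 0) {d : F} (hd0 : d ≠ 0) :
    ∃ fs gs : List F[X], (∀ p ∈ fs ++ gs, p.Monic) ∧ ldet fs ≠ 0 ∧ BFac (Cyc h) (dcyc fs) (dcyc gs) ∧
      ((X - C (d / cdet h)) :: fs).Perm ((X - C d) :: gs) := by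
  obtain ⟨a, ha⟩ : ∃ a, h.natDegree = a + 1 := ⟨h.natDegree - 1, by omega⟩
  set δ := cdet h with hδ
  have hδ0 : δ ≠ 0 := mul_ne_zero (pow_ne_zero _ (neg_ne_zero.2 one_ne_zero)) h0
  set d' := d / δ with hd'
  have hd'0 : d' ≠ 0 := div_ne_zero hd0 hδ0
  obtain ⟨c, hc0, hcd, hcd'⟩ := exists_avoid3 hq 0 d d'
  refine ⟨[(X - C c) ^ a, X - C d], [(X - C c) ^ a, X - C d'], ?_, ?_, ?_, ?_⟩
  · simp [monic_X_sub_C, (monic_X_sub_C c).pow a]
  · simp [ldet, cdet_pow (monic_X_sub_C c), cdet_linear, hc0, hd0]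
  · have hdeg : ((X - C c) ^ a * (X - C d)).natDegree = a + 0 + 1 := by
      rw [((monic_X_sub_C c).pow a).natDegree_mul (monic_X_sub_C d), (monic_X_sub_C c).natDegree_pow,
        natDegree_X_sub_C, natDegree_X_sub_C]
      omega
    have hf := fac_two (a := a) (b := 0) (c := c⁻¹) (c' := d'⁻¹) (h := h)
      (Or.inr ⟨inv_ne_zero hc0, fun e => hcd' (inv_inj.1 e)⟩) (fun _ => rfl) (inv_ne_zero hd'0)
      (((monic_X_sub_C c).pow a).mul (monic_X_sub_C d)) hdeg hm ha (by
        rw [mul_coeff_zero, coeff_zero_linear_pow, coeff_sub, coeff_X_zero, coeff_C_zero, zero_sub, inv_pow,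
          zero_add, pow_one, hd', inv_div, hδ, cdet, ha]
        field_simp
        rw [neg_pow c a]
        ring_nf
        rw [pow_mul', neg_one_sq, one_pow]
        try ring)
    rw [invPoly_mul, invPoly_pow, invPoly_pow, invPoly_linear (inv_ne_zero hc0), invPoly_linear (inv_ne_zero hd'0),
      inv_inv, inv_inv, pow_one] at hf
    refine hf.bfac.sim (Sim.refl _) (sim_cyc_pair ((monic_X_sub_C c).pow a) (monic_X_sub_C d) ?_)
      (sim_cyc_pair ((monic_X_sub_C c).pow a) (monic_X_sub_C d') ?_)
    · exact (isCoprime_X_sub_C_of_isUnit_sub (sub_ne_zero.2 hcd).isUnit).pow_left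
    · exact (isCoprime_X_sub_C_of_isUnit_sub (sub_ne_zero.2 hcd').isUnit).pow_left
  · refine ((List.Perm.swap _ _ _).trans ((List.Perm.cons _ (List.Perm.swap _ _ _)).trans ?_))
    exact List.Perm.swap _ _ _

theorem exists_chain [Finite F] (hq : 4 ≤ Nat.card F) :
    ∀ (L : List F[X]), (∀ h ∈ L, h.Monic ∧ 0 < h.natDegree ∧ h.coeff 0 ≠ 0) → ∀ d : F, d ≠ 0 →
      ∃ fs gs : List F[X], (∀ p ∈ fs ++ gs, p.Monic) ∧ ldet fs ≠ 0 ∧ BFac (dcyc L) (dcyc fs) (dcyc gs) ∧
        ((X - C (d / ldet L)) :: fs).Perm ((X - C d) :: gs)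
  | [], _, d, _ => ⟨[], [], by simp, by simp [ldet], bfac_nil, by simp [ldet]⟩
  | h :: L, hL, d, hd0 => by
    obtain ⟨hm, hd, h0⟩ := hL h List.mem_cons_self
    obtain ⟨F1, G1, hm1, hd1, hb1, hp1⟩ := exists_link hq hm hd h0 hd0
    have hδ0 : cdet h ≠ 0 := mul_ne_zero (pow_ne_zero _ (neg_ne_zero.2 one_ne_zero)) h0
    obtain ⟨fs, gs, hm2, hd2, hb2, hp2⟩ := exists_chain hq L (fun p hp => hL p (List.mem_cons_of_mem _ hp))
      (d / cdet h) (div_ne_zero hd0 hδ0)
    refine ⟨F1 ++ fs, G1 ++ gs, ?_, ?_, hb1.cons hb2, ?_⟩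
    · intro p hp
      simp only [List.mem_append] at hp
      rcases hp with (hp | hp) | (hp | hp)
      · exact hm1 p (by simp [hp])
      · exact hm2 p (by simp [hp])
      · exact hm1 p (by simp [hp])
      · exact hm2 p (by simp [hp])
    · simp only [ldet, List.map_append, List.prod_append] at *
      exact mul_ne_zero hd1 hd2
    · rw [show ldet (h :: L) = cdet h * ldet L by simp [ldet], ← div_div]
      refine (List.perm_middle.symm.trans ((hp2.append_left F1).trans ?_))
      refine List.perm_middle.trans ?_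
      exact hp1.append_right gs

/-- A block of degree at least three closes the chain. -/
theorem gadL_big [Finite F] (hq : 4 ≤ Nat.card F) {h : F[X]} {L : List F[X]}
    (hL : ∀ p ∈ h :: L, p.Monic ∧ 0 < p.natDegree ∧ p.coeff 0 ≠ 0) (h3 : 3 ≤ h.natDegree)
    (hdet : ldet (h :: L) = 1) : GadL (h :: L) 1 := by
  obtain ⟨hm, -, h0⟩ := hL h List.mem_cons_self
  obtain ⟨fs, gs, hm2, hd2, hb2, hp2⟩ := exists_chain hq L (fun p hp => hL p (List.mem_cons_of_mem _ hp)) 1 one_ne_zero
  obtain ⟨a, ha⟩ : ∃ a, h.natDegree = a + 3 := ⟨h.natDegree - 3, by omega⟩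
  set δ := cdet h with hδ
  have hδ0 : δ ≠ 0 := mul_ne_zero (pow_ne_zero _ (neg_ne_zero.2 one_ne_zero)) h0
  have hLd : 1 / ldet L = δ := by
    have : δ * ldet L = 1 := by rw [← hdet]; simp [ldet, δ]
    rw [one_div, eq_comm]
    exact eq_inv_of_mul_eq_one_left this
  rw [hLd] at hp2
  obtain ⟨c, hc0, hcd, hc1⟩ := exists_avoid3 hq 0 δ 1
  set N := (ldet fs * c ^ a * δ)⁻¹ with hN
  have hN0 : N ≠ 0 := inv_ne_zero (mul_ne_zero (mul_ne_zero hd2 (pow_ne_zero _ hc0)) hδ0)
  obtain ⟨τ, hτ, hp⟩ := exists_quad hq hN0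
  set p : F[X] := X ^ 2 - C τ * X + C N with hp'
  have hpm : p.Monic := by rw [hp']; monicity!
  have hpd : p.natDegree = 2 := by rw [hp']; compute_degree!
  have hpev : ∀ x, p.eval x ≠ 0 := fun x => by simpa [p] using hp x
  have hdeg : (p * (X - C c) ^ a * (X - C δ)).natDegree = a + 0 + 3 := by
    rw [(hpm.mul ((monic_X_sub_C c).pow a)).natDegree_mul (monic_X_sub_C δ),
      hpm.natDegree_mul ((monic_X_sub_C c).pow a), (monic_X_sub_C c).natDegree_pow,
      natDegree_X_sub_C, natDegree_X_sub_C, hpd]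
    omega
  have hroot : ∀ x : F, x ^ 2 - τ / N * x + N⁻¹ ≠ 0 := fun x e => by
    have hx : x ≠ 0 := fun e0 => inv_ne_zero hN0 (by simpa [e0] using e)
    refine hp x⁻¹ ?_
    field_simp at e ⊢
    linear_combination e
  have hf := fac_corner (a := a) (b := 0) (τ := τ / N) (N := N⁻¹) (c := c⁻¹) (c' := 1) (h := h)
    (div_ne_zero hτ hN0) (inv_ne_zero hN0) hroot
    (Or.inr ⟨inv_ne_zero hc0, fun e => hc1 (inv_eq_one.1 e)⟩) one_ne_zero
    ((hpm.mul ((monic_X_sub_C c).pow a)).mul (monic_X_sub_C δ)) hdeg hm ha (by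
      rw [mul_coeff_zero, mul_coeff_zero, coeff_zero_linear_pow, coeff_zero_eq_eval_zero p]
      simp only [p, eval_add, eval_sub, eval_pow, eval_X, eval_mul, eval_C, coeff_sub, coeff_X_zero, coeff_C_zero]
      simp only [ne_eq, OfNat.ofNat_ne_zero, not_false_eq_true, zero_pow, mul_zero, sub_zero, zero_add, zero_sub,
        one_pow, mul_one]
      rw [hδ, cdet, ha, inv_pow, neg_pow c a]
      field_simp
      ring_nf
      rw [pow_mul', neg_one_sq, one_pow]
      try ring)
  rw [invPoly_mul, invPoly_mul, invPoly_pow, invPoly_pow, invPoly_linear (inv_ne_zero hc0),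
    invPoly_linear one_ne_zero, invPoly_quad hN0, inv_inv, inv_one, pow_one] at hf
  have hsplit : ∀ x : F, c ≠ x → Sim (Cyc (p * (X - C c) ^ a * (X - C x))) (dcyc [p, (X - C c) ^ a, X - C x]) := by
    intro x hcx
    have h1 : IsCoprime ((X - C c) ^ a) (X - C x) :=
      (isCoprime_X_sub_C_of_isUnit_sub (sub_ne_zero.2 hcx).isUnit).pow_left
    have h2 : IsCoprime p ((X - C c) ^ a * (X - C x)) :=
      IsCoprime.mul_right ((coprime_linear (hpev c)).pow_left).symm (coprime_linear (hpev x)).symm
    rw [mul_assoc]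
    exact (cyc_mul_sim hpm (((monic_X_sub_C c).pow a).mul (monic_X_sub_C x)) h2).trans
      (((Sim.refl _).prodMap (sim_cyc_pair ((monic_X_sub_C c).pow a) (monic_X_sub_C x) h1)).trans
        (dcyc_cons _ _).symm)
  have hb := (hf.bfac.sim (Sim.refl _) (hsplit δ hcd) (hsplit 1 hc1)).cons hb2
  have hperm : ([p, (X - C c) ^ a, X - C δ] ++ fs).Perm ([p, (X - C c) ^ a, X - C (1 : F)] ++ gs) :=
    (hp2.cons _).cons _
  have hmf : ∀ q ∈ [p, (X - C c) ^ a, X - C δ] ++ fs, q.Monic := by
    intro q hq'
    rcases List.mem_append.1 hq' with hq' | hq'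
    · simp only [List.mem_cons, List.not_mem_nil, or_false] at hq'
      rcases hq' with rfl | rfl | rfl
      exacts [hpm, (monic_X_sub_C c).pow a, monic_X_sub_C δ]
    · exact hm2 q (List.mem_append_left _ hq')
  haveI := finite_dcyc (L := [p, (X - C c) ^ a, X - C (1 : F)] ++ gs) fun q hq' => hmf q (hperm.mem_iff.2 hq')
  have hdetf : LinearMap.det (dcyc ([p, (X - C c) ^ a, X - C δ] ++ fs)) = 1 := by
    rw [det_dcyc hmf]
    show ldet _ = 1
    rw [show ldet ([p, (X - C c) ^ a, X - C δ] ++ fs) = cdet p * (c ^ a * (δ * ldet fs)) by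
      simp [ldet, cdet_pow (monic_X_sub_C c), cdet_linear, mul_assoc]]
    rw [show cdet p = N by simp [cdet, hpd, p], hN]
    field_simp
  refine (gad_of_bfac hb (dcyc_perm hperm) (by rw [hdetf]; exact one_ne_zero)
    (centSurj_dcyc_line hmf (c := δ) (by simp))).congr hdetf

/-! ### Small blocks -/

variable [Finite F]

theorem gadL_lines {k : ℕ} (d : Fin (k + 1) → F) (hd : ∏ i, d i = 1) :
    GadL (List.ofFn fun i => X - C (d i)) 1 := by
  have hpart : HasPart (X * (∏ _j : Fin k, (X - C (0 : F))) - C ((-1) ^ k)) := by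
    have h := hasPart_chord (F := F) (n := k + 1) (m := 0) (η := 0) (c := (-1) ^ k) (by omega) k.succ_pos
      (pow_ne_zero _ (neg_ne_zero.2 one_ne_zero)) (Or.inl rfl) (fun h => by omega)
    simpa [pow_succ'] using h
  refine Gad.sim (gad_chord d hd (fun _ => 0) (fun _ _ _ => Or.inl rfl) hpart) ?_
  refine Sim.trans (dcyc_ofFn (fun i => d i • (1 : Module.End F F)) _ fun i => (sim_Cyc_linear (d i)).symm).symm
    ⟨LinearEquiv.refl F _, fun v => funext fun i => ?_⟩
  show d i * v i = (Matrix.of _ *ᵥ v) i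
  rw [Matrix.mulVec, dotProduct, Finset.sum_eq_single i (fun j _ hj => by simp [hj.symm]) (by simp)]
  simp

theorem gadL_replicate_field {P : F[X]} (hP : Irreducible P) (hPm : P.Monic) (k : ℕ)
    (hdet : ldet (List.replicate (k + 1) P) = 1) : GadL (List.replicate (k + 1) P) 1 := by
  haveI := Fintype.ofFinite F
  haveI := Fact.mk hP
  haveI := hPm.finite_adjoinRoot
  haveI : Finite (AdjoinRoot P) := Module.finite_of_finite F
  have hn : Algebra.norm F (AdjoinRoot.root P) = cdet P := det_Cyc hPm
  rw [← List.ofFn_const]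
  refine Gad.sim (gad_semilinear k (AdjoinRoot.root P) ?_) (dcyc_ofFn _ _ fun _ => Sim.refl _).symm
  rw [hn, ← hdet]
  simp [ldet]

/-- Chords on the first `m` pairs. -/
def pairM (lam t : F) (m n : ℕ) : Matrix (Fin n) (Fin n) F :=
  Matrix.of fun i j => if i = j then lam else if j.val = i.val + 1 ∧ i.val % 2 = 0 ∧ i.val < 2 * m then t else 0

theorem sim_pairM (lam : F) {t : F} (ht : t ≠ 0) : ∀ (m l n : ℕ), n = 2 * m + l →
    Sim (Matrix.toLin' (pairM lam t m n)) (dcyc (List.replicate m ((X - C lam) ^ 2) ++ List.replicate l (X - C lam)))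
  | 0, l, n, hn => by
    obtain rfl : n = l := by omega
    rw [List.replicate_zero, List.nil_append, ← List.ofFn_const]
    refine Sim.trans ⟨LinearEquiv.refl F _, fun v => funext fun i => ?_⟩
      (dcyc_ofFn (fun _ => lam • (1 : Module.End F F)) _ fun _ => (sim_Cyc_linear lam).symm)
    show (pairM lam t 0 n *ᵥ v) i = lam * v i
    rw [Matrix.mulVec, dotProduct, Finset.sum_eq_single i (fun j _ hj => by simp [pairM, hj.symm]) (by simp)]
    simp [pairM]
  | m + 1, l, n, hn => by
    obtain rfl : n = 2 + (2 * m + l) := by omega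
    rw [List.replicate_succ, List.cons_append]
    refine ((sim_split _ (pairM lam t 1 2) (pairM lam t m (2 * m + l)) ?_ ?_ ?_).trans
      (((?_ : Sim (Matrix.toLin' (pairM lam t 1 2)) (Cyc ((X - C lam) ^ 2))).prodMap
        (sim_pairM lam ht m l _ rfl)))).trans (dcyc_cons _ _).symm
    · intro i j
      simp only [pairM, Matrix.of_apply, Fin.castAdd_inj, Fin.val_castAdd]
      have := i.isLt
      split_ifs <;> first | rfl | omega
    · intro i j
      simp only [pairM, Matrix.of_apply, Fin.natAdd_inj, Fin.val_natAdd]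
      split_ifs <;> first | rfl | omega
    · intro i j
      have := i.isLt
      constructor <;>
        (simp only [pairM, Matrix.of_apply, Fin.ext_iff, Fin.val_natAdd, Fin.val_castAdd]
         split_ifs <;> first | rfl | omega)
    · have e1 : Matrix.toLin' (pairM lam t 1 2) (Pi.single 1 1) = t • Pi.single 0 1 + lam • Pi.single 1 1 := by
        ext i; fin_cases i <;> simp [pairM, Matrix.toLin'_apply, Matrix.mulVec_single_one, Pi.single_apply]
      have e0 : Matrix.toLin' (pairM lam t 1 2) (Pi.single 0 1) = lam • Pi.single 0 1 := by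
        ext i; fin_cases i <;> simp [pairM, Matrix.toLin'_apply, Matrix.mulVec_single_one, Pi.single_apply]
      have hA : aeval (Matrix.toLin' (pairM lam t 1 2)) (X - C lam) (Pi.single 1 1) = t • Pi.single 0 1 := by
        rw [map_sub, aeval_X, aeval_C, LinearMap.sub_apply, Module.algebraMap_end_apply, e1, add_sub_cancel_right]
      refine sim_cyc (v := Pi.single 1 1) ((monic_X_sub_C lam).pow 2) (by simp) ?_ ?_
      · refine single_span fun j => ?_
        fin_cases j
        · refine mem_cspan.2 ⟨C t⁻¹ * (X - C lam), ?_⟩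
          rw [map_mul, aeval_C, Module.End.mul_apply, hA, Module.algebraMap_end_apply, smul_smul,
            inv_mul_cancel₀ ht, one_smul]
          rfl
        · exact self_mem_cspan _ _
      · rw [pow_two, map_mul, Module.End.mul_apply, hA, map_smul, map_sub, aeval_X, aeval_C, LinearMap.sub_apply,
          e0, Module.algebraMap_end_apply, sub_self, smul_zero]

/-- Blocks of size at most two with one eigenvalue other than one. -/
theorem gadL_pairs (hq : 4 ≤ Nat.card F) {lam : F} (hlam : lam ≠ 1) {m l : ℕ} (hm : 0 < m)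
    (hd : lam ^ (2 * m + l) = 1) :
    GadL (List.replicate m ((X - C lam) ^ 2) ++ List.replicate l (X - C lam)) 1 := by
  classical
  obtain ⟨η, hη0, hη2, hη2'⟩ := exists_avoid3 hq 0 2 (-2)
  obtain ⟨k, hk⟩ : ∃ k, 2 * m + l = k + 1 := ⟨2 * m + l - 1, by omega⟩
  set p := ringChar F
  haveI : Fact p.Prime := ⟨CharP.char_is_prime F p⟩
  have hev : (fun i => i % 2 = 0 ∧ i < 2 * m) = fun i => i % 2 = 0 ∧ i < 2 * m := rfl
  have hcard : ((Finset.range k).filter fun i => i % 2 = 0 ∧ i < 2 * m).card = m := by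
    rw [show (Finset.range k).filter (fun i => i % 2 = 0 ∧ i < 2 * m) = (Finset.range m).image (2 * ·) by
      ext i
      rw [Finset.mem_filter, Finset.mem_range, Finset.mem_image]
      constructor
      · intro h; exact ⟨i / 2, Finset.mem_range.2 (by omega), by omega⟩
      · rintro ⟨j, hj, rfl⟩
        rw [Finset.mem_range] at hj
        omega]
    rw [Finset.card_image_of_injective _ fun a b h => by simpa using h, Finset.card_range]
  have hcard' : ((Finset.range k).filter fun i => ¬ (i % 2 = 0 ∧ i < 2 * m)).card = k - m := by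
    have := Finset.card_filter_add_card_filter_not (s := Finset.range k) (fun i => i % 2 = 0 ∧ i < 2 * m)
    rw [hcard, Finset.card_range] at this
    omega
  have hprod : ∏ j : Fin k, (X - C (if j.val % 2 = 0 ∧ j.val < 2 * m then η else 0)) =
      (X : F[X]) ^ (k - m) * (X - C η) ^ m := by
    rw [Fin.prod_univ_eq_prod_range (fun i => X - C (if i % 2 = 0 ∧ i < 2 * m then η else 0)) k,
      Finset.prod_congr rfl (fun i _ => show (X - C (if i % 2 = 0 ∧ i < 2 * m then η else 0) : F[X]) =
        if i % 2 = 0 ∧ i < 2 * m then X - C η else X by split_ifs <;> simp),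
      Finset.prod_ite, Finset.prod_const, Finset.prod_const, hcard, hcard', mul_comm]
  have hpart : HasPart (X * (∏ j : Fin k, (X - C (if j.val % 2 = 0 ∧ j.val < 2 * m then η else 0))) -
      C ((-1 : F) ^ k)) := by
    rw [hprod, ← mul_assoc, ← pow_succ', show k - m + 1 = (k + 1) - m by omega]
    refine hasPart_chord (by omega) k.succ_pos (pow_ne_zero _ (neg_ne_zero.2 one_ne_zero)) (Or.inr hη0) ?_
    intro hn s c₀ _ hc₀ η₀ hη₀
    obtain rfl : η₀ = η := iterateFrobenius_inj F p s hη₀
    obtain rfl : c₀ = -1 := by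
      refine iterateFrobenius_inj F p s ?_
      show iterateFrobenius F p s c₀ = iterateFrobenius F p s (-1)
      rw [map_neg, map_one, iterateFrobenius_def, hc₀, show k = 2 * (m - 1) + 1 by omega, pow_succ, pow_mul,
        neg_one_sq, one_pow, one_mul]
    intro e
    have : (η₀ - 2) * (η₀ + 2) = 0 := by linear_combination e
    rcases mul_eq_zero.1 this with h | h
    · exact hη2 (sub_eq_zero.1 h)
    · exact hη2' (eq_neg_of_add_eq_zero_left h)
  have hg := gad_chord (k := k) (fun _ => lam)
    (by rw [Finset.prod_const, Finset.card_univ, Fintype.card_fin, ← hk, hd])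
    (fun j => if j.val % 2 = 0 ∧ j.val < 2 * m then η else 0)
    (fun i j hij => by
      by_cases h : i.val % 2 = 0
      · exact Or.inr (if_neg (by omega))
      · exact Or.inl (if_neg (by omega)))
    hpart
  refine Gad.sim hg ((sim_pairM lam (mul_ne_zero hη0 (sub_ne_zero.2 hlam.symm)) m l (k + 1) hk.symm).symm.trans ?_)
  convert Sim.refl _ using 2
  ext i j
  simp only [pairM, Matrix.of_apply]
  split_ifs <;> first | rfl | omega | simp_all

/-- A unipotent Jordan block of size two. -/
theorem gadL_J2 (hq : 4 ≤ Nat.card F) : GadL [(X - C (1 : F)) ^ 2] 1 := by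
  obtain ⟨c, hc0, hc1, hc2⟩ := exists_avoid3 hq 0 1 (-1)
  refine GadL.of_cyc ?_
  have hne : c ≠ c⁻¹ := fun e => by
    have : (c - 1) * (c + 1) = 0 := by
      have h1 : c * c = 1 := by nth_rw 2 [e]; exact mul_inv_cancel₀ hc0
      linear_combination h1
    rcases mul_eq_zero.1 this with h | h
    · exact hc1 (sub_eq_zero.1 h)
    · exact hc2 (eq_neg_of_add_eq_zero_left h)
  set f : F[X] := (X - C c) * (X - C c⁻¹) with hf
  have hfm : f.Monic := (monic_X_sub_C c).mul (monic_X_sub_C _)
  have hfd : f.natDegree = 1 + 0 + 1 := by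
    rw [hf, (monic_X_sub_C c).natDegree_mul (monic_X_sub_C _), natDegree_X_sub_C, natDegree_X_sub_C]
  have h := fac_two (a := 1) (b := 0) (c := c⁻¹) (c' := c) (f := f) (h := (X - C (1 : F)) ^ 2)
    (Or.inr ⟨inv_ne_zero hc0, hne.symm⟩) (fun h => by omega) hc0 hfm hfd ((monic_X_sub_C 1).pow 2) (by rw [(monic_X_sub_C (1 : F)).natDegree_pow, natDegree_X_sub_C]) (by
      rw [coeff_zero_linear_pow, hf, mul_coeff_zero]
      simp [hc0])
  rw [pow_one, pow_one, invPoly_mul, invPoly_linear (inv_ne_zero hc0), invPoly_linear hc0, inv_inv] at h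
  haveI := hfm.finite_adjoinRoot
  have hd : LinearMap.det (Cyc f) = 1 := by
    rw [det_Cyc hfm, hfd, hf, mul_coeff_zero]
    simp [hc0]
  haveI := (monic_X_sub_C c).finite_adjoinRoot
  haveI := (monic_X_sub_C c⁻¹).finite_adjoinRoot
  refine (gad_of_bfac h.bfac (Sim.refl _) (by rw [hd]; exact one_ne_zero) ?_).congr hd
  exact (CentSurj.prod_left (V := AdjoinRoot (X - C c)) (W := AdjoinRoot (X - C c⁻¹)) _ (centSurj_line c)).sim
    (cyc_mul_sim (monic_X_sub_C c) (monic_X_sub_C c⁻¹)
      (isCoprime_X_sub_C_of_isUnit_sub (sub_ne_zero.2 hne).isUnit))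

/-! ### The theorem -/

theorem coprime_of_primes {P Q : F[X]} (hP : Irreducible P) (hQ : Irreducible Q) (hPm : P.Monic) (hQm : Q.Monic)
    (hne : P ≠ Q) : IsCoprime P Q :=
  hP.coprime_iff_not_dvd.2 fun h => hne (eq_of_monic_of_associated hPm hQm (hP.associated_of_dvd hQ h))

theorem gadL_large (hq : 4 ≤ Nat.card F) {L : List F[X]}
    (hL : ∀ h ∈ L, ∃ (P : F[X]) (e : ℕ), Irreducible P ∧ P.Monic ∧ 0 < e ∧ h = P ^ e) (hdet : ldet L = 1) :
    GadL L 1 := by
  classical
  have hmon : ∀ h ∈ L, h.Monic := fun h hh => by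
    obtain ⟨P, e, -, hP, -, rfl⟩ := hL h hh; exact hP.pow e
  have hpos : ∀ h ∈ L, 0 < h.natDegree := fun h hh => by
    obtain ⟨P, e, hP, hPm, he, rfl⟩ := hL h hh
    rw [hPm.natDegree_pow]; exact Nat.mul_pos he hP.natDegree_pos
  have hne : ∀ h ∈ L, h.coeff 0 ≠ 0 := fun h hh e => by
    have : ldet L = 0 := List.prod_eq_zero (List.mem_map.2 ⟨h, hh, by simp [cdet, e]⟩)
    rw [hdet] at this; exact one_ne_zero this
  have hall : ∀ h ∈ L, h.Monic ∧ 0 < h.natDegree ∧ h.coeff 0 ≠ 0 := fun h hh =>
    ⟨hmon h hh, hpos h hh, hne h hh⟩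
  by_cases hbig : ∃ h ∈ L, 3 ≤ h.natDegree
  · obtain ⟨h, hh, h3⟩ := hbig
    have hp := List.perm_cons_erase hh
    exact GadL.perm (gadL_big hq (fun p hp' => hall p (hp.mem_iff.2 hp')) h3
      (by rw [← hdet]; exact ((hp.map cdet).prod_eq).symm)) hp
  push Not at hbig
  by_cases hmerge : ∃ f ∈ L, ∃ g ∈ L, IsCoprime f g ∧ 3 ≤ f.natDegree + g.natDegree
  · obtain ⟨f, hf, g, hg, hfg, h3⟩ := hmerge
    have hgf : g ≠ f := by
      rintro rfl
      have := hpos g hg
      rw [isCoprime_self] at hfg
      rw [natDegree_eq_zero_of_isUnit hfg] at this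
      omega
    have hg' : g ∈ L.erase f := (List.mem_erase_of_ne hgf).2 hg
    have hp : L.Perm (f :: g :: (L.erase f).erase g) :=
      (List.perm_cons_erase hf).trans ((List.perm_cons_erase hg').cons f)
    refine GadL.perm (GadL.merge (hmon f hf) (hmon g hg) hfg (gadL_big hq ?_ ?_ ?_)) hp
    · intro p hp'
      rcases List.mem_cons.1 hp' with rfl | hp'
      · refine ⟨(hmon f hf).mul (hmon g hg), ?_, ?_⟩
        · rw [(hmon f hf).natDegree_mul (hmon g hg)]; omega
        · rw [mul_coeff_zero]; exact mul_ne_zero (hne f hf) (hne g hg)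
      · exact hall p (List.mem_of_mem_erase (List.mem_of_mem_erase hp'))
    · rw [(hmon f hf).natDegree_mul (hmon g hg)]; exact h3
    · rw [← hdet, show ldet L = ((f :: g :: (L.erase f).erase g).map cdet).prod from (hp.map cdet).prod_eq]
      simp [ldet, cdet_mul (hmon f hf) (hmon g hg), mul_assoc]
  push Not at hmerge
  by_cases h2 : ∀ h ∈ L, h.natDegree = 1
  · rcases Nat.eq_zero_or_pos L.length with h0 | h0
    · rw [List.eq_nil_of_length_eq_zero h0]; exact gadL_nil
    obtain ⟨k, hk⟩ : ∃ k, L.length = k + 1 := ⟨L.length - 1, by omega⟩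
    set d : Fin (k + 1) → F := fun i => -(L.get (Fin.cast hk.symm i)).coeff 0
    have hLd : L = List.ofFn fun i => X - C (d i) := by
      refine List.ext_get (by simp [hk]) fun i h1 h2' => ?_
      simp only [List.get_eq_getElem, List.getElem_ofFn]
      have hmem : L[i] ∈ L := List.getElem_mem _
      conv_lhs => rw [(hmon _ hmem).eq_X_add_C (h2 _ hmem)]
      simp [d, sub_eq_add_neg]
    rw [hLd]
    refine gadL_lines d ?_
    rw [← hdet, hLd, ldet, List.map_ofFn, List.prod_ofFn]
    simp [Function.comp_def, cdet_linear]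
  push Not at h2
  obtain ⟨h, hh, hd2⟩ := h2
  have hd2' : h.natDegree = 2 := by have := hbig h hh; have := hpos h hh; omega
  obtain ⟨P, e, hP, hPm, he, rfl⟩ := hL h hh
  -- one prime only
  have hsame : ∀ g ∈ L, ∃ e', 0 < e' ∧ g = P ^ e' := by
    intro g hg
    obtain ⟨Q, e', hQ, hQm, he', rfl⟩ := hL g hg
    refine ⟨e', he', ?_⟩
    by_contra hne'
    have hc : IsCoprime (P ^ e) (Q ^ e') := (coprime_of_primes hP hQ hPm hQm fun h => hne' (by rw [h])).pow
    have := hmerge _ hh _ hg hc
    have := hpos _ hg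
    omega
  rw [hPm.natDegree_pow] at hd2'
  have hPd := hP.natDegree_pos
  have hPcase : P.natDegree = 2 ∧ e = 1 ∨ P.natDegree = 1 ∧ e = 2 := by
    have h1 : P.natDegree ≤ 2 := by rw [← hd2']; exact Nat.le_mul_of_pos_left _ he
    interval_cases hPn : P.natDegree
    · exact Or.inr ⟨rfl, by omega⟩
    · exact Or.inl ⟨rfl, by omega⟩
  rcases hPcase with ⟨hP2, -⟩ | ⟨hP1, -⟩
  · -- copies of an irreducible quadratic
    have hall' : ∀ g ∈ L, g = P := by
      intro g hg
      obtain ⟨e', he', rfl⟩ := hsame g hg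
      have h4 := hbig _ hg
      rw [hPm.natDegree_pow, hP2] at h4
      rw [show e' = 1 by omega, pow_one]
    obtain ⟨k, hk⟩ : ∃ k, L.length = k + 1 :=
      ⟨L.length - 1, by have := List.length_pos_of_mem hh; omega⟩
    have hLr := List.eq_replicate_iff.2 ⟨hk, hall'⟩
    rw [hLr] at hdet ⊢
    exact gadL_replicate_field hP hPm k hdet
  · -- one eigenvalue
    set lam := -P.coeff 0
    have hPl : P = X - C lam := by
      conv_lhs => rw [hPm.eq_X_add_C hP1]
      simp [lam, sub_eq_add_neg]
    set m := L.count (P ^ 2)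
    set l := L.count P
    have hcases : ∀ g ∈ L, g = P ^ 2 ∨ g = P := by
      intro g hg
      obtain ⟨e', he', rfl⟩ := hsame g hg
      have h4 := hbig _ hg
      rw [hPm.natDegree_pow, hP1, mul_one] at h4
      rcases (show e' = 1 ∨ e' = 2 by omega) with rfl | rfl
      · exact Or.inr (pow_one P)
      · exact Or.inl rfl
    have hne12 : P ^ 2 ≠ P := fun e2 => by
      have := congrArg natDegree e2
      rw [hPm.natDegree_pow, hP1] at this
      omega
    have hperm : L.Perm (List.replicate m (P ^ 2) ++ List.replicate l P) := by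
      refine List.perm_iff_count.2 fun g => ?_
      rw [List.count_append, List.count_replicate, List.count_replicate]
      by_cases e2 : g = P ^ 2
      · subst e2; simp [m, hne12.symm]
      · by_cases e1 : g = P
        · subst e1; simp [l, hne12]
        · rw [List.count_eq_zero_of_not_mem (fun hg => (hcases g hg).elim e2 e1)]
          simp [Ne.symm e2, Ne.symm e1]
    refine GadL.perm ?_ hperm
    rw [hPl]
    by_cases hlam : lam = 1
    · rw [hlam]
      clear hperm
      have hJ := gadL_J2 (F := F) hq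
      have hmonJ : ((X - C (1 : F)) ^ 2).Monic := (monic_X_sub_C 1).pow 2
      have hrep : ∀ (n : ℕ) (p : F[X]), p.Monic → GadL [p] 1 → GadL (List.replicate n p) 1 := by
        intro n p hp hg
        induction n with
        | zero => exact gadL_nil
        | succ n ih =>
          have := GadL.append (L := [p]) (L' := List.replicate n p) (by simpa using hp)
            (fun x hx => by rw [List.eq_of_mem_replicate hx]; exact hp) hg ih
          rw [one_mul] at this
          exact this
      have := GadL.append (L := List.replicate m ((X - C (1 : F)) ^ 2)) (L' := List.replicate l (X - C (1 : F)))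
        (fun x hx => by rw [List.eq_of_mem_replicate hx]; exact hmonJ)
        (fun x hx => by rw [List.eq_of_mem_replicate hx]; exact monic_X_sub_C 1)
        (hrep m _ hmonJ hJ) (hrep l _ (monic_X_sub_C 1) gadL_line)
      rwa [one_mul] at this
    · have hm0 : 0 < m := by
        refine List.count_pos_iff.2 ?_
        rcases hcases _ hh with h' | h'
        · exact h' ▸ hh
        · rw [h', hP1] at hd2; exact absurd rfl hd2
      refine gadL_pairs hq hlam hm0 ?_
      rw [← hdet, show ldet L = ((List.replicate m (P ^ 2) ++ List.replicate l P).map cdet).prod from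
        (hperm.map cdet).prod_eq]
      simp [cdet_pow hPm, hPl, cdet_linear, pow_add, pow_mul, cdet_pow (monic_X_sub_C lam)]

/-- Every endomorphism of determinant one is a commutator, for at least four elements. -/
theorem gad_large (hq : 4 ≤ Nat.card F) {V : Type*} [AddCommGroup V] [Module F V] [Module.Finite F V]
    (φ : Module.End F V) (hdet : LinearMap.det φ = 1) : Gad φ 1 := by
  obtain ⟨L, hL, hs⟩ := exists_dcyc φ
  refine Gad.sim (gadL_large hq hL ?_) hs
  rw [← hdet, hs.det_eq, det_dcyc fun h hh => by obtain ⟨P, e, -, hP, -, rfl⟩ := hL h hh; exact hP.pow e]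
  rfl

end Cfsg.Agent.SLComm
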