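import Cfsg.Agent.Lib.SLComm.RegSplit
import Mathlib.LinearAlgebra.Matrix.GeneralLinearGroup.Defs
import Mathlib.LinearAlgebra.Matrix.SchurComplement

/-!
# A nonscalar matrix of determinant one as a product of two regular unipotent conjugates

* `exists_regular_pair` : Lev's theorem.
-/

set_option autoImplicit false
set_option linter.unusedVariables false
set_option linter.unusedSectionVars false
set_option linter.style.haveILetI false

namespace Cfsg.Agent.SLComm

open Module Matrix Submodule

variable {K : Type*} [Field K] {n : ℕ}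

/-- Similar matrices are conjugate. -/
theorem exists_conj_of_sim {g h : GL (Fin n) K}
    (hs : Sim (Matrix.toLin' (g : Matrix (Fin n) (Fin n) K)) (Matrix.toLin' (h : Matrix (Fin n) (Fin n) K))) :
    ∃ x : GL (Fin n) K, h = x * g * x⁻¹ := by
  obtain ⟨e, he⟩ := hs
  let x : GL (Fin n) K := ⟨LinearMap.toMatrix' (e : (Fin n → K) →ₗ[K] Fin n → K),
    LinearMap.toMatrix' (e.symm : (Fin n → K) →ₗ[K] Fin n → K),
    by rw [← LinearMap.toMatrix'_comp, e.comp_symm, LinearMap.toMatrix'_id],
    by rw [← LinearMap.toMatrix'_comp, e.symm_comp, LinearMap.toMatrix'_id]⟩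
  refine ⟨x, ?_⟩
  rw [eq_mul_inv_iff_mul_eq]
  refine Units.ext (Matrix.toLin'.injective ?_)
  rw [Units.val_mul, Units.val_mul, Matrix.toLin'_mul, Matrix.toLin'_mul]
  refine LinearMap.ext fun w => ?_
  simp only [LinearMap.comp_apply, x, Matrix.toLin'_toMatrix']
  exact (he w).symm

theorem det_uReg {U : Matrix (Fin n) (Fin n) K} (hU : UReg U) : U.det = 1 := by
  rw [Matrix.det_of_isUpperTriangular (fun i j h => hU.1 i j h)]
  exact Finset.prod_eq_one fun i _ => hU.2.1 i

theorem det_lReg {L : Matrix (Fin n) (Fin n) K} (hL : LReg L) : L.det = 1 := by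
  rw [← det_transpose]; exact det_uReg hL

/-- Conversion of a similarity with a product into conjugates. -/
theorem pair_of_prod {m : ℕ} {J g : GL (Fin (m + 1)) K} (hJ : UReg (J : Matrix (Fin (m + 1)) (Fin (m + 1)) K))
    {B X Y : Matrix (Fin (m + 1)) (Fin (m + 1)) K} (hB : B.det ≠ 0) (hX : LReg X ∨ UReg X) (hY : UReg Y)
    (he : (g : Matrix (Fin (m + 1)) (Fin (m + 1)) K) * B = B * (X * Y)) :
    ∃ x y : GL (Fin (m + 1)) K, g = (x * J * x⁻¹) * (y * J * y⁻¹) := by
  have hdX : X.det = 1 := hX.elim det_lReg det_uReg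
  let Xu := Matrix.GeneralLinearGroup.mkOfDetNeZero X (by rw [hdX]; exact one_ne_zero)
  let Yu := Matrix.GeneralLinearGroup.mkOfDetNeZero Y (by rw [det_uReg hY]; exact one_ne_zero)
  let Bu := Matrix.GeneralLinearGroup.mkOfDetNeZero B hB
  obtain ⟨a, ha⟩ := exists_conj_of_sim (g := J) (h := Xu) ((sim_uReg hJ).trans
    (Sim.symm (hX.elim sim_lReg sim_uReg)))
  obtain ⟨c, hc⟩ := exists_conj_of_sim (g := J) (h := Yu) ((sim_uReg hJ).trans (sim_uReg hY).symm)
  have h1 : g * Bu = Bu * (Xu * Yu) := Units.ext he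
  refine ⟨Bu * a, Bu * c, ?_⟩
  rw [eq_mul_inv_of_mul_eq h1, ha, hc]
  group

/-- A transvection is conjugate to the standard one. -/
theorem transvection_form {m : ℕ} {g : Matrix (Fin (m + 2)) (Fin (m + 2)) K} (hdet : g.det = 1) (h1 : g ≠ 1)
    {l : Fin (m + 2) → K} (hl : ∀ w, (g - 1) *ᵥ w ∈ span K {l}) :
    ∃ B : Matrix (Fin (m + 2)) (Fin (m + 2)) K, B.det ≠ 0 ∧ g * B = B * (1 + Matrix.single 0 1 1) := by
  have hc : ∀ j, ∃ k : K, k • l = (g - 1) *ᵥ Pi.single j 1 := fun j => mem_span_singleton.1 (hl _)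
  choose f hf using hc
  have hgM : g - 1 = vecMulVec l f := by
    ext i j
    have := congrFun (hf j) i
    rw [Matrix.mulVec_single_one] at this
    simpa [vecMulVec_apply, mul_comm] using this.symm
  have hN0 : g - 1 ≠ 0 := sub_ne_zero.2 h1
  have hl0 : l ≠ 0 := fun e => hN0 (by rw [hgM, e]; ext i j; simp [vecMulVec_apply])
  obtain ⟨j0, hj0⟩ : ∃ j, f j ≠ 0 := by
    by_contra! h
    exact hN0 (by rw [hgM, show f = 0 from funext h]; ext i j; simp [vecMulVec_apply])
  have hfl : f ⬝ᵥ l = 0 := by
    have e : g = 1 + replicateCol Unit l * replicateRow Unit f := by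
      rw [← vecMulVec_eq, ← hgM, add_sub_cancel]
    rw [e, det_one_add_replicateCol_mul_replicateRow] at hdet
    simpa using hdet
  set z : Fin (m + 2) → K := Pi.single j0 (f j0)⁻¹ with hz
  have hfz : f ⬝ᵥ z = 1 := by simp [hz, hj0]
  obtain ⟨p, hp, hpz⟩ := dual_sep (K := K) (x := l) (p := span K {z}) (fun h => by
    obtain ⟨k, hk⟩ := mem_span_singleton.1 h
    have := congrArg (f ⬝ᵥ ·) hk
    simp only [dotProduct_smul, hfz, hfl, smul_eq_mul, mul_one] at this
    exact hl0 (by rw [← hk, this, zero_smul]))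
  have hpz' : p z = 0 := hpz z (mem_span_singleton_self z)
  let fl : (Fin (m + 2) → K) →ₗ[K] K := dotProductBilin K K f
  have hker : finrank K (LinearMap.ker (p.prod fl)) = m := by
    have h := (p.prod fl).finrank_range_add_finrank_ker
    rw [LinearMap.range_eq_top.2 (fun u => ⟨u.1 • l + u.2 • z, Prod.ext (by simp [hp, hpz'])
      (by simp [fl, hfl, hfz])⟩), finrank_top, Module.finrank_prod, finrank_self, Module.finrank_fin_fun] at h
    omega
  let bk := finBasisOfFinrankEq K (LinearMap.ker (p.prod fl)) hker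
  let u : Fin (m + 2) → (Fin (m + 2) → K) := Fin.cons l (Fin.cons z fun i => (bk i : Fin (m + 2) → K))
  have hk : ∀ i, p (bk i : Fin (m + 2) → K) = 0 ∧ f ⬝ᵥ (bk i : Fin (m + 2) → K) = 0 := fun i => by
    have := (bk i).2
    simp only [LinearMap.mem_ker, LinearMap.prod_apply, Function.prod_apply, Prod.mk_eq_zero] at this
    exact ⟨this.1, this.2⟩
  have hu : LinearIndependent K u := by
    rw [Fintype.linearIndependent_iff]
    intro c hsum
    simp only [u, Fin.sum_univ_succ, Fin.cons_zero, Fin.cons_succ] at hsum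
    have c0 : c 0 = 0 := by
      have := congrArg p hsum
      simpa [hp, hpz', fun i => (hk i).1] using this
    have c1 : c (Fin.succ 0) = 0 := by
      have := congrArg fl hsum
      simp only [map_add, map_smul, map_sum, map_zero] at this
      simpa [fl, hfl, hfz, fun i => (hk i).2] using this
    rw [c0, c1, zero_smul, zero_smul, zero_add, zero_add] at hsum
    have h2 := Fintype.linearIndependent_iff.1 bk.linearIndependent (fun i => c i.succ.succ)
      (Subtype.ext (by simpa using hsum))
    intro i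
    induction i using Fin.cases with
    | zero => exact c0
    | succ i =>
      induction i using Fin.cases with
      | zero => exact c1
      | succ i => exact h2 i
  refine ⟨Matrix.of fun i j => u j i, ?_, ?_⟩
  · exact ((Matrix.isUnit_iff_isUnit_det _).1
      (Matrix.linearIndependent_cols_iff_isUnit.1 (show LinearIndependent K (Matrix.col _) from hu))).ne_zero
  · have hgu : ∀ j, g *ᵥ u j = u j + (f ⬝ᵥ u j) • l := fun j => by
      conv_lhs => rw [show g = 1 + vecMulVec l f by rw [← hgM, add_sub_cancel]]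
      rw [Matrix.add_mulVec, Matrix.one_mulVec, Matrix.vecMulVec_mulVec]
      congr 1
      ext i
      simp [mul_comm]
    ext i j
    have h := congrFun (hgu j) i
    have hfu : f ⬝ᵥ u j = if j = 1 then 1 else 0 := by
      induction j using Fin.cases with
      | zero => simp [u, hfl]
      | succ j =>
        induction j using Fin.cases with
        | zero => simp [u, hfz]
        | succ j =>
          rw [if_neg fun e => by simp [Fin.ext_iff] at e]
          simp [u, (hk j).2]
    rw [Matrix.mul_add, mul_one, Matrix.add_apply]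
    rw [show (g * Matrix.of fun i j => u j i) i j = (g *ᵥ u j) i from rfl, h, hfu]
    congr 1
    by_cases hj : j = 1
    · subst hj
      simp [u]
    · simp [hj, Matrix.mul_single_apply_of_ne]

/-- Lev: products of two regular unipotent conjugates. -/
theorem exists_regular_pair {m : ℕ} (S : Finset K) (hS : 4 ≤ S.card) {J g : GL (Fin (m + 3)) K}
    (hJ : UReg (J : Matrix (Fin (m + 3)) (Fin (m + 3)) K))
    (hg : ∀ c : K, (g : Matrix (Fin (m + 3)) (Fin (m + 3)) K) ≠ c • 1)
    (hdet : (g : Matrix (Fin (m + 3)) (Fin (m + 3)) K).det = 1) :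
    ∃ x y : GL (Fin (m + 3)) K, g = (x * J * x⁻¹) * (y * J * y⁻¹) := by
  classical
  by_cases hr : ∀ l : Fin (m + 3) → K, ∃ w, ((g : Matrix (Fin (m + 3)) (Fin (m + 3)) K) - 1) *ᵥ w ∉ span K {l}
  · have hone : (fun _ => 1 : Fin (m + 3) → K) ≠ 0 := fun h => one_ne_zero (congrFun h 0)
    obtain ⟨B, L, U, -, hB, hL, hU, he, -⟩ := regSplit S hS (m + 2) _ hdet (fun _ => ⟨hg, hr⟩) _ _ hone hone
    exact pair_of_prod hJ hB (Or.inl hL) hU he
  push Not at hr
  obtain ⟨l, hl⟩ := hr
  obtain ⟨B, hB, he⟩ := transvection_form hdet (fun h => hg 1 (by rw [h, one_smul])) hl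
  obtain ⟨t, ht0, ht1⟩ : ∃ t : K, t ≠ 0 ∧ t ≠ 1 := by
    have : ({0, 1} : Finset K).card < S.card := by
      have := Finset.card_le_two (a := (0 : K)) (b := 1)
      omega
    obtain ⟨t, -, ht⟩ := Finset.exists_mem_notMem_of_card_lt_card this
    exact ⟨t, by simp at ht; exact ht.1, by simp at ht; exact ht.2⟩
  set X : Matrix (Fin (m + 3)) (Fin (m + 3)) K := Matrix.of fun i j =>
    if i = j then 1 else if j.val = i.val + 1 then (if i.val = 0 then t else 1) else 0 with hX
  set T : Matrix (Fin (m + 3)) (Fin (m + 3)) K := 1 + Matrix.single 0 1 1 with hT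
  have hXr : UReg X := by
    refine ⟨fun i j h => ?_, fun i => by simp [hX], fun i j h => ?_⟩
    · have : j.val < i.val := h
      simp only [hX, Matrix.of_apply]
      rw [if_neg (Fin.ne_of_gt h), if_neg (by omega)]
    · simp only [hX, Matrix.of_apply]
      rw [if_neg (fun e => by rw [e] at h; omega), if_pos h]
      split_ifs <;> simp [ht0]
  haveI : Invertible X := Matrix.invertibleOfIsUnitDet X (by rw [det_uReg hXr]; exact isUnit_one)
  have hXt : X.BlockTriangular id := fun i j h => hXr.1 i j h
  have hTt : T.BlockTriangular id := fun i j h => by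
    have h' : j.val < i.val := h
    show (1 : Matrix (Fin (m + 3)) (Fin (m + 3)) K) i j + Matrix.single (0 : Fin (m + 3)) 1 (1 : K) i j = 0
    rw [Matrix.one_apply_ne (Fin.ne_of_gt (show j < i from h)), zero_add]
    refine Matrix.single_apply_of_ne _ _ _ _ _ ?_
    rintro ⟨e1, e2⟩
    rw [← e1, ← e2] at h'
    simp at h'
  set Y := X⁻¹ * T with hY
  have hXY : X * Y = T := by rw [hY, ← mul_assoc, Matrix.mul_inv_of_invertible, one_mul]
  have hYt : ∀ i j, j < i → Y i j = 0 := fun i j h => ((blockTriangular_inv_of_blockTriangular hXt).mul hTt) h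
  have hYd : ∀ i, Y i i = 1 := fun i => by
    have h := congrFun (congrFun hXY i) i
    rw [Matrix.mul_apply, Finset.sum_eq_single i (fun k _ hk => by
      rcases lt_or_gt_of_ne hk with h' | h'
      · rw [hXr.1 i k h', zero_mul]
      · rw [hYt k i h', mul_zero]) (by simp)] at h
    rw [hXr.2.1, one_mul] at h
    rw [h, hT, Matrix.add_apply, Matrix.one_apply_eq, Matrix.single_apply_of_ne _ _ _ _ _ ?_, add_zero]
    rintro ⟨e1, e2⟩
    exact absurd (e1.trans e2.symm) (by simp)
  have hYr : UReg Y := by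
    refine ⟨hYt, hYd, fun i j hij hY0 => ?_⟩
    have h := congrFun (congrFun hXY i) j
    rw [Matrix.mul_apply, ← Finset.sum_subset (s₁ := {i, j}) (Finset.subset_univ _) (fun k _ hk => by
      simp only [Finset.mem_insert, Finset.mem_singleton, not_or] at hk
      rcases lt_or_gt_of_ne hk.1 with h' | h'
      · rw [hXr.1 i k h', zero_mul]
      · refine mul_eq_zero_of_right _ (hYt k j ?_)
        have h1 : i.val < k.val := h'
        have h2 : k.val ≠ j.val := fun e => hk.2 (Fin.ext e)
        show j.val < k.val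
        omega), Finset.sum_pair (fun e => by rw [e] at hij; omega), hY0, mul_zero, zero_add, hYd, mul_one] at h
    have hne : i ≠ j := fun e => by rw [e] at hij; omega
    simp only [hX, hT, Matrix.of_apply, Matrix.add_apply, Matrix.one_apply_ne hne, zero_add, if_neg hne,
      if_pos hij] at h
    by_cases hi : i.val = 0
    · have e1 : i = 0 := Fin.ext hi
      have e2 : j = 1 := Fin.ext (by simp [hij, hi])
      subst e1 e2
      simp [ht1] at h
    · rw [if_neg hi, Matrix.single_apply_of_ne _ _ _ _ _ (fun e => hi (by rw [← e.1]; rfl))] at h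
      exact one_ne_zero h
  refine pair_of_prod hJ hB (Or.inr hXr) hYr ?_
  rw [hXY]
  exact he

end Cfsg.Agent.SLComm
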