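import Cfsg.Agent.Lib.SLComm.Design
import Mathlib.FieldTheory.Finite.GaloisField
import Mathlib.FieldTheory.Finite.Trace
import Mathlib.Algebra.Module.PID
import Mathlib.Algebra.Polynomial.Module.FiniteDimensional

/-!
# Monomial commutators

* `jMap` : the model `μ + ν S` of `Cyc (Q ^ e)` over `F[X]/(Q)`, `centSurj_of_hasPart`;
* `gad_chord` : monomial `b` with chords;
* `gad_semilinear` : scalars of an extension field.
-/

set_option autoImplicit false
set_option linter.style.haveILetI false
set_option linter.unusedSectionVars false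

namespace Cfsg.Agent.SLComm

open Polynomial Module Matrix

variable {F : Type*} [Field F]

theorem sim_cyc_primePow {V : Type*} [AddCommGroup V] [Module F V] [Module.Finite F V] {φ : Module.End F V} {v : V}
    {Q : F[X]} (hQ : Irreducible Q) (hQm : Q.Monic) {e : ℕ} (he : 0 < e) (hd : finrank F V = (Q ^ e).natDegree)
    (hv : aeval φ (Q ^ e) v = 0) (hv' : aeval φ (Q ^ (e - 1)) v ≠ 0) : Sim φ (Cyc (Q ^ e)) := by
  classical
  haveI := (hQm.pow e).finite_adjoinRoot
  have hinj : Function.Injective (evMap φ v (hQm.pow e)) := by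
    rw [injective_iff_map_eq_zero]
    intro x hx
    induction x using AdjoinRoot.induction_on with
    | _ G =>
      rw [evMap_mk (hQm.pow e) hv] at hx
      rw [AdjoinRoot.mk_eq_zero]
      by_contra hG
      obtain ⟨j, hje, hj⟩ := (dvd_prime_pow hQ.prime e).1 (EuclideanDomain.gcd_dvd_right G (Q ^ e))
      have hjlt : j < e := by
        refine lt_of_le_of_ne hje fun e' => hG ?_
        subst e'
        exact hj.symm.dvd.trans (EuclideanDomain.gcd_dvd_left G _)
      have h1 : aeval φ (EuclideanDomain.gcd G (Q ^ e)) v = 0 := by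
        rw [EuclideanDomain.gcd_eq_gcd_ab, map_add, LinearMap.add_apply, mul_comm G, mul_comm (Q ^ e), map_mul,
          map_mul, Module.End.mul_apply, Module.End.mul_apply, hx, hv, map_zero, map_zero, add_zero]
      obtain ⟨c, hc⟩ := (hj.dvd.trans (pow_dvd_pow Q (Nat.le_sub_one_of_lt hjlt)))
      refine hv' ?_
      rw [hc, mul_comm, map_mul, Module.End.mul_apply, h1, map_zero]
  have hsurj : Function.Surjective (evMap φ v (hQm.pow e)) :=
    (LinearMap.injective_iff_surjective_of_finrank_eq_finrank (by rw [finrank_adjoinRoot (hQm.pow e), hd])).1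
      hinj
  exact Sim.symm ⟨LinearEquiv.ofBijective _ ⟨hinj, hsurj⟩, evMap_mul_root (hQm.pow e) hv⟩

section Model

variable {E : Type*} [Field E] [Algebra F E] {W : Type*} [AddCommGroup W] [Module E W]

variable (E W) in
/-- The shift towards smaller indices. -/
def shiftL (e : ℕ) : Module.End E (Fin e → W) where
  toFun v i := if h : i.val + 1 < e then v ⟨i.val + 1, h⟩ else 0
  map_add' u v := by ext i; simp only [Pi.add_apply]; split_ifs <;> simp
  map_smul' r v := by ext i; simp only [Pi.smul_apply, RingHom.id_apply]; split_ifs <;> simp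

theorem shiftL_pow_apply {e : ℕ} (j : ℕ) (v : Fin e → W) (i : Fin e) :
    ((shiftL E W e) ^ j) v i = if h : i.val + j < e then v ⟨i.val + j, h⟩ else 0 := by
  induction j generalizing i with
  | zero => simp
  | succ j ih =>
    rw [pow_succ', Module.End.mul_apply]
    show (if h : i.val + 1 < e then ((shiftL E W e) ^ j) v ⟨i.val + 1, h⟩ else 0) = _
    by_cases h : i.val + (j + 1) < e
    · rw [dif_pos (by omega), dif_pos h, ih, dif_pos (show i.val + 1 + j < e by omega)]
      exact congrArg v (Fin.ext (by simp; omega))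
    · rw [dif_neg h]
      split_ifs with h1
      · rw [ih, dif_neg (show ¬ i.val + 1 + j < e by omega)]
      · rfl

variable [Module F W] [IsScalarTower F E W]

/-- `μ + ν S`, as an endomorphism over `F`. -/
noncomputable def jMap (μ ν : E) (e : ℕ) : Module.End F (Fin e → W) :=
  (μ • (1 : Module.End E (Fin e → W)) + ν • shiftL E W e).restrictScalars F

theorem aeval_jMap (μ ν : E) (e : ℕ) (G : F[X]) (v : Fin e → W) :
    aeval (jMap (F := F) (W := W) μ ν e) G v =
      aeval (shiftL E W e) ((G.map (algebraMap F E)).comp (C μ + C ν * X)) v := by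
  induction G using Polynomial.induction_on generalizing v with
  | C a => simp [Module.algebraMap_end_apply]
  | add p q hp hq => simp [hp, hq]
  | monomial n a ih =>
    rw [pow_succ, ← mul_assoc, map_mul, aeval_X, Module.End.mul_apply, ih,
      show Polynomial.map (algebraMap F E) (C a * X ^ n * X) = Polynomial.map (algebraMap F E) (C a * X ^ n) * X by
        rw [Polynomial.map_mul, Polynomial.map_X],
      mul_comp, X_comp, map_mul (aeval (shiftL E W e)) ((map (algebraMap F E) (C a * X ^ n)).comp _),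
      Module.End.mul_apply]
    congr 1
    simp [jMap, Module.algebraMap_end_apply]

end Model

section ModelField

variable {Q : F[X]} [Fact (Irreducible Q)]

theorem comp_root (hQm : Q.Monic) (hsep : Q.Separable) {ν : AdjoinRoot Q} (hν : ν ≠ 0) :
    ∃ U : (AdjoinRoot Q)[X],
      (Q.map (algebraMap F (AdjoinRoot Q))).comp (C (AdjoinRoot.root Q) + C ν * X) = X * U ∧ U.coeff 0 ≠ 0 := by
  set R := (Q.map (algebraMap F (AdjoinRoot Q))).comp (C (AdjoinRoot.root Q) + C ν * X) with hR
  have h0 : R.coeff 0 = 0 := by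
    rw [coeff_zero_eq_eval_zero, hR, eval_comp]
    simp [eval_map, AdjoinRoot.eval₂_root]
  obtain ⟨U, hU⟩ := X_dvd_iff.2 h0
  refine ⟨U, hU, fun hU0 => ?_⟩
  have h1 : (derivative R).eval 0 = 0 := by rw [hU, derivative_mul]; simp [← coeff_zero_eq_eval_zero, hU0]
  rw [hR, derivative_comp, eval_mul, eval_comp] at h1
  simp [derivative_map] at h1
  rcases h1 with h1 | h1
  · exact hν h1
  · exact hsep.aeval_derivative_ne_zero (x := AdjoinRoot.root Q) (by rw [AdjoinRoot.aeval_eq, AdjoinRoot.mk_self])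
      (by rw [aeval_def, ← eval_map]; exact h1)

/-- The Jordan model of `Cyc (Q ^ e)`. -/
theorem sim_jMap (hQm : Q.Monic) (hsep : Q.Separable) {e : ℕ} (he : 0 < e) {ν : AdjoinRoot Q} (hν : ν ≠ 0) :
    Sim (jMap (F := F) (W := AdjoinRoot Q) (AdjoinRoot.root Q) ν e) (Cyc (Q ^ e)) := by
  haveI := hQm.finite_adjoinRoot
  obtain ⟨U, hU, hU0⟩ := comp_root hQm hsep hν
  set L : Fin e := ⟨e - 1, by omega⟩
  refine sim_cyc_primePow (v := Pi.single L 1) Fact.out hQm he ?_ ?_ ?_
  · rw [Module.finrank_pi_fintype, Finset.sum_const, Finset.card_univ, Fintype.card_fin, finrank_adjoinRoot hQm,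
      smul_eq_mul, hQm.natDegree_pow]
  · rw [aeval_jMap, Polynomial.map_pow, pow_comp, hU, mul_pow, map_mul, map_pow, aeval_X, Module.End.mul_apply]
    ext i
    rw [shiftL_pow_apply, dif_neg (by omega)]
    rfl
  · intro h
    rw [aeval_jMap, Polynomial.map_pow, pow_comp, hU, mul_pow, map_mul, map_pow, aeval_X,
      Module.End.mul_apply] at h
    have h1 := congrFun h ⟨0, he⟩
    rw [shiftL_pow_apply, dif_pos (by simp; omega), Pi.zero_apply] at h1
    have h2 : ∀ P : (AdjoinRoot Q)[X], aeval (shiftL (AdjoinRoot Q) (AdjoinRoot Q) e) P (Pi.single L 1) L =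
        P.coeff 0 := by
      intro P
      conv_lhs => rw [← X_mul_divX_add P]
      rw [map_add, map_mul, aeval_X, LinearMap.add_apply, Module.End.mul_apply, Pi.add_apply, aeval_C,
        Module.algebraMap_end_apply]
      rw [show shiftL (AdjoinRoot Q) (AdjoinRoot Q) e _ L = 0 from dif_neg (by simp [L]; omega)]
      simp
    have h3 : (⟨0 + (e - 1), by omega⟩ : Fin e) = L := Fin.ext (by simp [L])
    rw [show (⟨(⟨0, he⟩ : Fin e).val + (e - 1), by simp; omega⟩ : Fin e) = L from h3, h2,
      coeff_zero_eq_eval_zero, eval_pow, ← coeff_zero_eq_eval_zero] at h1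
    exact pow_ne_zero _ hU0 h1

end ModelField

/-- Some irreducible factor has multiplicity prime to the order of the multiplicative group. -/
def HasPart (f : F[X]) : Prop :=
  ∃ (Q R : F[X]) (e : ℕ), Irreducible Q ∧ Q.Monic ∧ R.Monic ∧ f = Q ^ e * R ∧ IsCoprime Q R ∧ 0 < e ∧
    e.Coprime (Nat.card F - 1)

variable [Finite F]

theorem centSurj_primePow {Q : F[X]} (hQ : Irreducible Q) (hQm : Q.Monic) {e : ℕ} (he : 0 < e)
    (hcop : e.Coprime (Nat.card F - 1)) : CentSurj (Cyc (Q ^ e)) := by
  haveI := Fact.mk hQ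
  haveI := hQm.finite_adjoinRoot
  haveI : Finite (AdjoinRoot Q) := Module.finite_of_finite F
  refine CentSurj.sim ?_ (sim_jMap hQm (PerfectField.separable_of_irreducible hQ) he one_ne_zero).symm
  intro t ht
  have hcard : Nat.card Fˣ = Nat.card F - 1 := Nat.card_units F
  obtain ⟨s, hs⟩ : ∃ s : Fˣ, s ^ e = Units.mk0 t ht :=
    ((powCoprime (G := Fˣ) (n := e) (by rw [hcard]; exact hcop.symm)).surjective _)
  obtain ⟨ζ, hζ⟩ := FiniteField.norm_surjective F (AdjoinRoot Q) (s : F)
  set z : Module.End F (Fin e → AdjoinRoot Q) :=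
    LinearMap.pi fun i => (Algebra.lmul F (AdjoinRoot Q) ζ).comp (LinearMap.proj i) with hz
  have hdet : LinearMap.det z = t := by
    rw [hz, LinearMap.det_pi, Finset.prod_const, Finset.card_univ, Fintype.card_fin,
      show LinearMap.det (Algebra.lmul F (AdjoinRoot Q) ζ) = Algebra.norm F ζ from rfl, hζ, ← Units.val_pow_eq_pow_val,
      hs, Units.val_mk0]
  obtain ⟨u, hu⟩ := exists_unit (φ := z) (by rw [hdet]; exact ht)
  refine ⟨u, ?_, by rw [hu, hdet]⟩
  rw [hu]
  refine LinearMap.ext fun v => funext fun i => ?_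
  simp only [hz, jMap, Module.End.mul_apply, LinearMap.pi_apply, LinearMap.coe_comp, Function.comp_apply,
    LinearMap.proj_apply, Algebra.coe_lmul_eq_mul, LinearMap.mul_apply', LinearMap.coe_restrictScalars,
    LinearMap.add_apply, LinearMap.smul_apply, Module.End.one_apply, Pi.add_apply, Pi.smul_apply, smul_eq_mul]
  show ζ * (_ + 1 * _) = _ + 1 * _
  simp only [one_mul, shiftL, LinearMap.coe_mk, AddHom.coe_mk, LinearMap.pi_apply, LinearMap.coe_comp,
    Function.comp_apply, LinearMap.proj_apply]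
  split_ifs <;> simp [mul_add, mul_left_comm]

theorem centSurj_of_hasPart {V : Type*} [AddCommGroup V] [Module F V] {φ : Module.End F V} {f : F[X]}
    (hf : HasPart f) (hs : Sim φ (Cyc f)) : CentSurj φ := by
  obtain ⟨Q, R, e, hQ, hQm, hRm, rfl, hco, he, hcop⟩ := hf
  haveI := (hQm.pow e).finite_adjoinRoot
  haveI := hRm.finite_adjoinRoot
  exact (CentSurj.prod_left _ (centSurj_primePow hQ hQm he hcop)).sim
    (hs.trans (cyc_mul_sim (hQm.pow e) hRm hco.pow_left))

theorem prime_pow_coprime_card_sub_one (p s : ℕ) [hp : Fact p.Prime] [CharP F p] :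
    (p ^ s).Coprime (Nat.card F - 1) := by
  have := Fintype.ofFinite F
  obtain ⟨n, -, hn⟩ := FiniteField.card F p
  rw [Nat.card_eq_fintype_card, hn]
  refine Nat.Coprime.pow_left _ (hp.out.coprime_iff_not_dvd.2 fun h => ?_)
  have h1 : p ∣ p ^ (n : ℕ) := dvd_pow_self p (PNat.ne_zero n)
  have h2 : 1 ≤ p ^ (n : ℕ) := Nat.one_le_pow _ _ hp.out.pos
  have := Nat.dvd_sub h1 h
  rw [show p ^ (n : ℕ) - (p ^ (n : ℕ) - 1) = 1 by omega] at this
  exact hp.out.one_lt.ne' (Nat.dvd_one.1 this)

/-- From a simple factor of `g` to a part of `g ^ (p ^ s)`. -/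
theorem hasPart_pow (p s : ℕ) [Fact p.Prime] [CharP F p] {g Q : F[X]} (hg : g.Monic) (hQ : Irreducible Q)
    (hQm : Q.Monic) (hdvd : Q ∣ g) (hsimple : ¬ Q * Q ∣ g) : HasPart (g ^ p ^ s) := by
  obtain ⟨R, rfl⟩ := hdvd
  have hRm : R.Monic := hQm.of_mul_monic_left hg
  refine ⟨Q, R ^ p ^ s, p ^ s, hQ, hQm, hRm.pow _, mul_pow _ _ _, IsCoprime.pow_right ?_,
    pow_pos (Fact.out : p.Prime).pos _, prime_pow_coprime_card_sub_one p s⟩
  exact hQ.coprime_iff_not_dvd.2 fun h => hsimple (mul_dvd_mul_left Q h)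

theorem exists_monic_factor {g : F[X]} (hg : g.Monic) (hd : 0 < g.natDegree) :
    ∃ Q : F[X], Irreducible Q ∧ Q.Monic ∧ Q ∣ g := by
  obtain ⟨Q, hQ, hQd⟩ := WfDvdMonoid.exists_irreducible_factor (a := g)
    (fun h => by rw [hg.isUnit_iff] at h; rw [h] at hd; simp at hd) hg.ne_zero
  refine ⟨Q * C Q.leadingCoeff⁻¹, ?_, monic_mul_leadingCoeff_inv hQ.ne_zero, ?_⟩
  · exact irreducible_mul_leadingCoeff_inv.2 hQ
  · refine (IsUnit.mul_right_dvd ?_).2 hQd
    exact isUnit_C.2 (inv_ne_zero (leadingCoeff_ne_zero.2 hQ.ne_zero)).isUnit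

/-- The polynomial `X ^ (n - m) (X - η) ^ m - c` of a chorded monomial matrix. -/
theorem hasPart_chord {n m : ℕ} (hn : 2 * m ≤ n) (hn0 : 0 < n) {η c : F} (hc : c ≠ 0) (hη : m = 0 ∨ η ≠ 0)
    (hsmall : n = 2 * m → ∀ s : ℕ, ∀ c₀ : F, m = (ringChar F) ^ s → c₀ ^ (ringChar F) ^ s = c →
      ∀ η₀ : F, η₀ ^ (ringChar F) ^ s = η ^ (ringChar F) ^ s → η₀ ^ 2 + 4 * c₀ ≠ 0) :
    HasPart (X ^ (n - m) * (X - C η) ^ m - C c) := by
  set p := ringChar F with hp
  haveI hpF : Fact p.Prime := ⟨CharP.char_is_prime F p⟩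
  obtain ⟨s, hsn, hsm, hmax⟩ : ∃ s, p ^ s ∣ n ∧ p ^ s ∣ m ∧ ¬ (p ^ (s + 1) ∣ n ∧ p ^ (s + 1) ∣ m) := by
    have hfin : FiniteMultiplicity p (Nat.gcd n m) :=
      Nat.finiteMultiplicity_iff.2 ⟨hpF.out.ne_one, Nat.gcd_pos_of_pos_left _ hn0⟩
    refine ⟨multiplicity p (Nat.gcd n m), (pow_multiplicity_dvd p _).trans (Nat.gcd_dvd_left n m),
      (pow_multiplicity_dvd p _).trans (Nat.gcd_dvd_right n m), fun h => ?_⟩
    exact hfin.not_pow_dvd_of_multiplicity_lt (Nat.lt_succ_self _) (Nat.dvd_gcd h.1 h.2)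
  obtain ⟨n', rfl⟩ := hsn
  obtain ⟨m', rfl⟩ := hsm
  set P := p ^ s with hP
  have hP0 : 0 < P := pow_pos hpF.out.pos _
  obtain ⟨c₀, hc₀⟩ : ∃ c₀ : F, c₀ ^ P = c :=
    ((iterateFrobenius_inj F p s).bijective_of_finite).2 c
  have hc₀0 : c₀ ≠ 0 := fun e => hc (by rw [← hc₀, e, zero_pow hP0.ne'])
  have hn' : 2 * m' ≤ n' := by
    by_contra hh
    nlinarith [Nat.lt_of_not_le hh]
  have hn'0 : 0 < n' := by
    rcases Nat.eq_zero_or_pos n' with h | h
    · simp [h] at hn0
    · exact h
  set a := n' - m' with ha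
  set g : F[X] := X ^ a * (X - C η) ^ m' - C c₀ with hg
  have hgd : (X ^ a * (X - C η) ^ m' : F[X]).natDegree = n' := by
    rw [(monic_X_pow a).natDegree_mul ((monic_X_sub_C η).pow m'), natDegree_X_pow,
      (monic_X_sub_C η).natDegree_pow, natDegree_X_sub_C, mul_one]
    omega
  have hgm : g.Monic := by
    refine Monic.sub_of_left ((monic_X_pow a).mul ((monic_X_sub_C η).pow m')) ?_
    refine lt_of_le_of_lt degree_C_le ?_
    rw [degree_eq_natDegree ((monic_X_pow a).mul ((monic_X_sub_C η).pow m')).ne_zero, hgd]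
    exact_mod_cast hn'0
  have hgd' : g.natDegree = n' := by rw [hg, natDegree_sub_C, hgd]
  have hgp : g ^ P = X ^ (P * n' - P * m') * (X - C η) ^ (P * m') - C c := by
    rw [hg, hP, sub_pow_char_pow, ← hP, mul_pow, ← pow_mul, ← pow_mul, ← C_pow, hc₀, ← Nat.mul_sub, mul_comm a,
      mul_comm m']
  rw [← hgp]
  have hdvd : ¬ (p ∣ n' ∧ p ∣ m') := fun h => hmax
    ⟨by rw [pow_succ]; exact mul_dvd_mul_left _ h.1, by rw [pow_succ]; exact mul_dvd_mul_left _ h.2⟩
  -- a repeated factor of `g` divides a linear polynomial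
  have key : ∀ Q : F[X], Irreducible Q → Q * Q ∣ g →
      (n' : F) ≠ 0 ∧ Q ∣ (C (n' : F) * X - C ((a : F) * η)) := by
    intro Q hQ hQQ
    have h1 : Q ∣ g := dvd_trans (dvd_mul_right Q Q) hQQ
    have h2 : Q ∣ derivative g := by
      obtain ⟨R, hR⟩ := hQQ
      rw [hR, derivative_mul, derivative_mul]
      exact dvd_add (dvd_mul_of_dvd_left (dvd_add (dvd_mul_left _ _) (dvd_mul_right _ _)) _)
        (dvd_mul_of_dvd_left (dvd_mul_right _ _) _)
    have hC : IsUnit (C c₀ : F[X]) := isUnit_C.2 hc₀0.isUnit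
    have hX : ¬ Q ∣ (X : F[X]) ^ a := fun h => hQ.not_isUnit <| isUnit_of_dvd_unit (by
      have h3 := dvd_sub (dvd_mul_of_dvd_left h ((X - C η) ^ m')) h1
      rwa [hg, sub_sub_cancel] at h3) hC
    have hη' : ¬ Q ∣ (X - C η) ^ m' := fun h => hQ.not_isUnit <| isUnit_of_dvd_unit (by
      have h3 := dvd_sub (dvd_mul_of_dvd_right h (X ^ a)) h1
      rwa [hg, sub_sub_cancel] at h3) hC
    have h3 : Q ∣ X * (X - C η) * derivative g := dvd_mul_of_dvd_right h2 _
    have e1 : ∀ (P : F[X]) (k : ℕ), P * derivative (P ^ k) = C (k : F) * P ^ k * derivative P := by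
      intro P k
      cases k with
      | zero => simp
      | succ k => rw [derivative_pow, Nat.add_sub_cancel, pow_succ]; ring
    have hn'a : (n' : F) = (a : F) + (m' : F) := by
      rw [← Nat.cast_add]; congr 1; omega
    have h4 : X * (X - C η) * derivative g =
        X ^ a * (X - C η) ^ m' * (C (n' : F) * X - C ((a : F) * η)) := by
      have h5 := e1 X a
      have h6 := e1 (X - C η) m'
      rw [derivative_X, mul_one] at h5
      rw [derivative_X_sub_C, mul_one] at h6
      rw [hg, derivative_sub, derivative_C, sub_zero, derivative_mul, hn'a, map_add, map_mul]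
      linear_combination (X - C η) ^ m' * (X - C η) * h5 + X ^ a * X * h6
    rw [h4] at h3
    have hL : Q ∣ (C (n' : F) * X - C ((a : F) * η)) :=
      (hQ.prime.dvd_or_dvd h3).resolve_left fun h => (hQ.prime.dvd_or_dvd h).elim hX hη'
    refine ⟨fun e => ?_, hL⟩
    rw [e, map_zero, zero_mul, zero_sub, dvd_neg] at hL
    refine hQ.not_isUnit (isUnit_of_dvd_unit hL (isUnit_C.2 ?_))
    have hpn : p ∣ n' := (CharP.cast_eq_zero_iff F p n').1 e
    have hm0 : (m' : F) ≠ 0 := fun e' => hdvd ⟨hpn, (CharP.cast_eq_zero_iff F p m').1 e'⟩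
    have ha0 : (a : F) = -(m' : F) := by rw [e] at hn'a; linear_combination -hn'a
    refine (mul_ne_zero (by rw [ha0]; simpa using hm0) ?_).isUnit
    exact hη.resolve_left fun h => hm0 (by
      rcases Nat.mul_eq_zero.1 h with h' | h'
      · omega
      · simp [h'])
  by_cases hn0' : (n' : F) = 0
  · obtain ⟨Q, hQ, hQm, hQd⟩ := exists_monic_factor hgm (by omega)
    exact hasPart_pow p s hgm hQ hQm hQd fun h => (key Q hQ h).1 hn0'
  set x₀ : F := (a : F) * η / (n' : F) with hx₀
  have hassoc : ∀ Q : F[X], Irreducible Q → Q.Monic → Q * Q ∣ g → Q = X - C x₀ := by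
    intro Q hQ hQm h
    have h1 := (key Q hQ h).2
    rw [show C (n' : F) * X - C ((a : F) * η) = C (n' : F) * (X - C x₀) by
      rw [mul_sub, ← map_mul, hx₀, mul_div_cancel₀ _ hn0']] at h1
    have h2 : Q ∣ X - C x₀ := (IsUnit.dvd_mul_left (isUnit_C.2 (Ne.isUnit hn0'))).1 h1
    exact eq_of_monic_of_associated hQm (monic_X_sub_C _)
      (hQ.associated_of_dvd (irreducible_X_sub_C _) h2)
  by_contra hno
  have hall : ∀ Q : F[X], Irreducible Q → Q.Monic → Q ∣ g → Q = X - C x₀ ∧ Q * Q ∣ g := by
    intro Q hQ hQm hQd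
    have h : Q * Q ∣ g := by
      by_contra h
      exact hno (hasPart_pow p s hgm hQ hQm hQd h)
    exact ⟨hassoc Q hQ hQm h, h⟩
  obtain ⟨Q, hQ, hQm, hQd⟩ := exists_monic_factor hgm (by omega)
  obtain ⟨rfl, hQQ⟩ := hall Q hQ hQm hQd
  -- so `g = (X - x₀) ^ n'`
  obtain ⟨r, G, hG, hGe⟩ : ∃ r G, ¬ (X - C x₀) ∣ G ∧ g = (X - C x₀) ^ r * G := by
    obtain ⟨G, h1, h2⟩ :=
      (finiteMultiplicity_X_sub_C x₀ hgm.ne_zero).exists_eq_pow_mul_and_not_dvd
    exact ⟨_, G, h2, h1⟩
  have hGm : G.Monic := ((monic_X_sub_C x₀).pow r).of_mul_monic_left (hGe ▸ hgm)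
  have hG1 : G = 1 := by
    refine hGm.natDegree_eq_zero.1 ?_
    by_contra hd0
    obtain ⟨Q', hQ', hQ'm, hQ'd⟩ := exists_monic_factor hGm (Nat.pos_of_ne_zero hd0)
    have hQ'g : Q' ∣ g := hGe ▸ dvd_mul_of_dvd_right hQ'd _
    exact hG ((hall Q' hQ' hQ'm hQ'g).1 ▸ hQ'd)
  rw [hG1, mul_one] at hGe
  have hr : r = n' := by
    rw [← hgd', hGe, (monic_X_sub_C x₀).natDegree_pow, natDegree_X_sub_C, mul_one]
  subst hr
  rcases Nat.eq_zero_or_pos m' with hm | hm
  · -- separable
    subst hm
    have hx : x₀ ^ r ≠ 0 := by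
      have h1 := congrArg (eval 0) hGe
      simp [hg, ha, hn'0.ne', zero_pow] at h1
      intro e
      rw [neg_pow, e, mul_zero] at h1
      exact hc₀0 (neg_eq_zero.1 h1)
    have h1 := congrArg (fun G => (derivative G).eval x₀) hGe
    simp [hg, ha, derivative_pow] at h1
    have hr1 : r = 1 := by
      by_contra hne
      simp [show r - 1 ≠ 0 by omega, hn0'] at h1
      exact hx (by rw [h1]; simp [show r ≠ 0 by omega])
    rw [hr1, pow_one] at hGe
    rw [hr1] at hgd'
    have h2 := natDegree_le_of_dvd hQQ hgm.ne_zero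
    rw [(monic_X_sub_C x₀).natDegree_mul (monic_X_sub_C x₀), natDegree_X_sub_C, hgd'] at h2
    omega
  · have hη0 : η ≠ 0 := hη.resolve_left (by intro h; rcases Nat.mul_eq_zero.1 h with h | h <;> omega)
    rcases Nat.lt_or_ge r 3 with hr3 | hr3
    · have hr2 : r = 2 := by omega
      have hm1 : m' = 1 := by omega
      subst hr2 hm1
      have e0 := congrArg (eval 0) hGe
      have e1 := congrArg (eval η) hGe
      simp [hg, ha] at e0 e1
      have h2x : η = 2 * x₀ := by
        refine mul_left_cancel₀ hη0 ?_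
        linear_combination e0 - e1
      exact hsmall (by ring) s c₀ (by rw [← hP]; ring) hc₀ η rfl (by linear_combination (η + 2 * x₀) * h2x - 4 * e0)
    · have hzero : (derivative g).eval 0 = 0 := by
        obtain ⟨a', ha'⟩ : ∃ a', a = a' + 2 := ⟨a - 2, by omega⟩
        simp [hg, ha', derivative_mul, derivative_pow]
      rw [hGe, derivative_pow] at hzero
      simp at hzero
      rcases hzero with h | h
      · exact hn0' h
      · have hx : x₀ = 0 := h.1
        have e0 := congrArg (eval 0) hGe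
        simp [hg, hx, show a ≠ 0 by omega, show r ≠ 0 by omega] at e0
        exact hc₀0 e0

/-- Monomial commutators with chords: `λ` on the diagonal and `η j * (1 - λ j)` above it. -/
theorem gad_chord {k : ℕ} (d : Fin (k + 1) → F) (hd : ∏ i, d i = 1) (η : Fin k → F)
    (hadj : ∀ i j : Fin k, j.val = i.val + 1 → η i = 0 ∨ η j = 0)
    (hpart : HasPart (X * (∏ j : Fin k, (X - C (η j))) - C ((-1) ^ k))) :
    Gad (Matrix.toLin' (Matrix.of fun i j : Fin (k + 1) =>
      if i = j then d i else if h : j.val = i.val + 1 then η ⟨i.val, by omega⟩ * (1 - d i) else 0)) 1 := by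
  set Φ : Matrix (Fin (k + 1)) (Fin (k + 1)) F := Matrix.of fun i j =>
    if i = j then d i else if h : j.val = i.val + 1 then η ⟨i.val, by omega⟩ * (1 - d i) else 0 with hΦ
  set c : F := (-1) ^ k with hc
  set bM : Matrix (Fin (k + 1)) (Fin (k + 1)) F := Matrix.of fun i j =>
    Fin.lastCases (motive := fun _ => F) (if i = 0 then c else 0)
      (fun j' => (if i = j'.succ then 1 else 0) + if i = j'.castSucc then η j' else 0) j with hbM
  have bcol : ∀ j : Fin k, bM *ᵥ Pi.single j.castSucc 1 =
      Pi.single j.succ 1 + η j • Pi.single j.castSucc 1 := fun j => by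
    ext i; rw [Matrix.mulVec_single_one]; simp [bM, Pi.single_apply]
  have blast : bM *ᵥ Pi.single (Fin.last k) 1 = c • Pi.single 0 1 := by
    ext i; rw [Matrix.mulVec_single_one]; simp [bM, Pi.single_apply]
  -- `bM` is cyclic
  set f : F[X] := X * (∏ j : Fin k, (X - C (η j))) - C c with hf
  have hprodm : (X * ∏ j : Fin k, (X - C (η j))).Monic := monic_X.mul (monic_prod_of_monic _ _ fun j _ => monic_X_sub_C _)
  have hprodd : (X * ∏ j : Fin k, (X - C (η j))).natDegree = k + 1 := by
    rw [monic_X.natDegree_mul (monic_prod_of_monic _ _ fun j _ => monic_X_sub_C _),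
      natDegree_prod_of_monic _ _ (fun j _ => monic_X_sub_C _)]
    simp; omega
  have hfm : f.Monic := by
    refine hprodm.sub_of_left (lt_of_le_of_lt degree_C_le ?_)
    rw [degree_eq_natDegree hprodm.ne_zero, hprodd]
    exact_mod_cast Nat.succ_pos k
  have hfd : f.natDegree = k + 1 := by rw [hf, natDegree_sub_C, hprodd]
  have hstep : ∀ j : Fin (k + 1), aeval (Matrix.toLin' bM)
      (∏ i ∈ Finset.univ.filter (fun i : Fin k => i.val < j.val), (X - C (η i))) (Pi.single 0 1) =
        Pi.single j 1 := by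
    intro j
    induction j using Fin.induction with
    | zero => simp
    | succ j ih =>
      have hset : Finset.univ.filter (fun i : Fin k => i.val < j.succ.val) =
          insert j (Finset.univ.filter (fun i : Fin k => i.val < j.castSucc.val)) := by
        ext i; simp [Fin.ext_iff]; omega
      rw [hset, Finset.prod_insert (by simp), map_mul, Module.End.mul_apply, ih, map_sub, aeval_X, aeval_C,
        LinearMap.sub_apply, Module.algebraMap_end_apply, Matrix.toLin'_apply, bcol, add_sub_cancel_right]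
  have hsim : Sim (Matrix.toLin' bM) (Cyc f) := by
    refine sim_cyc (v := Pi.single 0 1) hfm (by simp [hfd]) (single_span fun j => mem_cspan.2 ⟨_, hstep j⟩) ?_
    have hl := hstep (Fin.last k)
    rw [Finset.filter_true_of_mem fun i _ => by simp] at hl
    rw [hf, map_sub, map_mul, aeval_X, aeval_C, LinearMap.sub_apply, Module.End.mul_apply, hl,
      Matrix.toLin'_apply, blast, Module.algebraMap_end_apply, sub_self]
  have hbdet : LinearMap.det (Matrix.toLin' bM) = 1 := by
    have h2 : ((-1 : F) ^ k) * (-1) ^ k = 1 := by rw [← mul_pow]; simp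
    rw [hsim.det_eq, det_Cyc hfm, hfd, hf, coeff_sub, mul_coeff_zero, coeff_X_zero, zero_mul, coeff_C_zero,
      zero_sub, hc, pow_succ]
    linear_combination h2
  obtain ⟨b, hb⟩ := exists_unit (φ := Matrix.toLin' bM) (by rw [hbdet]; exact one_ne_zero)
  -- the diagonal part
  set δ : Fin (k + 1) → F := fun j => ∏ i ∈ Finset.univ.filter (fun i => i.val ≤ j.val), d i with hδ
  have hd0 : ∀ i, d i ≠ 0 := fun i e => by
    have := Finset.prod_eq_zero (Finset.mem_univ i) e; rw [hd] at this; exact one_ne_zero this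
  have hδ0 : δ 0 = d 0 := by
    have : Finset.univ.filter (fun i : Fin (k + 1) => i.val ≤ (0 : Fin (k + 1)).val) = {0} := by
      ext i
      rw [Finset.mem_filter, Finset.mem_singleton, Fin.ext_iff]
      simp only [Finset.mem_univ, true_and, Fin.val_zero]
      omega
    simp only [δ]; rw [this, Finset.prod_singleton]
  have hδs : ∀ j : Fin k, δ j.succ = d j.succ * δ j.castSucc := fun j => by
    have : Finset.univ.filter (fun i : Fin (k + 1) => i.val ≤ j.succ.val) =
        insert j.succ (Finset.univ.filter (fun i : Fin (k + 1) => i.val ≤ j.castSucc.val)) := by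
      ext i; simp [Fin.ext_iff]; omega
    simp only [δ]; rw [this, Finset.prod_insert (by simp)]
  have hδl : δ (Fin.last k) = 1 := by
    simp only [δ]; rw [Finset.filter_true_of_mem fun i _ => by simp [Fin.is_le], hd]
  obtain ⟨a, ha⟩ := exists_unit (φ := Matrix.toLin' (Matrix.diagonal δ)) (by
    rw [LinearMap.det_toLin', Matrix.det_diagonal, Finset.prod_ne_zero_iff]
    exact fun i _ => Finset.prod_ne_zero_iff.2 fun j _ => hd0 j)
  have key : Matrix.toLin' Φ * (b : Module.End F (Fin (k + 1) → F)) * (a : Module.End F (Fin (k + 1) → F)) =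
      (a : Module.End F (Fin (k + 1) → F)) * (b : Module.End F (Fin (k + 1) → F)) := by
    rw [ha, hb]
    refine (Pi.basisFun F (Fin (k + 1))).ext fun j => ?_
    simp only [Pi.basisFun_apply, Module.End.mul_apply, Matrix.toLin'_apply]
    have hdiag : ∀ i : Fin (k + 1), Matrix.diagonal δ *ᵥ Pi.single i 1 = δ i • Pi.single i 1 := fun i => by
      ext l; rw [Matrix.mulVec_single_one]; by_cases h : l = i <;> simp [h, Pi.single_apply, Matrix.diagonal]
    have hΦ0 : Φ *ᵥ Pi.single 0 1 = d 0 • Pi.single 0 1 := by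
      ext l
      rw [Matrix.mulVec_single_one]
      by_cases h : l = 0 <;> simp [Φ, h, Pi.single_apply]
    induction j using Fin.lastCases with
    | last =>
      rw [hdiag, hδl, one_smul, blast, Matrix.mulVec_smul, Matrix.mulVec_smul, hdiag, hδ0, hΦ0]
    | cast j =>
      have hΦs : Φ *ᵥ Pi.single j.succ 1 =
          d j.succ • Pi.single j.succ 1 + (η j * (1 - d j.castSucc)) • Pi.single j.castSucc 1 := by
        ext l
        rw [Matrix.mulVec_single_one]
        by_cases h1 : l = j.succ
        · subst h1; simp [Φ, Pi.single_apply, (Fin.castSucc_lt_succ (i := j)).ne']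
        · by_cases h2 : l = j.castSucc
          · subst h2; simp [Φ, Pi.single_apply, (Fin.castSucc_lt_succ (i := j)).ne]
          · have h3 : ¬ (j.succ.val = l.val + 1) := fun e => h2 (Fin.ext (by simp at e ⊢; omega))
            simp [Φ, Pi.single_apply, h1, h2, h3]
            intro h
            exact absurd (Fin.ext (by simp [h])) h2
      have hΦc : η j • (Φ *ᵥ Pi.single j.castSucc 1) = η j • d j.castSucc • Pi.single j.castSucc 1 := by
        rcases eq_or_ne (η j) 0 with h0 | h0
        · simp [h0]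
        congr 1
        ext l
        rw [Matrix.mulVec_single_one]
        by_cases h1 : l = j.castSucc
        · subst h1; simp [Φ]
        · simp [Φ, Pi.single_apply, h1]
          intro h3
          exact Or.inl ((hadj ⟨l.val, by omega⟩ j (by simp; omega)).resolve_right h0)
      simp only [hdiag, bcol, Matrix.mulVec_smul, Matrix.mulVec_add, smul_add, hΦs, hδs]
      rw [hΦc]
      simp only [smul_smul]
      ext l
      simp only [Pi.add_apply, Pi.smul_apply, smul_eq_mul]
      ring
  have hsim' : Sim (b : Module.End F (Fin (k + 1) → F)) (Cyc f) := by rw [hb]; exact hsim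
  obtain ⟨z, hz, hzd⟩ := centSurj_of_hasPart hpart hsim'
    (LinearMap.det (a : Module.End F (Fin (k + 1) → F)))⁻¹ (inv_ne_zero (det_unit_ne_zero a))
  refine ⟨a * z, b, ?_, by rw [Units.val_mul, map_mul, hzd, mul_inv_cancel₀ (det_unit_ne_zero a)],
    by rw [hb, hbdet]⟩
  have hzb : z * b = b * z := Units.ext hz.eq
  have h1 : a * z * b * (a * z)⁻¹ * b⁻¹ = a * b * a⁻¹ * b⁻¹ := by
    calc a * z * b * (a * z)⁻¹ * b⁻¹ = a * (z * b) * z⁻¹ * a⁻¹ * b⁻¹ := by group
      _ = a * (b * z) * z⁻¹ * a⁻¹ * b⁻¹ := by rw [hzb]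
      _ = _ := by group
  rw [h1]
  simp only [Units.val_mul]
  rw [← key, Units.mul_inv_cancel_right, Units.mul_inv_cancel_right]

/-- A cyclic vector exists when no smaller polynomial annihilates. -/
theorem exists_cyclic {V : Type*} [AddCommGroup V] [Module F V] [Module.Finite F V] (φ : Module.End F V)
    (h : ∀ G : F[X], G.natDegree < finrank F V → aeval φ G = 0 → G = 0) : ∃ v, cspan φ v = ⊤ := by
  obtain ⟨x, hx⟩ := Module.exists_ker_toSpanSingleton_eq_annihilator F[X] (Module.AEval' φ)
  refine ⟨(Module.AEval'.of φ).symm x, ?_⟩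
  set v := (Module.AEval'.of φ).symm x
  have hker : ∀ G : F[X], aeval φ G v = 0 → aeval φ G = 0 := by
    intro G hG
    have h1 : G ∈ LinearMap.ker (LinearMap.toSpanSingleton F[X] _ x) := by
      rw [LinearMap.mem_ker, LinearMap.toSpanSingleton_apply]
      apply (Module.AEval'.of φ).symm.injective
      rw [Module.AEval.of_symm_smul, map_zero]
      exact hG
    rw [hx, Module.mem_annihilator] at h1
    refine LinearMap.ext fun w => ?_
    have := congrArg (Module.AEval'.of φ).symm (h1 (Module.AEval'.of φ w))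
    rw [Module.AEval.of_symm_smul, map_zero, LinearEquiv.symm_apply_apply] at this
    exact this
  let f : Polynomial.degreeLT F (finrank F V) →ₗ[F] cspan φ v :=
    { toFun := fun G => ⟨aeval φ (G : F[X]) v, mem_cspan.2 ⟨_, rfl⟩⟩
      map_add' := fun G H => Subtype.ext (by simp)
      map_smul' := fun r G => Subtype.ext (by simp) }
  have hf : Function.Injective f := by
    rw [injective_iff_map_eq_zero]
    intro G hG
    refine Subtype.ext ?_
    show (G : F[X]) = 0
    by_contra hne
    have hd := mem_degreeLT.1 G.2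
    rw [degree_eq_natDegree hne] at hd
    exact hne (h _ (by exact_mod_cast hd) (hker _ (congrArg Subtype.val hG)))
  refine Submodule.eq_top_of_finrank_eq (le_antisymm (Submodule.finrank_le _) ?_)
  have := LinearMap.finrank_le_finrank_of_injective hf
  rwa [(degreeLTEquiv F (finrank F V)).finrank_eq, Module.finrank_fin_fun] at this

section Semilinear

variable [Fintype F] {E : Type*} [Field E] [Algebra F E] [Finite E]

theorem norm_eq_one_exists_div {y : E} (hy : Algebra.norm F y = 1) :
    ∃ δ : E, δ ≠ 0 ∧ δ = y * δ ^ Fintype.card F := by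
  have hy0 : y ≠ 0 := fun e => by simp [e] at hy
  obtain ⟨g, hg⟩ := IsCyclic.exists_generator (α := Eˣ)
  obtain ⟨m, hm⟩ := Subgroup.mem_zpowers_iff.1 (hg (Units.mk0 y hy0))
  set ν : Eˣ →* Fˣ := Units.map (Algebra.norm F (S := E)) with hν
  have hgen : Subgroup.zpowers (ν g) = ⊤ := by
    rw [← MonoidHom.map_zpowers, (Subgroup.eq_top_iff' _).2 hg]
    exact Subgroup.map_top_of_surjective ν (FiniteField.unitsMap_norm_surjective F E)
  have hord : orderOf (ν g) = Fintype.card F - 1 := by
    rw [← Nat.card_zpowers, hgen, Subgroup.card_top, Nat.card_units, Nat.card_eq_fintype_card]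
  have h1 : ν g ^ m = 1 := by
    rw [← map_zpow, hm]
    exact Units.ext hy
  obtain ⟨r, hr⟩ := orderOf_dvd_iff_zpow_eq_one.2 h1
  refine ⟨((g ^ (-r) : Eˣ) : E), Units.ne_zero _, ?_⟩
  rw [show y = ((g ^ m : Eˣ) : E) by rw [hm]; rfl, ← Units.val_pow_eq_pow_val, ← Units.val_mul,
    ← zpow_natCast (g ^ (-r)), ← _root_.zpow_mul, ← _root_.zpow_add, hr, hord,
    Nat.cast_sub (Fintype.card_pos : 0 < Fintype.card F)]
  congr 2
  push_cast
  ring

/-- A scalar of an extension field is a commutator with a semilinear shift. -/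
theorem gad_semilinear' (k : ℕ) (μ : E) (hμ : Algebra.norm F μ ^ (k + 1) = 1) {D : F} (hD : D ≠ 0) :
    Gad (LinearMap.pi fun i => (Algebra.lmul F E μ).comp (LinearMap.proj i) :
      Module.End F (Fin (k + 1) → E)) D := by
  haveI : Module.Finite F E := Module.Finite.of_finite
  set q := Fintype.card F with hq
  set d := finrank F E with hd
  have hd0 : 0 < d := Module.finrank_pos
  have hμ0 : μ ≠ 0 := fun e => by simp [e] at hμ
  have hnq : ∀ x : E, Algebra.norm F (x ^ q) = Algebra.norm F x := fun x => by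
    rw [map_pow, FiniteField.pow_card]
  -- the corner
  set c : F := (-1) ^ ((k + 1) * d + 1) with hc
  have hc0 : c ≠ 0 := pow_ne_zero _ (neg_ne_zero.2 one_ne_zero)
  obtain ⟨w, hw⟩ := FiniteField.norm_surjective F E c
  have hw0 : w ≠ 0 := fun e => hc0 (by rw [← hw, e, Algebra.norm_zero])
  set T : Module.End F E := (Algebra.lmul F E w).comp (FiniteField.frobeniusAlgHom F E).toLinearMap with hT
  have hTi : ∀ (i : ℕ) (x : E), (T ^ i) x = w ^ (∑ j ∈ Finset.range i, q ^ j) * x ^ q ^ i := by
    intro i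
    induction i with
    | zero => intro x; simp
    | succ i ih =>
      intro x
      rw [pow_succ, Module.End.mul_apply, ih]
      show _ * (w * x ^ q) ^ q ^ i = _
      rw [Finset.sum_range_succ, pow_add, mul_pow, ← pow_mul, ← pow_succ']
      ring
  have hTd : ∀ x, (T ^ d) x = c • x := fun x => by
    rw [hTi, hq, Algebra.smul_def, ← hw, FiniteField.algebraMap_norm_eq_pow, Nat.geomSum_eq Fintype.one_lt_card,
      Fintype.card_eq_nat_card, show Nat.card F ^ d = Nat.card E from
        (Module.natCard_eq_pow_finrank (K := F) (V := E)).symm]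
    congr 1
    haveI := Fintype.ofFinite E
    rw [← Fintype.card_eq_nat_card, FiniteField.pow_card]
  obtain ⟨x₀, hx₀⟩ := exists_cyclic T fun G hG hG0 => by
    have hli := (linearIndependent_toLinearMap F E E).comp _
      (FiniteField.bijective_frobeniusAlgHom_pow F E).injective
    rw [Fintype.linearIndependent_iff] at hli
    have h0 := hli (fun i => algebraMap F E (G.coeff i.val) * w ^ (∑ j ∈ Finset.range i.val, q ^ j))
      (LinearMap.ext fun x => by
        have h1 := LinearMap.congr_fun hG0 x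
        rw [aeval_eq_sum_range' hG, LinearMap.sum_apply, LinearMap.zero_apply, ← Fin.sum_univ_eq_sum_range] at h1
        rw [LinearMap.sum_apply, LinearMap.zero_apply, ← h1]
        refine Finset.sum_congr rfl fun i _ => ?_
        rw [LinearMap.smul_apply, LinearMap.smul_apply, hTi, Algebra.smul_def (G.coeff i.val), smul_eq_mul,
          mul_assoc]
        congr 2
        show (FiniteField.frobeniusAlgHom F E ^ i.val) x = _
        rw [AlgHom.coe_pow, FiniteField.coe_frobeniusAlgHom, pow_iterate])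
    refine Polynomial.ext fun i => ?_
    rw [coeff_zero]
    rcases lt_or_ge i d with hi | hi
    · have := (mul_eq_zero.1 (h0 ⟨i, hi⟩)).resolve_right (pow_ne_zero _ hw0)
      exact (map_eq_zero _).1 this
    · exact coeff_eq_zero_of_natDegree_lt (lt_of_lt_of_le hG hi)
  -- the semilinear shift
  set bL : Module.End F (Fin (k + 1) → E) :=
    LinearMap.pi (Fin.cases (T.comp (LinearMap.proj (Fin.last k))) fun i => LinearMap.proj i.castSucc) with hbL
  have bzero : ∀ v, bL v 0 = T (v (Fin.last k)) := fun v => rfl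
  have bsucc : ∀ v (i : Fin k), bL v i.succ = v i.castSucc := fun v i => by simp [bL]
  have bsingle : ∀ (i : Fin k) (x : E), bL (Pi.single i.castSucc x) = Pi.single i.succ x := fun i x => by
    ext l
    induction l using Fin.cases with
    | zero =>
      rw [bzero, Pi.single_eq_of_ne (Fin.castSucc_lt_last i).ne', map_zero,
        Pi.single_eq_of_ne (Fin.succ_ne_zero i).symm]
    | succ l => rw [bsucc]; simp [Pi.single_apply]
  have blast : ∀ x : E, bL (Pi.single (Fin.last k) x) = Pi.single 0 (T x) := fun x => by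
    ext l
    induction l using Fin.cases with
    | zero => rw [bzero]; simp
    | succ l =>
      rw [bsucc, Pi.single_eq_of_ne (Fin.castSucc_lt_last l).ne, Pi.single_eq_of_ne (Fin.succ_ne_zero l)]
  have bstep : ∀ (j : Fin (k + 1)) (x : E), (bL ^ j.val) (Pi.single 0 x) = Pi.single j x := by
    intro j x
    induction j using Fin.induction with
    | zero => simp
    | succ j ih =>
      rw [Fin.val_succ, pow_succ', Module.End.mul_apply, show j.val = j.castSucc.val from rfl, ih, bsingle]
  have bcycle : ∀ (i : ℕ) (x : E), (bL ^ ((k + 1) * i)) (Pi.single 0 x) = Pi.single 0 ((T ^ i) x) := by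
    intro i x
    induction i with
    | zero => simp
    | succ i ih =>
      rw [Nat.mul_succ, add_comm ((k + 1) * i), pow_add, Module.End.mul_apply, ih, pow_succ', Module.End.mul_apply]
      have := bstep (Fin.last k) ((T ^ i) x)
      rw [Fin.val_last] at this
      rw [this, blast, pow_succ', Module.End.mul_apply]
  have hN0 : 0 < (k + 1) * d := Nat.mul_pos k.succ_pos hd0
  have hfm : (X ^ ((k + 1) * d) - C c).Monic := monic_X_pow_sub_C c hN0.ne'
  have hsim : Sim bL (Cyc (X ^ ((k + 1) * d) - C c)) := by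
    refine sim_cyc (v := Pi.single 0 x₀) hfm ?_ (eq_top_iff.2 fun v _ => ?_) ?_
    · rw [natDegree_X_pow_sub_C, Module.finrank_pi_fintype, Finset.sum_const, Finset.card_univ, Fintype.card_fin,
        smul_eq_mul]
    · rw [← Finset.univ_sum_single v]
      refine Submodule.sum_mem _ fun j _ => mem_cspan.2 ?_
      obtain ⟨G, hG⟩ := mem_cspan.1 (hx₀ ▸ Submodule.mem_top : v j ∈ cspan T x₀)
      refine ⟨X ^ j.val * G.comp (X ^ (k + 1)), ?_⟩
      rw [map_mul, map_pow, aeval_X, Module.End.mul_apply]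
      have : ∀ G : F[X], aeval bL (G.comp (X ^ (k + 1))) (Pi.single 0 x₀) = Pi.single 0 (aeval T G x₀) := by
        intro G
        induction G using Polynomial.induction_on' with
        | add P Q hP hQ => simp [hP, hQ, Pi.single_add]
        | monomial n r =>
          rw [← C_mul_X_pow_eq_monomial, mul_comp, C_comp, pow_comp, X_comp, ← pow_mul, map_mul, map_mul, map_pow,
            map_pow, aeval_X, aeval_X, aeval_C, aeval_C, Module.End.mul_apply, Module.End.mul_apply, bcycle,
            Module.algebraMap_end_apply, Module.algebraMap_end_apply, Pi.single_smul]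
      rw [this, hG, bstep]
    · rw [map_sub, map_pow, aeval_X, aeval_C, LinearMap.sub_apply, bcycle, hTd, Module.algebraMap_end_apply,
        Pi.single_smul, sub_self]
  have hbdet : LinearMap.det bL = 1 := by
    rw [hsim.det_eq, det_Cyc hfm, natDegree_X_pow_sub_C, coeff_sub, coeff_X_pow, if_neg hN0.ne, coeff_C_zero,
      zero_sub, hc, pow_succ, mul_neg_one, neg_neg, ← mul_pow]
    simp
  -- the diagonal
  obtain ⟨δ, hδ0, hδ⟩ := norm_eq_one_exists_div (F := F) (y := μ * (μ ^ k) ^ q) (by
    rw [map_mul, hnq, map_pow, ← pow_succ', hμ])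
  set aL : Module.End F (Fin (k + 1) → E) :=
    LinearMap.pi fun i => (Algebra.lmul F E (δ * μ ^ i.val)).comp (LinearMap.proj i) with haL
  have hadet : LinearMap.det aL ≠ 0 := by
    rw [haL, LinearMap.det_pi, Finset.prod_ne_zero_iff]
    exact fun i _ => Algebra.norm_ne_zero_iff.2 (mul_ne_zero hδ0 (pow_ne_zero _ hμ0))
  obtain ⟨a, ha⟩ := exists_unit hadet
  obtain ⟨b, hb⟩ := exists_unit (φ := bL) (by rw [hbdet]; exact one_ne_zero)
  have key : (LinearMap.pi fun i => (Algebra.lmul F E μ).comp (LinearMap.proj i) :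
      Module.End F (Fin (k + 1) → E)) * (b : Module.End F (Fin (k + 1) → E)) * (a : Module.End F _) =
      (a : Module.End F _) * (b : Module.End F _) := by
    rw [ha, hb]
    refine LinearMap.ext fun v => funext fun l => ?_
    show μ * bL (aL v) l = (δ * μ ^ l.val) * bL v l
    induction l using Fin.cases with
    | zero =>
      rw [bzero, bzero]
      show μ * (w * (δ * μ ^ k * v (Fin.last k)) ^ q) = δ * μ ^ 0 * (w * (v (Fin.last k)) ^ q)
      conv_rhs => rw [hδ]
      ring
    | succ l =>
      rw [bsucc, bsucc]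
      show μ * (δ * μ ^ l.val * v l.castSucc) = δ * μ ^ (l.val + 1) * v l.castSucc
      ring
  have hpart : HasPart (X ^ ((k + 1) * d) - C c) := by
    have h := hasPart_chord (F := F) (n := (k + 1) * d) (m := 0) (η := 0) (c := c) (by omega) hN0 hc0 (Or.inl rfl)
      (fun h => by omega)
    simpa using h
  have hsim' : Sim (b : Module.End F (Fin (k + 1) → E)) (Cyc (X ^ ((k + 1) * d) - C c)) := by
    rw [hb]; exact hsim
  obtain ⟨z, hz, hzd⟩ := centSurj_of_hasPart hpart hsim' ((LinearMap.det aL)⁻¹ * D) (mul_ne_zero (inv_ne_zero hadet) hD)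
  refine ⟨a * z, b, ?_, by rw [Units.val_mul, map_mul, hzd, ha, mul_inv_cancel_left₀ hadet], by rw [hb, hbdet]⟩
  have hzb : z * b = b * z := Units.ext hz.eq
  rw [show a * z * b * (a * z)⁻¹ * b⁻¹ = a * (z * b) * z⁻¹ * a⁻¹ * b⁻¹ by group, hzb, ← mul_assoc a b z,
    mul_inv_cancel_right]
  simp only [Units.val_mul]
  rw [← key, Units.mul_inv_cancel_right, Units.mul_inv_cancel_right]

/-- `gad_semilinear'` with both determinants one. -/
theorem gad_semilinear (k : ℕ) (μ : E) (hμ : Algebra.norm F μ ^ (k + 1) = 1) :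
    Gad (LinearMap.pi fun i => (Algebra.lmul F E μ).comp (LinearMap.proj i) :
      Module.End F (Fin (k + 1) → E)) 1 :=
  gad_semilinear' k μ hμ one_ne_zero

end Semilinear

end Cfsg.Agent.SLComm
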