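import Cfsg.Agent.Lib.SLComm.GLClasses
import Cfsg.Agent.Lib.SLComm.Monomial
import Mathlib.LinearAlgebra.Matrix.Transvection

/-!
# Conjugacy classes of `SL_n`

* `detSub φ` : the determinants of the centraliser of `φ`; `pow_mem_detSub`;
* `tg q f` : the number of classes of `SL_n` with the tuple `f` is at most this;
* `card_classes_SL_le_sum`, `lt_card_classes_SL`.
-/

set_option autoImplicit false
set_option linter.style.haveILetI false
set_option linter.unusedVariables false
set_option linter.unusedSectionVars false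

namespace Cfsg.Agent.SLComm

open Polynomial Module Matrix

variable {F : Type*} [Field F]

section DetSub

variable {V W : Type*} [AddCommGroup V] [Module F V] [AddCommGroup W] [Module F W]

/-- The determinants of the centraliser. -/
noncomputable def detSub (φ : Module.End F V) : Subgroup Fˣ :=
  (Submonoid.centralizer {φ}).units.map (Units.map (LinearMap.det : Module.End F V →* F))

theorem mem_detSub {φ : Module.End F V} {t : Fˣ} :
    t ∈ detSub φ ↔ ∃ z : (Module.End F V)ˣ, Commute (z : Module.End F V) φ ∧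
      LinearMap.det (z : Module.End F V) = t := by
  rw [detSub, Subgroup.mem_map]
  constructor
  · rintro ⟨z, hz, rfl⟩
    exact ⟨z, ((Submonoid.mem_centralizer_iff.1 hz.1) φ rfl).symm, rfl⟩
  · rintro ⟨z, hz, hd⟩
    refine ⟨z, ⟨?_, ?_⟩, Units.ext hd⟩
    · exact Submonoid.mem_centralizer_iff.2 fun y hy => by
        rw [Set.mem_singleton_iff.1 hy]; exact hz.eq.symm
    · exact Submonoid.mem_centralizer_iff.2 fun y hy => by
        rw [Set.mem_singleton_iff.1 hy]; exact (Commute.units_inv_left hz).eq.symm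

theorem detSub_sim {φ : Module.End F V} {ψ : Module.End F W} (hs : Sim φ ψ) : detSub ψ ≤ detSub φ := by
  obtain ⟨e, he⟩ := hs
  intro t ht
  obtain ⟨z, hz, hd⟩ := mem_detSub.1 ht
  refine mem_detSub.2 ⟨Units.map e.symm.conjRingEquiv.toMonoidHom z, LinearMap.ext fun v => ?_, ?_⟩
  · show e.symm ((z : Module.End F W) (e (φ v))) = φ (e.symm ((z : Module.End F W) (e v)))
    refine e.injective ?_
    rw [he, he, e.apply_symm_apply, e.apply_symm_apply]
    exact LinearMap.congr_fun hz.eq (e v)
  · rw [← hd]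
    refine Sim.det_eq ⟨e, fun v => ?_⟩
    show e (e.symm ((z : Module.End F W) (e v))) = _
    rw [e.apply_symm_apply]

theorem detSub_prod_left [Module.Finite F V] [Module.Finite F W] (φ : Module.End F V) (ψ : Module.End F W) :
    detSub φ ≤ detSub (φ.prodMap ψ) := by
  intro t ht
  obtain ⟨z, hz, hd⟩ := mem_detSub.1 ht
  refine mem_detSub.2 ⟨prodU z 1, LinearMap.ext fun v => Prod.ext (LinearMap.congr_fun hz.eq v.1) rfl, ?_⟩
  rw [coe_prodU, det_prodMap', hd]
  simp

end DetSub

variable [Finite F]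

theorem pow_mem_detSub {P : F[X]} (hP : Irreducible P) (hPm : P.Monic) {e : ℕ} (he : 0 < e) (t : Fˣ) :
    t ^ e ∈ detSub (Cyc (P ^ e)) := by
  haveI := Fact.mk hP
  haveI := hPm.finite_adjoinRoot
  haveI : Finite (AdjoinRoot P) := Module.finite_of_finite F
  refine detSub_sim (sim_jMap hPm (PerfectField.separable_of_irreducible hP) he one_ne_zero).symm ?_
  obtain ⟨ζ, hζ⟩ := FiniteField.norm_surjective F (AdjoinRoot P) (t : F)
  set z : Module.End F (Fin e → AdjoinRoot P) :=
    LinearMap.pi fun i => (Algebra.lmul F (AdjoinRoot P) ζ).comp (LinearMap.proj i) with hz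
  have hdet : LinearMap.det z = ((t ^ e : Fˣ) : F) := by
    rw [hz, LinearMap.det_pi, Finset.prod_const, Finset.card_univ, Fintype.card_fin,
      show LinearMap.det (Algebra.lmul F (AdjoinRoot P) ζ) = Algebra.norm F ζ from rfl, hζ, Units.val_pow_eq_pow_val]
  obtain ⟨u, hu⟩ := exists_unit (φ := z) (by rw [hdet]; exact Units.ne_zero _)
  refine mem_detSub.2 ⟨u, ?_, by rw [hu, hdet]⟩
  rw [hu]
  refine LinearMap.ext fun v => funext fun i => ?_
  simp only [hz, jMap, Module.End.mul_apply, LinearMap.pi_apply, LinearMap.coe_comp, Function.comp_apply,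
    LinearMap.proj_apply, Algebra.coe_lmul_eq_mul, LinearMap.mul_apply', LinearMap.coe_restrictScalars,
    LinearMap.add_apply, LinearMap.smul_apply, Module.End.one_apply, Pi.add_apply, Pi.smul_apply, smul_eq_mul]
  show ζ * (_ + 1 * _) = _ + 1 * _
  simp only [one_mul, shiftL, LinearMap.coe_mk, AddHom.coe_mk, LinearMap.pi_apply, LinearMap.coe_comp,
    Function.comp_apply, LinearMap.proj_apply]
  split_ifs <;> simp [mul_add, mul_left_comm]

theorem pow_mem_detSub_blocks {ps : List (F[X] × ℕ)} (h : PairsOk ps) {x : F[X] × ℕ} (hx : x ∈ ps) (t : Fˣ) :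
    t ^ x.2 ∈ detSub (dcyc (blocks ps)) := by
  classical
  obtain ⟨hP, hPm, he, -⟩ := h x hx
  have hperm : (blocks ps).Perm (x.1 ^ x.2 :: blocks (ps.erase x)) := (List.perm_cons_erase hx).map _
  haveI := (hPm.pow x.2).finite_adjoinRoot
  haveI := finite_dcyc (L := blocks (ps.erase x)) fun p hp => by
    obtain ⟨y, hy, rfl⟩ := List.mem_map.1 hp
    exact (h y (List.mem_of_mem_erase hy)).2.1.pow _
  refine detSub_sim (dcyc_perm hperm) ?_
  exact detSub_sim (dcyc_cons _ _) (detSub_prod_left _ _ (pow_mem_detSub hP hPm he t))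

/-- The bound for the number of classes with the tuple `f`. -/
noncomputable def tg (n : ℕ) (f : ℕ → F[X]) : ℕ :=
  open Classical in ((Finset.Icc 1 n).filter fun i => f i ≠ 1).gcd id |>.gcd (Nat.card F - 1)

theorem tg_pos (n : ℕ) (f : ℕ → F[X]) : 0 < tg n f := by
  refine Nat.gcd_pos_of_pos_right _ ?_
  have := Finite.one_lt_card (α := F)
  omega

/-- The determinant read off a tuple. -/
noncomputable def tdet (n : ℕ) (f : ℕ → F[X]) : F := ∏ i ∈ Finset.Icc 1 n, cdetT (f i) ^ i
where
  /-- The determinant of the model. -/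
  cdetT (h : F[X]) : F := (-1) ^ h.natDegree * h.coeff 0

theorem prod_cdetT_tupOf : ∀ {ps : List (F[X] × ℕ)} {n : ℕ}, PairsOk ps → (∀ x ∈ ps, x.2 ≤ n) →
    tdet n (tupOf ps) = ((blocks ps).map fun h => (-1) ^ h.natDegree * h.coeff 0).prod
  | [], n, _, _ => by simp [tdet, tupOf, blocks, tdet.cdetT]
  | x :: ps, n, hok, hn => by
    classical
    obtain ⟨-, hm, hpos, -⟩ := hok x List.mem_cons_self
    have hok' : PairsOk ps := fun y hy => hok y (List.mem_cons_of_mem _ hy)
    rw [blocks, List.map_cons, List.map_cons, List.prod_cons, ← blocks, ← prod_cdetT_tupOf hok'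
      fun y hy => hn y (List.mem_cons_of_mem _ hy), tdet, tdet]
    have e : ∀ i, tdet.cdetT (tupOf (x :: ps) i) ^ i =
        (if x.2 = i then tdet.cdetT x.1 ^ i else 1) * tdet.cdetT (tupOf ps i) ^ i := by
      intro i
      rw [tupOf_cons]
      by_cases h : x.2 = i
      · rw [if_pos h, if_pos h, tdet.cdetT, tdet.cdetT, tdet.cdetT, hm.natDegree_mul (tupOf_monic hok' i).1,
          mul_coeff_zero, pow_add, ← mul_pow]
        ring_nf
      · rw [if_neg h, if_neg h, one_mul, one_mul]
    simp only [e, Finset.prod_mul_distrib, Finset.prod_ite_eq, Finset.mem_Icc]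
    rw [if_pos ⟨hpos, hn x List.mem_cons_self⟩]
    congr 1
    rw [tdet.cdetT, mul_pow, ← pow_mul, hm.natDegree_pow, coeff_zero_eq_eval_zero (x.1 ^ x.2), eval_pow,
      ← coeff_zero_eq_eval_zero, mul_comm x.2]

section Classes

variable {n : ℕ}

/-- The invariant of an element of `SL_n`. -/
noncomputable def slTup (g : Matrix.SpecialLinearGroup (Fin n) F) : ℕ → F[X] :=
  tupOf (pairsOf (Matrix.SpecialLinearGroup.toGL g))

theorem tdet_slTup (g : Matrix.SpecialLinearGroup (Fin n) F) : tdet n (slTup g) = 1 := by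
  obtain ⟨hok, hs, hp⟩ := pairsOf_spec (Matrix.SpecialLinearGroup.toGL g)
  rw [slTup, prod_cdetT_tupOf hok fun x hx => hp ▸ le_pdeg hok hx, ← det_dcyc fun h hh => by
    obtain ⟨x, hx, rfl⟩ := List.mem_map.1 hh
    exact (hok x hx).2.1.pow _, ← hs.det_eq, LinearMap.det_toLin']
  exact g.2

theorem pow_tg_mem_detSub (g : Matrix.SpecialLinearGroup (Fin n) F) (t : Fˣ) :
    t ^ tg n (slTup g) ∈ detSub (Matrix.toLin' (g : Matrix (Fin n) (Fin n) F)) := by
  classical
  obtain ⟨hok, hs, hp⟩ := pairsOf_spec (Matrix.SpecialLinearGroup.toGL g)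
  set ps := pairsOf (Matrix.SpecialLinearGroup.toGL g) with hps
  set D := detSub (Matrix.toLin' (g : Matrix (Fin n) (Fin n) F))
  have hgcd : ∀ a b : ℕ, t ^ a ∈ D → t ^ b ∈ D → t ^ Nat.gcd a b ∈ D := fun a b ha hb => by
    rw [← zpow_natCast, Nat.gcd_eq_gcd_ab, _root_.zpow_add, _root_.zpow_mul, _root_.zpow_mul, zpow_natCast,
      zpow_natCast]
    exact D.mul_mem (D.zpow_mem ha _) (D.zpow_mem hb _)
  refine hgcd _ _ ?_ ?_
  · have hall : ∀ s : Finset ℕ, (∀ i ∈ s, t ^ i ∈ D) → t ^ s.gcd id ∈ D := by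
      intro s
      induction s using Finset.induction with
      | empty => intro _; simp
      | insert a s ha ih =>
        intro h
        rw [Finset.gcd_insert]
        exact hgcd a _ (h a (Finset.mem_insert_self a s)) (ih fun i hi => h i (Finset.mem_insert_of_mem hi))
    refine hall _ fun i hi => ?_
    obtain ⟨-, hne⟩ := Finset.mem_filter.1 hi
    obtain ⟨x, hx, rfl⟩ : ∃ x ∈ ps, x.2 = i := by
      by_contra hno
      push Not at hno
      exact hne (tupOf_eq_one hno)
    exact detSub_sim hs (pow_mem_detSub_blocks hok hx t)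
  · have h1 : t ^ (Nat.card F - 1) = 1 := by rw [← Nat.card_units, pow_card_eq_one']
    rw [h1]
    exact D.one_mem

theorem index_pow_range (g : ℕ) (hg : g ∣ Nat.card Fˣ) : (powMonoidHom g : Fˣ →* Fˣ).range.index = g := by
  have h1 := (powMonoidHom g : Fˣ →* Fˣ).range.card_mul_index
  rw [IsCyclic.card_powMonoidHom_range, Nat.gcd_eq_right hg] at h1
  obtain ⟨k, hk⟩ := hg
  have hk0 : 0 < g ∧ 0 < k := by
    have : 0 < g * k := hk ▸ Nat.card_pos
    exact ⟨Nat.pos_of_mul_pos_right this, Nat.pos_of_mul_pos_left this⟩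
  rw [hk, Nat.mul_div_cancel_left _ hk0.1, mul_comm g k] at h1
  exact Nat.eq_of_mul_eq_mul_left hk0.2 h1

theorem tg_dvd (n : ℕ) (f : ℕ → F[X]) : tg n f ∣ Nat.card Fˣ := by
  rw [Nat.card_units]
  exact Nat.gcd_dvd_right _ _

/-- The classes with a given tuple. -/
theorem card_fibre_le (f : ℕ → F[X]) :
    Nat.card {c : ConjClasses (Matrix.SpecialLinearGroup (Fin n) F) // slTup c.out = f} ≤ tg n f := by
  classical
  set D := (powMonoidHom (tg n f) : Fˣ →* Fˣ).range with hD
  by_cases hne : Nonempty {c : ConjClasses (Matrix.SpecialLinearGroup (Fin n) F) // slTup c.out = f}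
  swap
  · rw [not_nonempty_iff] at hne
    simp
  obtain ⟨c₀, hc₀⟩ := hne
  set r := c₀.out with hr
  have hconj : ∀ c : {c : ConjClasses (Matrix.SpecialLinearGroup (Fin n) F) // slTup c.out = f},
      ∃ x : GL (Fin n) F, x * Matrix.SpecialLinearGroup.toGL r * x⁻¹ = Matrix.SpecialLinearGroup.toGL c.1.out :=
    fun c => isConj_iff.1 (glTup_inj (hc₀.trans c.2.symm))
  choose x hx using hconj
  let F' : {c : ConjClasses (Matrix.SpecialLinearGroup (Fin n) F) // slTup c.out = f} → Fˣ ⧸ D :=
    fun c => QuotientGroup.mk (Matrix.GeneralLinearGroup.det (x c))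
  have hinj : Function.Injective F' := by
    intro c d he
    have hm := QuotientGroup.eq.1 he
    obtain ⟨t, ht⟩ := MonoidHom.mem_range.1 hm
    rw [powMonoidHom_apply] at ht
    have hmem := pow_tg_mem_detSub r t
    rw [hc₀, ht] at hmem
    obtain ⟨z, hz, hzd⟩ := mem_detSub.1 hmem
    let Z : GL (Fin n) F := Units.map (Matrix.toLinAlgEquiv' (R := F) (n := Fin n)).symm.toMonoidHom z
    have hZz : Matrix.toLin' (Z : Matrix (Fin n) (Fin n) F) = (z : Module.End F (Fin n → F)) :=
      (Matrix.toLinAlgEquiv' (R := F) (n := Fin n)).apply_symm_apply _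
    have hZr : Z * Matrix.SpecialLinearGroup.toGL r = Matrix.SpecialLinearGroup.toGL r * Z := by
      refine Units.ext (Matrix.toLin'.injective ?_)
      rw [Units.val_mul, Units.val_mul, Matrix.toLin'_mul, Matrix.toLin'_mul, hZz]
      exact hz.eq
    have hZd : Matrix.GeneralLinearGroup.det Z =
        (Matrix.GeneralLinearGroup.det (x c))⁻¹ * Matrix.GeneralLinearGroup.det (x d) := by
      refine Units.ext ?_
      rw [← hzd, ← hZz, LinearMap.det_toLin']
      rfl
    set w := x d * Z⁻¹ * (x c)⁻¹ with hw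
    have hw1 : Matrix.GeneralLinearGroup.det w = 1 := by
      rw [hw, map_mul, map_mul, map_inv, map_inv, hZd, _root_.mul_inv_rev, inv_inv, mul_inv_cancel_left,
        mul_inv_cancel]
    have hwd : (w : Matrix (Fin n) (Fin n) F).det = 1 := congrArg Units.val hw1
    refine Subtype.ext ?_
    rw [← Quotient.out_eq c.1, ← Quotient.out_eq d.1]
    let W : Matrix.SpecialLinearGroup (Fin n) F := ⟨(w : Matrix (Fin n) (Fin n) F), hwd⟩
    have hW : Matrix.SpecialLinearGroup.toGL W = w := Units.ext rfl
    refine Quotient.sound (isConj_iff.2 ⟨W, ?_⟩)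
    apply Matrix.SpecialLinearGroup.toGL_injective
    rw [map_mul, map_mul, map_inv, hW, hw, ← hx c, ← hx d]
    have hZ2 : Z⁻¹ * Matrix.SpecialLinearGroup.toGL r * Z = Matrix.SpecialLinearGroup.toGL r := by
      rw [mul_assoc, ← hZr, inv_mul_cancel_left]
    calc x d * Z⁻¹ * (x c)⁻¹ * (x c * Matrix.SpecialLinearGroup.toGL r * (x c)⁻¹) * (x d * Z⁻¹ * (x c)⁻¹)⁻¹
        = x d * (Z⁻¹ * Matrix.SpecialLinearGroup.toGL r * Z) * (x d)⁻¹ := by group
      _ = _ := by rw [hZ2]
  calc Nat.card {c : ConjClasses (Matrix.SpecialLinearGroup (Fin n) F) // slTup c.out = f}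
      ≤ Nat.card (Fˣ ⧸ D) := Nat.card_le_card_of_injective F' hinj
    _ = tg n f := by
        rw [← Subgroup.index_eq_card, hD, index_pow_range _ (tg_dvd n f)]

variable (F) in
/-- The tuples of determinant one. -/
def slTupSet (n : ℕ) : Set (ℕ → F[X]) := {f ∈ tupSet F (down n) n | tdet n f = 1}

theorem slTupSet_finite (n : ℕ) : (slTupSet F n).Finite :=
  (tupSet_finite_card (down n) (down_nodup n).1 (down_pos n) n).1.subset (Set.sep_subset _ _)

theorem card_classes_SL_le_sum : Nat.card (ConjClasses (Matrix.SpecialLinearGroup (Fin n) F)) ≤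
    ∑ f ∈ (slTupSet_finite (F := F) n).toFinset, tg n f := by
  classical
  haveI := Fintype.ofFinite (ConjClasses (Matrix.SpecialLinearGroup (Fin n) F))
  rw [Nat.card_eq_fintype_card, ← Finset.card_univ,
    Finset.card_eq_sum_card_fiberwise (f := fun c : ConjClasses (Matrix.SpecialLinearGroup (Fin n) F) => slTup c.out)
      (t := (slTupSet_finite (F := F) n).toFinset) fun c _ =>
      (slTupSet_finite n).mem_toFinset.2 ⟨glTup_mem _, tdet_slTup _⟩]
  refine Finset.sum_le_sum fun f _ => le_trans ?_ (card_fibre_le f)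
  rw [Nat.card_eq_fintype_card, Fintype.card_subtype]

end Classes

/-- Monic polynomials with the constant term forced by the determinant. -/
theorem exists_monic_of_tail (m : ℕ) (v : Fin m → F) :
    ∃ f : F[X], f.Monic ∧ f.natDegree = m + 1 ∧ (-1) ^ (m + 1) * f.coeff 0 = 1 ∧
      ∀ i : Fin m, f.coeff (i.val + 1) = v i := by
  classical
  set g : F[X] := ∑ i : Fin (m + 1), C ((Fin.cons ((-1 : F) ^ (m + 1)) v : Fin (m + 1) → F) i) * X ^ i.val
  have hg : g.degree < ((m + 1 : ℕ) : WithBot ℕ) := degree_sum_fin_lt _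
  have hgc : ∀ i : Fin (m + 1), g.coeff i.val = (Fin.cons ((-1 : F) ^ (m + 1)) v : Fin (m + 1) → F) i := by
    intro i
    simp only [g, finset_sum_coeff, coeff_C_mul, coeff_X_pow]
    rw [Finset.sum_eq_single i (fun j _ hj => by
      rw [if_neg (fun e => hj (Fin.ext e.symm)), mul_zero]) (by simp)]
    simp
  refine ⟨X ^ (m + 1) + g, (monic_X_pow (m + 1)).add_of_left (by rw [degree_X_pow]; exact hg), ?_, ?_, ?_⟩
  · refine natDegree_eq_of_degree_eq_some ?_
    rw [degree_add_eq_left_of_degree_lt (by rw [degree_X_pow]; exact hg), degree_X_pow]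
  · have := hgc 0
    simp only [Fin.val_zero, Fin.cons_zero] at this
    rw [coeff_add, coeff_X_pow, if_neg (by omega), zero_add, this, ← mul_pow]
    simp
  · intro i
    have := hgc i.succ
    simp only [Fin.val_succ, Fin.cons_succ] at this
    rw [coeff_add, coeff_X_pow, if_neg (by omega), zero_add, this]

theorem lt_card_classes_SL (m : ℕ) (hm : 1 ≤ m) :
    Nat.card F ^ m < Nat.card (ConjClasses (Matrix.SpecialLinearGroup (Fin (m + 1)) F)) := by
  classical
  haveI := Fintype.ofFinite F
  let cp : ConjClasses (Matrix.SpecialLinearGroup (Fin (m + 1)) F) → (Fin m → F) :=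
    Quotient.lift (fun g i => (g : Matrix (Fin (m + 1)) (Fin (m + 1)) F).charpoly.coeff (i.val + 1)) fun g h hgh => by
      obtain ⟨x, hx⟩ := isConj_iff.1 (show IsConj g h from hgh)
      have hx' : Matrix.SpecialLinearGroup.toGL x * Matrix.SpecialLinearGroup.toGL g *
          (Matrix.SpecialLinearGroup.toGL x)⁻¹ = Matrix.SpecialLinearGroup.toGL h := by
        rw [← map_inv, ← map_mul, ← map_mul, hx]
      have e : (g : Matrix (Fin (m + 1)) (Fin (m + 1)) F).charpoly =
          ((Matrix.SpecialLinearGroup.toGL h : GL (Fin (m + 1)) F) : Matrix (Fin (m + 1)) (Fin (m + 1)) F).charpoly := by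
        rw [← hx', Units.val_mul, Units.val_mul, Matrix.coe_units_inv, Matrix.charpoly_units_conj]
        rfl
      funext i
      rw [e]
      rfl
  have hsurj : Function.Surjective cp := by
    intro v
    obtain ⟨f, hf, hd, h0, hv⟩ := exists_monic_of_tail m v
    obtain ⟨g, hg⟩ := exists_GL_charpoly hf hd (fun e => by rw [e, mul_zero] at h0; exact zero_ne_one h0)
    have hdet : (g : Matrix (Fin (m + 1)) (Fin (m + 1)) F).det = 1 := by
      rw [Matrix.det_eq_sign_charpoly_coeff, hg, Fintype.card_fin]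
      exact h0
    refine ⟨ConjClasses.mk ⟨(g : Matrix (Fin (m + 1)) (Fin (m + 1)) F), hdet⟩, funext fun i => ?_⟩
    show (g : Matrix (Fin (m + 1)) (Fin (m + 1)) F).charpoly.coeff (i.val + 1) = v i
    rw [hg, hv]
  have hninj : ¬ Function.Injective cp := by
    intro hinj
    obtain ⟨i, j, hij⟩ : ∃ i j : Fin (m + 1), i < j := ⟨0, ⟨1, by omega⟩, Fin.lt_def.2 (by simp)⟩
    let T : Matrix.SpecialLinearGroup (Fin (m + 1)) F :=
      ⟨Matrix.transvection i j 1, Matrix.det_transvection_of_ne i j hij.ne 1⟩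
    have hcp : cp (ConjClasses.mk T) = cp (ConjClasses.mk 1) := by
      funext l
      show (Matrix.transvection i j (1 : F)).charpoly.coeff _ = (1 : Matrix (Fin (m + 1)) (Fin (m + 1)) F).charpoly.coeff _
      congr 1
      rw [Matrix.charpoly, Matrix.det_of_upperTriangular, Matrix.charpoly_one]
      · rw [Finset.prod_congr rfl fun a _ => show Matrix.charmatrix (Matrix.transvection i j (1 : F)) a a = X - 1 by
          rw [Matrix.charmatrix_apply_eq]
          simp [Matrix.transvection, Matrix.single_apply, hij.ne]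
          intro e1 e2
          exact absurd (e1.trans e2.symm) hij.ne,
          Finset.prod_const, Finset.card_univ]
      · intro a b hab
        have hab' : b < a := hab
        rw [Matrix.charmatrix_apply_ne _ _ _ hab'.ne']
        simp [Matrix.transvection, Matrix.single_apply, hab'.ne']
        intro e1 e2
        exact absurd (e1 ▸ e2 ▸ hij : a < b) hab'.asymm
    have h1 := ConjClasses.mk_eq_mk_iff_isConj.1 (hinj hcp)
    have h2 : T = 1 := isConj_one_left.1 h1
    have h3 := congrArg (fun A : Matrix.SpecialLinearGroup (Fin (m + 1)) F => (A : Matrix _ _ F) i j) h2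
    simp [T, Matrix.transvection, hij.ne] at h3
  haveI := Fintype.ofFinite (ConjClasses (Matrix.SpecialLinearGroup (Fin (m + 1)) F))
  have := Fintype.card_lt_of_surjective_not_injective cp hsurj hninj
  rw [← Nat.card_eq_fintype_card, ← Nat.card_eq_fintype_card, Nat.card_fun, Nat.card_fin] at this
  exact this

end Cfsg.Agent.SLComm
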