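import Cfsg.Agent.Lib.SLComm.Small

/-!
# Triangular gadgets and single blocks

* `units_of_fac` : a self-shifted factorisation with the annihilator of the first commutator entry;
* `triMap`, `sim_tri`, `sim_tri_jordan` : triangular models of two Jordan blocks;
* `centSurj_dcyc_prime` : a simple block gives a surjective centraliser.
-/

set_option autoImplicit false
set_option linter.style.haveILetI false
set_option linter.unusedVariables false
set_option linter.unusedSectionVars false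

namespace Cfsg.Agent.SLComm

open Polynomial Module Matrix

variable {F : Type*} [Field F]

section Units

variable {V W : Type*} [AddCommGroup V] [Module F V] [AddCommGroup W] [Module F W]

/-- The criterion, keeping the first factor. -/
theorem units_of_factor {φ : Module.End F V} {Y a : (Module.End F W)ˣ} [Module.Finite F W]
    (hφ : Sim φ ((a : Module.End F W) * (Y : Module.End F W)))
    (hYX : Sim ((Y⁻¹ : (Module.End F W)ˣ) : Module.End F W) (a : Module.End F W))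
    (hc : CentSurj (a : Module.End F W)) :
    ∃ b : (Module.End F W)ˣ, Sim φ ((a * b * a⁻¹ * b⁻¹ : (Module.End F W)ˣ) : Module.End F W) ∧
      LinearMap.det (b : Module.End F W) = 1 := by
  obtain ⟨e, he⟩ := hYX
  let E : (Module.End F W)ˣ := (LinearMap.GeneralLinearGroup.generalLinearEquiv F W).symm e
  have hE : E * Y⁻¹ = a * E := Units.ext (LinearMap.ext fun v => he v)
  obtain ⟨z, hz, hzd⟩ := hc (LinearMap.det (E : Module.End F W)) (det_unit_ne_zero E)
  have hz' : z * a = a * z := Units.ext hz.eq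
  refine ⟨E⁻¹ * z, ?_, ?_⟩
  · have h1 : Y = E⁻¹ * a⁻¹ * E := by
      rw [show Y = (E⁻¹ * (E * Y⁻¹))⁻¹ by group, hE]
      group
    have h2 : z * a⁻¹ * z⁻¹ = a⁻¹ := by
      rw [show z * a⁻¹ * z⁻¹ = (z * a * z⁻¹)⁻¹ by group, hz', mul_inv_cancel_right]
    have h3 : a * (E⁻¹ * z) * a⁻¹ * (E⁻¹ * z)⁻¹ = a * Y := by
      calc a * (E⁻¹ * z) * a⁻¹ * (E⁻¹ * z)⁻¹ = a * (E⁻¹ * (z * a⁻¹ * z⁻¹) * E) := by group
        _ = a * (E⁻¹ * a⁻¹ * E) := by rw [h2]
        _ = _ := by rw [h1]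
    rw [h3, Units.val_mul]
    exact hφ
  · rw [Units.val_mul, map_mul, det_unit_inv, hzd, inv_mul_cancel₀ (det_unit_ne_zero E)]

/-- A block factorised with equal polynomials, as a commutator. -/
theorem units_of_fac {h f : F[X]} (hf : Fac h f f) (fm : f.Monic) (f0 : f.coeff 0 ≠ 0) (hc : CentSurj (Cyc f)) :
    ∃ (n : ℕ) (a b : (Module.End F (Fin n → F))ˣ),
      Sim (Cyc h) ((a * b * a⁻¹ * b⁻¹ : (Module.End F (Fin n → F))ˣ) : Module.End F (Fin n → F)) ∧
      LinearMap.det (a : Module.End F (Fin n → F)) = cdet f ∧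
      LinearMap.det (b : Module.End F (Fin n → F)) = 1 ∧
      aeval ((a⁻¹ : (Module.End F (Fin n → F))ˣ) : Module.End F (Fin n → F)) (invPoly f) = 0 := by
  obtain ⟨n, A, Y, hA, hh, hY⟩ := hf
  obtain ⟨a, rfl⟩ := exists_unit (φ := A) (by
    rw [hA.det_eq, det_Cyc fm]; exact mul_ne_zero (pow_ne_zero _ (neg_ne_zero.2 one_ne_zero)) f0)
  obtain ⟨b, hb, hbd⟩ := units_of_factor hh (hY.trans hA.symm) (hc.sim hA)
  refine ⟨n, a, b, hb, by rw [hA.det_eq, det_Cyc fm]; rfl, hbd, ?_⟩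
  obtain ⟨e, he⟩ := sim_inv a fm f0 hA
  refine LinearMap.ext fun v => e.injective ?_
  rw [Sim.aeval_apply e he, aeval_Cyc, LinearMap.zero_apply, map_zero, AdjoinRoot.mk_self]
  simp

/-- A triangular endomorphism. -/
def triMap (φ₁ : Module.End F V) (N : W →ₗ[F] V) (φ₂ : Module.End F W) : Module.End F (V × W) :=
  LinearMap.prod (φ₁ ∘ₗ LinearMap.fst F V W + N ∘ₗ LinearMap.snd F V W) (φ₂ ∘ₗ LinearMap.snd F V W)

theorem triMap_apply (φ₁ : Module.End F V) (N : W →ₗ[F] V) (φ₂ : Module.End F W) (x : V × W) :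
    triMap φ₁ N φ₂ x = (φ₁ x.1 + N x.2, φ₂ x.2) := rfl

/-- Commutators on the diagonal with coprime annihilators give a commutator. -/
theorem gad_triMap {V' W' : Type*} [AddCommGroup V'] [Module F V'] [AddCommGroup W'] [Module F W']
    [Module.Finite F V] [Module.Finite F W] {φ₁ : Module.End F V'} {φ₂ : Module.End F W'} (N : W' →ₗ[F] V')
    (a₁ b₁ : (Module.End F V)ˣ) (a₂ b₂ : (Module.End F W)ˣ)
    (h₁ : Sim φ₁ ((a₁ * b₁ * a₁⁻¹ * b₁⁻¹ : (Module.End F V)ˣ) : Module.End F V))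
    (h₂ : Sim φ₂ ((a₂ * b₂ * a₂⁻¹ * b₂⁻¹ : (Module.End F W)ˣ) : Module.End F W))
    (hb₁ : LinearMap.det (b₁ : Module.End F V) = 1) (hb₂ : LinearMap.det (b₂ : Module.End F W) = 1)
    {P Q : F[X]} (hPQ : IsCoprime P Q)
    (hP : aeval ((a₁⁻¹ : (Module.End F V)ˣ) : Module.End F V) P = 0)
    (hQ : aeval ((a₂⁻¹ : (Module.End F W)ˣ) : Module.End F W) Q = 0) :
    Gad (triMap φ₁ N φ₂) (LinearMap.det (a₁ : Module.End F V) * LinearMap.det (a₂ : Module.End F W)) := by
  obtain ⟨e₁, he₁⟩ := h₁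
  obtain ⟨e₂, he₂⟩ := h₂
  set ψ₁ := ((a₁ * b₁ * a₁⁻¹ * b₁⁻¹ : (Module.End F V)ˣ) : Module.End F V)
  set ψ₂ := ((a₂ * b₂ * a₂⁻¹ * b₂⁻¹ : (Module.End F W)ˣ) : Module.End F W)
  refine Gad.sim (ψ := triMap ψ₁ ((e₁ : V' →ₗ[F] V) ∘ₗ N ∘ₗ (e₂.symm : W →ₗ[F] W')) ψ₂) ?_
    ⟨e₁.prodCongr e₂, fun x => ?_⟩
  · exact gad_tri a₁ b₁ a₂ b₂ rfl rfl hb₁ hb₂ hPQ hP hQ fun x => triMap_apply _ _ _ _
  · show (e₁ (φ₁ x.1 + N x.2), e₂ (φ₂ x.2)) = (ψ₁ (e₁ x.1) + e₁ (N (e₂.symm (e₂ x.2))), ψ₂ (e₂ x.2))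
    rw [map_add, he₁, he₂, e₂.symm_apply_apply]

end Units

/-- The triangular model of a long Jordan block over a small one. -/
theorem tri_jordan {V : Type*} [AddCommGroup V] [Module F V] {φ₁ : Module.End F V} {lam : F} {u : V}
    (hu : φ₁ u = lam • u) (k : ℕ) :
    ∃ L : AdjoinRoot ((X - C lam) ^ (k + 1)) →ₗ[F] F,
      L (AdjoinRoot.mk ((X - C lam) ^ (k + 1)) ((X - C lam) ^ k)) = 1 ∧
      aeval (triMap φ₁ (L.smulRight u) (Cyc ((X - C lam) ^ (k + 1)))) ((X - C lam) ^ (k + 2)) (0, 1) = 0 ∧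
      (∀ (j : ℕ) (y : AdjoinRoot ((X - C lam) ^ (k + 1))),
        aeval (triMap φ₁ (L.smulRight u) (Cyc ((X - C lam) ^ (k + 1)))) ((X - C lam) ^ (j + 1)) (0, y) =
          (L (AdjoinRoot.mk ((X - C lam) ^ (k + 1)) (X - C lam) ^ j * y) • u,
            AdjoinRoot.mk ((X - C lam) ^ (k + 1)) (X - C lam) ^ (j + 1) * y)) ∧
      ∀ S : Submodule F (V × AdjoinRoot ((X - C lam) ^ (k + 1))),
        (∀ x ∈ S, triMap φ₁ (L.smulRight u) (Cyc ((X - C lam) ^ (k + 1))) x ∈ S) →
        (0, 1) ∈ S → (u, 0) ∈ S ∧ ∀ y, (0, y) ∈ S := by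
  set h := (X - C lam) ^ (k + 1) with hh
  set s := AdjoinRoot.mk h (X - C lam) with hs
  have hne : s ^ k ≠ 0 := by
    rw [hs, ← map_pow, Ne, AdjoinRoot.mk_eq_zero, hh, pow_dvd_pow_iff (X_sub_C_ne_zero lam)
      (not_isUnit_X_sub_C lam)]
    omega
  have htop : s ^ (k + 1) = 0 := by rw [hs, ← map_pow, AdjoinRoot.mk_eq_zero]
  obtain ⟨L₀, hL₀⟩ := Projective.exists_dual_ne_zero F hne
  set L := (L₀ (s ^ k))⁻¹ • L₀
  have hL : L (s ^ k) = 1 := by simp [L, inv_mul_cancel₀ hL₀]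
  refine ⟨L, by rw [map_pow]; exact hL, ?_⟩
  set ψ := triMap φ₁ (L.smulRight u) (Cyc h) with hψ
  have hstep : ∀ (j : ℕ) (y : AdjoinRoot h),
      aeval ψ ((X - C lam) ^ (j + 1)) (0, y) = (L (s ^ j * y) • u, s ^ (j + 1) * y) := by
    have hone : ∀ (c : F) (y : AdjoinRoot h),
        aeval ψ (X - C lam) (c • u, y) = (L y • u, s * y) := by
      intro c y
      rw [map_sub, aeval_X, aeval_C, LinearMap.sub_apply, Module.algebraMap_end_apply, hψ, triMap_apply,
        map_smul, hu, Prod.smul_mk, Prod.mk_sub_mk, LinearMap.smulRight_apply, smul_comm lam c, add_sub_cancel_left]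
      congr 1
      rw [hs, map_sub, AdjoinRoot.mk_X, AdjoinRoot.mk_C, sub_mul, ← AdjoinRoot.algebraMap_eq, ← Algebra.smul_def]
      rfl
    intro j
    induction j with
    | zero =>
      intro y
      have := hone 0 y
      rw [zero_smul] at this
      rw [zero_add, pow_one, pow_zero, one_mul, pow_one, this]
    | succ j ih =>
      intro y
      rw [pow_succ' _ (j + 1), map_mul, Module.End.mul_apply, ih, hone]
      rw [pow_succ' s (j + 1), mul_assoc]
  refine ⟨?_, hstep, fun S hS hw => ?_⟩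
  · rw [hstep (k + 1), htop, zero_mul, map_zero, zero_smul, pow_succ, htop, zero_mul, zero_mul]
    rfl
  · have hu' : (u, (0 : AdjoinRoot h)) ∈ S := by
      have := aeval_mem hS ((X - C lam) ^ (k + 1)) _ hw
      rwa [hstep k, mul_one, mul_one, hL, one_smul, htop] at this
    refine ⟨hu', fun y => ?_⟩
    induction y using AdjoinRoot.induction_on with
    | _ G =>
      have key : ∀ G : F[X], ∃ c : F, aeval ψ G (0, 1) = (c • u, AdjoinRoot.mk h G) := by
        intro G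
        induction G using Polynomial.induction_on with
        | C a => exact ⟨0, by simp [Module.algebraMap_end_apply, AdjoinRoot.smul_mk, Algebra.smul_def]⟩
        | add p q hp hq =>
          obtain ⟨c, hc⟩ := hp
          obtain ⟨d, hd⟩ := hq
          exact ⟨c + d, by simp [hc, hd, add_smul]⟩
        | monomial n a ih =>
          obtain ⟨c, hc⟩ := ih
          refine ⟨lam * c + L (AdjoinRoot.mk h (C a * X ^ n)), ?_⟩
          rw [show C a * X ^ (n + 1) = X * (C a * X ^ n) by ring, map_mul (aeval ψ), aeval_X, Module.End.mul_apply,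
            hc, hψ, triMap_apply, map_smul, hu, smul_smul, LinearMap.smulRight_apply, add_smul, mul_comm lam c,
            map_mul (AdjoinRoot.mk h) X, AdjoinRoot.mk_X]
          rfl
      obtain ⟨c, hc⟩ := key G
      have h1 := S.sub_mem (hc ▸ aeval_mem hS G _ hw) (S.smul_mem c hu')
      simpa using h1

theorem centSurj_dcyc_prime [Finite F] {P : F[X]} (hP : Irreducible P) (hPm : P.Monic) {L : List F[X]}
    (hm : ∀ h ∈ L, h.Monic) (h : P ∈ L) : CentSurj (dcyc L) := by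
  classical
  haveI := hPm.finite_adjoinRoot
  haveI := finite_dcyc (L := L.erase P) fun p hp => hm p (List.mem_of_mem_erase hp)
  have h1 : CentSurj (Cyc P) := by
    have := centSurj_primePow hP hPm one_pos (Nat.coprime_one_left _)
    rwa [pow_one] at this
  exact (h1.prod_left (dcyc (L.erase P))).sim ((dcyc_perm (List.perm_cons_erase h)).trans (dcyc_cons _ _))

end Cfsg.Agent.SLComm
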