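import Cfsg.Agent.Lib.SLComm.Gad

/-!
# Factorisations of cyclic endomorphisms

`Fac h f g` : `Cyc h ∼ X Y` with `X ∼ Cyc f` and `Y⁻¹ ∼ Cyc g`. The designs `fac_two` (two Jordan groups),
`fac_corner` (an irreducible quadratic and two Jordan groups) and `fac_one` (one Jordan group), and the
symmetry `Fac.swap`.
-/

set_option autoImplicit false
set_option linter.style.haveILetI false
set_option linter.unusedVariables false

namespace Cfsg.Agent.SLComm

open Polynomial Module Matrix

variable {F : Type*} [Field F]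

/-- Factorisation of the model of `h`. -/
def Fac (h f g : F[X]) : Prop :=
  ∃ (n : ℕ) (X : Module.End F (Fin n → F)) (Y : (Module.End F (Fin n → F))ˣ),
    Sim X (Cyc f) ∧ Sim (Cyc h) (X * (Y : Module.End F (Fin n → F))) ∧
      Sim ((Y⁻¹ : (Module.End F (Fin n → F))ˣ) : Module.End F (Fin n → F)) (Cyc g)

theorem sim_mul_comm {V : Type*} [AddCommGroup V] [Module F V] (a b : (Module.End F V)ˣ) :
    Sim ((a : Module.End F V) * (b : Module.End F V)) ((b : Module.End F V) * (a : Module.End F V)) := by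
  refine ⟨(LinearMap.GeneralLinearGroup.generalLinearEquiv F V) b, fun v => ?_⟩
  rfl

theorem invPoly_invPoly {f : F[X]} (hm : f.Monic) (h0 : f.coeff 0 ≠ 0) : invPoly (invPoly f) = f := by
  have hr : (C (f.coeff 0)⁻¹ * f.reverse).reverse = C (f.coeff 0)⁻¹ * f.reverse.reverse := by
    rw [reverse_mul_of_domain, reverse_C]
  have h2 : f.reverse.reverse = f := by
    ext i
    rw [coeff_reverse, coeff_reverse, natDegree_reverse_of_coeff_zero h0, revAt_invol]
  show C ((invPoly f).coeff 0)⁻¹ * (C (f.coeff 0)⁻¹ * f.reverse).reverse = f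
  rw [invPoly_coeff_zero hm, hr, h2, inv_inv, ← mul_assoc, ← map_mul, mul_inv_cancel₀ h0, map_one, one_mul]

theorem Fac.swap {h f g : F[X]} (hh : Fac h f g) (fm : f.Monic) (f0 : f.coeff 0 ≠ 0) (gm : g.Monic)
    (g0 : g.coeff 0 ≠ 0) : Fac h (invPoly g) (invPoly f) := by
  obtain ⟨n, A, Y, hA, hh, hY⟩ := hh
  obtain ⟨a, ha⟩ := exists_unit (φ := A) (by
    rw [hA.det_eq, det_Cyc fm]; exact mul_ne_zero (pow_ne_zero _ (neg_ne_zero.2 one_ne_zero)) f0)
  subst ha
  refine ⟨n, (Y : Module.End F (Fin n → F)), a, ?_, hh.trans (sim_mul_comm a Y), sim_inv a fm f0 hA⟩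
  have h1 := sim_inv Y⁻¹ gm g0 hY
  rwa [inv_inv] at h1

/-! ### Cyclicity of block triangular matrices -/

variable {n : ℕ}

/-- Vectors supported below `s`. -/
def low (F : Type*) [Field F] (n s : ℕ) : Submodule F (Fin n → F) where
  carrier := {w | ∀ i : Fin n, s ≤ i.val → w i = 0}
  add_mem' ha hb i hi := by simp [ha i hi, hb i hi]
  zero_mem' _ _ := rfl
  smul_mem' r w hw i hi := by simp [hw i hi]

theorem low_mono {s t : ℕ} (h : s ≤ t) : low F n s ≤ low F n t := fun w hw i hi => hw i (h.trans hi)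

theorem low_top {s : ℕ} (h : n ≤ s) : low F n s = ⊤ :=
  eq_top_iff.2 fun w _ i hi => absurd i.isLt (by omega)

/-- The first `s` coordinates form a cyclic subspace with polynomial `G`. -/
def Fil (M : Matrix (Fin n) (Fin n) F) (G : F[X]) (s : ℕ) : Prop :=
  G.Monic ∧ G.natDegree = s ∧ ∃ v, cspan (Matrix.toLin' M) v = low F n s ∧ aeval (Matrix.toLin' M) G v = 0

theorem fil_zero (M : Matrix (Fin n) (Fin n) F) : Fil M 1 0 := by
  refine ⟨monic_one, natDegree_one, 0, ?_, map_zero _⟩
  refine le_antisymm ?_ ?_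
  · rintro w ⟨G, rfl⟩
    show aeval (Matrix.toLin' M) G 0 ∈ _
    rw [map_zero]; exact Submodule.zero_mem _
  · intro w hw
    rw [show w = 0 from funext fun i => hw i (Nat.zero_le _)]
    exact Submodule.zero_mem _

theorem fil_two {M : Matrix (Fin (n + 2)) (Fin (n + 2)) F} (hup : ∀ i j : Fin (n + 2), j < i → 2 ≤ i.val → M i j = 0)
    (h00 : M 0 0 = 0) (h10 : M 1 0 = 1) :
    Fil M (X ^ 2 - C (M 1 1) * X - C (M 0 1)) 2 := by
  have hlt : ∀ i : Fin (n + 2), 2 ≤ i.val → (0 : Fin (n + 2)) < i ∧ (1 : Fin (n + 2)) < i := fun i hi =>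
    ⟨Fin.lt_def.2 (by rw [Fin.val_zero]; omega), Fin.lt_def.2 (by rw [Fin.val_one]; omega)⟩
  have e0 : Matrix.toLin' M (Pi.single 0 1) = Pi.single 1 1 := by
    rw [Matrix.toLin'_apply, Matrix.mulVec_single_one]
    ext i
    rw [Matrix.col_apply]
    by_cases hi : 2 ≤ i.val
    · rw [hup i 0 (hlt i hi).1 hi, Pi.single_apply, if_neg]
      intro e; simp [e] at hi
    · rcases Fin.eq_zero_or_eq_succ i with rfl | ⟨k, rfl⟩
      · simp [h00]
      · obtain rfl : k = 0 := Fin.ext (by simp at hi ⊢; omega)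
        simp [h10]
  have e1 : Matrix.toLin' M (Pi.single 1 1) = M 0 1 • Pi.single 0 1 + M 1 1 • Pi.single 1 1 := by
    rw [Matrix.toLin'_apply, Matrix.mulVec_single_one]
    ext i
    rw [Matrix.col_apply]
    by_cases hi : 2 ≤ i.val
    · rw [hup i 1 (hlt i hi).2 hi]
      have h1 : i ≠ 0 := by intro e; simp [e] at hi
      have h2 : i ≠ 1 := by intro e; simp [e] at hi
      simp [Pi.single_apply, h1, h2]
    · rcases Fin.eq_zero_or_eq_succ i with rfl | ⟨k, rfl⟩
      · simp
      · obtain rfl : k = 0 := Fin.ext (by simp at hi ⊢; omega)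
        simp
  have hdeg : (X ^ 2 - C (M 1 1) * X - C (M 0 1) : F[X]).natDegree = 2 := by compute_degree!
  refine ⟨?_, hdeg, Pi.single 0 1, le_antisymm (cspan_le ?_ ?_) ?_, ?_⟩
  · rw [Monic, leadingCoeff, hdeg]; simp [coeff_X, coeff_C]
  · intro w hw i hi
    show (M *ᵥ w) i = 0
    rw [Matrix.mulVec, dotProduct]
    refine Finset.sum_eq_zero fun j _ => ?_
    by_cases hj : 2 ≤ j.val
    · show M i j * w j = 0
      rw [hw j hj, mul_zero]
    · show M i j * w j = 0
      rw [hup i j (Fin.lt_def.2 (by omega)) hi, zero_mul]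
  · intro i hi
    rw [Pi.single_apply, if_neg]
    intro e; simp [e] at hi
  · intro w hw
    refine mem_cspan.2 ⟨C (w 0) + C (w 1) * X, ?_⟩
    simp only [map_add, map_mul, aeval_C, aeval_X, LinearMap.add_apply, Module.End.mul_apply,
      Module.algebraMap_end_apply, e0]
    ext i
    by_cases hi : 2 ≤ i.val
    · have h1 : i ≠ 0 := by intro e; simp [e] at hi
      have h2 : i ≠ 1 := by intro e; simp [e] at hi
      simp [Pi.single_apply, h1, h2, hw i hi]
    · rcases Fin.eq_zero_or_eq_succ i with rfl | ⟨k, rfl⟩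
      · simp
      · obtain rfl : k = 0 := Fin.ext (by simp at hi ⊢; omega)
        simp
  · simp only [map_sub, map_mul, map_pow, aeval_C, aeval_X, LinearMap.sub_apply, Module.End.mul_apply, pow_two,
      Module.algebraMap_end_apply, e0, e1]
    abel

/-- Adjoining a Jordan group with a coprime eigenvalue. -/
theorem Fil.group {M : Matrix (Fin n) (Fin n) F} {G : F[X]} {s t : ℕ} {c : F} (hfil : Fil M G s) (hst : s ≤ t)
    (htn : t ≤ n) (hup : ∀ i j : Fin n, j < i → s ≤ i.val → M i j = 0)
    (hdiag : ∀ i : Fin n, s ≤ i.val → i.val < t → M i i = c)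
    (hsuper : ∀ i j : Fin n, s ≤ i.val → j.val = i.val + 1 → j.val < t → M i j ≠ 0)
    (hc : s = t ∨ G.eval c ≠ 0) : Fil M (G * (X - C c) ^ (t - s)) t := by
  obtain ⟨hGm, hGd, v, hv, hGv⟩ := hfil
  rcases Nat.eq_or_lt_of_le hst with rfl | hlt
  · rw [Nat.sub_self, pow_zero, mul_one]; exact ⟨hGm, hGd, v, hv, hGv⟩
  set φ := Matrix.toLin' M with hφ
  set Q : F[X] := (X - C c) ^ (t - s)
  have hQm : Q.Monic := (monic_X_sub_C c).pow _
  have hcop : IsCoprime G Q := by
    refine IsCoprime.pow_right ?_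
    rw [isCoprime_comm, (irreducible_X_sub_C c).coprime_iff_not_dvd, dvd_iff_isRoot]
    exact hc.resolve_left (by omega)
  refine ⟨hGm.mul hQm, ?_, ?_⟩
  · rw [hGm.natDegree_mul hQm, hGd, (monic_X_sub_C c).natDegree_pow, natDegree_X_sub_C]; omega
  have inv_low : ∀ r, s ≤ r → ∀ w ∈ low F n r, φ w ∈ low F n r := by
    intro r hr w hw i hi
    show (M *ᵥ w) i = 0
    rw [Matrix.mulVec, dotProduct]
    refine Finset.sum_eq_zero fun j _ => ?_
    show M i j * w j = 0
    by_cases hj : r ≤ j.val
    · rw [hw j hj, mul_zero]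
    · rw [hup i j (Fin.lt_def.2 (by omega)) (by omega), zero_mul]
  have hD : ∀ (i : Fin n) (w : Fin n → F), s ≤ i.val → i.val < t → w ∈ low F n (i.val + 1) →
      (φ - c • 1) w ∈ low F n i.val ∧
      ∀ k : Fin n, k.val + 1 = i.val → s ≤ k.val → ((φ - c • 1) w) k = M k i * w i := by
    intro i w hi hit hw
    have hval : ∀ k : Fin n, s ≤ k.val → ((φ - c • 1) w) k =
        ∑ j ∈ Finset.univ.erase k, M k j * w j + (M k k - c) * w k := by
      intro k hk
      show (M *ᵥ w) k - c * w k = _
      rw [Matrix.mulVec, dotProduct, ← Finset.sum_erase_add _ _ (Finset.mem_univ k)]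
      ring
    constructor
    · intro k hk
      rw [hval k (by omega), Finset.sum_eq_zero, zero_add]
      · rcases Nat.eq_or_lt_of_le hk with e | e
        · rw [hdiag k (by omega) (by omega), sub_self, zero_mul]
        · rw [hw k (by omega), mul_zero]
      · intro j hj
        rcases lt_or_gt_of_ne (Finset.ne_of_mem_erase hj) with h | h
        · rw [hup k j h (by omega), zero_mul]
        · rw [hw j (by have : k.val < j.val := h; omega), mul_zero]
    · intro k hk hks
      rw [hval k hks, hdiag k hks (by omega), sub_self, zero_mul, add_zero,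
        Finset.sum_eq_single i]
      · intro j hj hne
        rcases lt_or_gt_of_ne (Finset.ne_of_mem_erase hj) with h | h
        · rw [hup k j h hks, zero_mul]
        · rw [hw j (by
            have h1 : k.val < j.val := h
            have h2 : j.val ≠ i.val := fun e => hne (Fin.ext e)
            omega), mul_zero]
      · intro h
        exact absurd (Finset.mem_erase.2 ⟨fun e => by rw [e] at hk; omega, Finset.mem_univ i⟩) h
  set u : Fin n → F := Pi.single ⟨t - 1, by omega⟩ 1 with hu
  have hDr : ∀ r, r ≤ t - s → ((φ - c • 1) ^ r) u ∈ low F n (t - r) ∧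
      (r < t - s → ∀ k : Fin n, k.val + 1 + r = t → ((φ - c • 1) ^ r) u k ≠ 0) := by
    intro r
    induction r with
    | zero =>
      intro _
      refine ⟨fun i hi => ?_, fun _ k hk => ?_⟩
      · rw [pow_zero, Module.End.one_apply, hu, Pi.single_apply, if_neg]
        intro e; have := congrArg Fin.val e; simp at this; omega
      · rw [pow_zero, Module.End.one_apply, hu, show k = ⟨t - 1, by omega⟩ from Fin.ext (by simp; omega),
          Pi.single_eq_same]
        exact one_ne_zero
    | succ r ih =>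
      intro hr
      obtain ⟨h1, h2⟩ := ih (by omega)
      set i : Fin n := ⟨t - r - 1, by omega⟩
      have hh := hD i (((φ - c • 1) ^ r) u) (by simp [i]; omega) (by simp [i]; omega)
        (by rwa [show i.val + 1 = t - r by simp [i]; omega])
      rw [pow_succ', Module.End.mul_apply]
      refine ⟨?_, fun hr' k hk => ?_⟩
      · rw [show t - (r + 1) = i.val by simp [i]; omega]; exact hh.1
      · rw [hh.2 k (by simp [i]; omega) (by omega)]
        exact mul_ne_zero (hsuper k i (by omega) (by simp [i]; omega) (by simp [i]; omega))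
          (h2 (by omega) i (by simp [i]; omega))
  have hQu : aeval φ Q u ∈ low F n s := by
    have h1 := (hDr (t - s) le_rfl).1
    rw [show t - (t - s) = s by omega] at h1
    simpa [Q, Algebra.algebraMap_eq_smul_one] using h1
  have hcover : low F n t ≤ cspan φ u ⊔ low F n s := by
    suffices ∀ r, r ≤ t - s → low F n (s + r) ≤ cspan φ u ⊔ low F n s by
      have := this (t - s) le_rfl
      rwa [show s + (t - s) = t by omega] at this
    intro r
    induction r with
    | zero => intro _; exact le_sup_right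
    | succ r ih =>
      intro hr w hw
      set k : Fin n := ⟨s + r, by omega⟩
      obtain ⟨h1, h2⟩ := hDr (t - s - 1 - r) (by omega)
      set z := ((φ - c • 1) ^ (t - s - 1 - r)) u
      have hz : z k ≠ 0 := h2 (by omega) k (by simp [k]; omega)
      have hzc : z ∈ cspan φ u :=
        mem_cspan.2 ⟨(X - C c) ^ (t - s - 1 - r), by simp [z, Algebra.algebraMap_eq_smul_one]⟩
      have h3 : w - (w k / z k) • z ∈ low F n (s + r) := by
        intro i hi
        rcases Nat.eq_or_lt_of_le hi with e | e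
        · rw [show i = k from Fin.ext e.symm]
          simp [hz]
        · have h4 : w i = 0 := hw i (by omega)
          have h5 : z i = 0 := h1 i (by omega)
          simp [h4, h5]
      have h6 : w = (w k / z k) • z + (w - (w k / z k) • z) := by abel
      rw [h6]
      exact Submodule.add_mem _ (Submodule.smul_mem _ _ (Submodule.mem_sup_left hzc)) (ih (by omega) h3)
  obtain ⟨a, b, hab⟩ := hcop
  set u' := aeval φ (a * G) u with hu'
  refine ⟨v + u', le_antisymm (cspan_le (inv_low t hst) ?_) ?_, ?_⟩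
  · refine Submodule.add_mem _ (low_mono hst (hv ▸ self_mem_cspan φ v))
      (aeval_mem (inv_low t hst) _ _ fun i hi => ?_)
    rw [hu, Pi.single_apply, if_neg]
    intro e; have := congrArg Fin.val e; simp at this; omega
  · set S := cspan φ (v + u')
    have hHG : ∀ w ∈ low F n s, aeval φ (a * G) w = 0 := by
      intro w hw
      obtain ⟨H, rfl⟩ := mem_cspan.1 (hv ▸ hw : w ∈ cspan φ v)
      rw [← Module.End.mul_apply, ← map_mul, show a * G * H = a * H * G by ring, map_mul,
        Module.End.mul_apply, hGv, map_zero]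
    have hQu' : aeval φ Q u' = 0 := by
      rw [hu', ← Module.End.mul_apply, ← map_mul, mul_comm Q, map_mul, Module.End.mul_apply, hHG _ hQu]
    have hvS : v ∈ S := by
      refine mem_cspan.2 ⟨b * Q, ?_⟩
      rw [map_add, map_mul, Module.End.mul_apply, Module.End.mul_apply, hQu', map_zero, add_zero,
        ← Module.End.mul_apply, ← map_mul, show b * Q = 1 - a * G by linear_combination hab, map_sub,
        map_one, LinearMap.sub_apply, hHG v (hv ▸ self_mem_cspan φ v), sub_zero, Module.End.one_apply]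
    have hlowS : low F n s ≤ S := hv ▸ cspan_le map_mem_cspan hvS
    have huS : u ∈ S := by
      have hu'S : u' ∈ S := by simpa using S.sub_mem (self_mem_cspan φ (v + u')) hvS
      have h1 : u = u' + aeval φ (b * Q) u := by
        rw [hu', ← LinearMap.add_apply, ← map_add, hab, map_one, Module.End.one_apply]
      rw [h1]
      refine S.add_mem hu'S ?_
      rw [map_mul, Module.End.mul_apply]
      exact aeval_mem map_mem_cspan _ _ (hlowS hQu)
    exact hcover.trans (sup_le (cspan_le map_mem_cspan huS) hlowS)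
  · have h1 : aeval φ (a * G) (aeval φ Q u) = 0 := by
      obtain ⟨H, hH⟩ := mem_cspan.1 (hv ▸ hQu : aeval φ Q u ∈ cspan φ v)
      rw [← hH, ← Module.End.mul_apply, ← map_mul, show a * G * H = a * H * G by ring, map_mul,
        Module.End.mul_apply, hGv, map_zero]
    show aeval φ (G * Q) (v + u') = 0
    rw [map_add, show aeval φ (G * Q) v = 0 by rw [mul_comm, map_mul, Module.End.mul_apply, hGv, map_zero],
      zero_add, hu', ← Module.End.mul_apply, ← map_mul, show G * Q * (a * G) = G * ((a * G) * Q) by ring,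
      map_mul, Module.End.mul_apply, map_mul, Module.End.mul_apply, h1, map_zero]

theorem Fil.sim {M : Matrix (Fin n) (Fin n) F} {G : F[X]} (h : Fil M G n) :
    Sim (Matrix.toLin' M) (Cyc G) := by
  obtain ⟨hm, hd, v, hv, h0⟩ := h
  exact sim_cyc hm (by simp [hd]) (by rw [hv, low_top le_rfl]) h0

/-! ### The designs -/

/-- Diagonal `d`, superdiagonal `s`, and the entry `w` at `(1, 0)`. -/
def tM {m : ℕ} (w : F) (d s : ℕ → F) : Matrix (Fin m) (Fin m) F :=
  Matrix.of fun i j => if i = j then d i else if j.val = i.val + 1 then s i else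
    if i.val = 1 ∧ j.val = 0 then w else 0

theorem extM_castSucc {m : ℕ} (T : Matrix (Fin m) (Fin m) F) (y : Fin m → F) (e : F) (i j : Fin m) :
    extM T y e i.castSucc j.castSucc = T i j := by simp [extM]

theorem extM_col {m : ℕ} (T : Matrix (Fin m) (Fin m) F) (y : Fin m → F) (e : F) (i : Fin m) :
    extM T y e i.castSucc (Fin.last m) = y i := by simp [extM]

theorem extM_last {m : ℕ} (T : Matrix (Fin m) (Fin m) F) (y : Fin m → F) (e : F) :
    extM T y e (Fin.last m) (Fin.last m) = e := by simp [extM]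

theorem extM_below {m : ℕ} (T : Matrix (Fin m) (Fin m) F) (y : Fin m → F) (e : F) (j : Fin m) :
    extM T y e (Fin.last m) j.castSucc = 0 := by simp [extM]

/-- From a `core` solution and the shape of the triangular factor to a factorisation. -/
theorem fac_of_fil {m : ℕ} {f h G : F[X]} {T : Matrix (Fin m) (Fin m) F} {e : F} {y : Fin m → F}
    (fm : f.Monic) (fd : f.natDegree = m + 1) (hs : Sim (Matrix.toLin' (cm f * extM T y e)) (Cyc h))
    (hfil : Fil (extM T y e) G (m + 1)) (G0 : G.coeff 0 ≠ 0) : Fac h f (invPoly G) := by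
  have hY := hfil.sim
  obtain ⟨u, hu⟩ := exists_unit (φ := Matrix.toLin' (extM T y e)) (by
    rw [hY.det_eq, det_Cyc hfil.1]; exact mul_ne_zero (pow_ne_zero _ (neg_ne_zero.2 one_ne_zero)) G0)
  refine ⟨m + 1, Matrix.toLin' (cm f), u, sim_cm fm fd, ?_, sim_inv u hfil.1 G0 (hu ▸ hY)⟩
  rw [hu, Module.End.mul_eq_comp, ← Matrix.toLin'_mul]
  exact hs.symm

theorem coeff_zero_linear_pow (c : F) (k : ℕ) : ((X - C c) ^ k).coeff 0 = (-c) ^ k := by
  rw [coeff_zero_eq_eval_zero]; simp

theorem det_tM_tri {m : ℕ} (d s : ℕ → F) : (tM (m := m) 0 d s).det = ∏ i : Fin m, d i := by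
  rw [Matrix.det_of_upperTriangular]
  · exact Finset.prod_congr rfl fun i _ => by simp [tM]
  · intro i j hij
    have h : j.val < i.val := hij
    show tM 0 d s i j = 0
    simp only [tM, Matrix.of_apply]
    rw [if_neg (Fin.ne_of_gt (show j < i from Fin.lt_def.2 h)), if_neg (by omega), ite_self]

theorem obs_tM_tri {m : ℕ} {d s : ℕ → F} (c : F) (hd : ∀ i : Fin m, d i ≠ 0) : Obs (tM (m := m) 0 d s) c := by
  refine obs_tri c (fun i j hij => ?_) fun i => by simp [tM, hd i]
  have h : j.val < i.val := hij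
  simp only [tM, Matrix.of_apply]
  rw [if_neg (Fin.ne_of_gt (show j < i from Fin.lt_def.2 h)), if_neg (by omega), ite_self]

theorem extM_upper {m : ℕ} (w : F) (d s : ℕ → F) (y : Fin m → F) (e : F) (r : ℕ) (hr : w = 0 ∨ 2 ≤ r) :
    ∀ i j : Fin (m + 1), j < i → r ≤ i.val → extM (tM w d s) y e i j = 0 := by
  intro i j hji hi
  induction j using Fin.lastCases with
  | last => exact absurd hji (not_lt.2 (Fin.le_last i))
  | cast j =>
    induction i using Fin.lastCases with
    | last => exact extM_below _ _ _ _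
    | cast i =>
      have h : j.val < i.val := hji
      rw [extM_castSucc]
      simp only [tM, Matrix.of_apply]
      rw [if_neg fun e => by rw [e] at h; omega, if_neg (by omega)]
      split_ifs with h1
      · rcases hr with h2 | h2
        · exact h2
        · simp at hi; omega
      · rfl

theorem extM_diag {m : ℕ} (w : F) (d s : ℕ → F) (y : Fin m → F) (e : F) (hm : d m = e) (i : Fin (m + 1)) :
    extM (tM w d s) y e i i = d i.val := by
  induction i using Fin.lastCases with
  | last => rw [extM_last, Fin.val_last, hm]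
  | cast i => rw [extM_castSucc]; simp [tM]

theorem extM_super {m : ℕ} (w : F) (d s : ℕ → F) (y : Fin m → F) (e : F) (i j : Fin (m + 1))
    (hij : j.val = i.val + 1) :
    (∃ hi : i.val + 1 = m, extM (tM w d s) y e i j = y ⟨i.val, by omega⟩) ∨
      (j.val < m ∧ extM (tM w d s) y e i j = s i.val) := by
  obtain ⟨i, rfl⟩ : ∃ i' : Fin m, i'.castSucc = i :=
    Fin.exists_castSucc_eq.2 fun e => by have := j.isLt; simp [e] at hij; omega
  induction j using Fin.lastCases with
  | last => exact Or.inl ⟨by simp at hij; simp; omega, by rw [extM_col]; rfl⟩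
  | cast j =>
    refine Or.inr ⟨j.isLt, ?_⟩
    rw [extM_castSucc]
    simp only [Fin.val_castSucc] at hij
    simp only [tM, Matrix.of_apply, Fin.val_castSucc]
    rw [if_neg fun e => by rw [e] at hij; omega, if_pos hij]

/-- Two Jordan groups `c^a`, `c'^(b+1)`. -/
theorem fac_two {a b : ℕ} {c c' : F} (hc : a = 0 ∨ (c ≠ 0 ∧ c ≠ c')) (hab : a = 0 → b = 0) (hc' : c' ≠ 0)
    {f h : F[X]} (fm : f.Monic) (fd : f.natDegree = a + b + 1) (hm : h.Monic) (hd : h.natDegree = a + b + 1)
    (hh : h.coeff 0 = f.coeff 0 * (c ^ a * c' ^ (b + 1))) :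
    Fac h f (invPoly ((X - C c) ^ a * (X - C c') ^ (b + 1))) := by
  set d : ℕ → F := fun i => if i < a then c else c' with hd'
  have hd0 : ∀ i : Fin (a + b), d i ≠ 0 := fun i => by
    simp only [d]; split_ifs with h1
    · exact (hc.resolve_left (by omega)).1
    · exact hc'
  have hprod : ∏ i : Fin (a + b), d i = c ^ a * c' ^ b := by
    rw [Fin.prod_univ_add]
    simp [d]
  have solve : ∀ s : ℕ → F, ∃ y, Sim (Matrix.toLin' (cm f * extM (tM (m := a + b) 0 d s) y c')) (Cyc h) :=
    fun s => core (obs_tM_tri _ hd0) (by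
      rw [det_tM_tri, hprod]
      exact mul_ne_zero (by rcases Nat.eq_zero_or_pos a with h1 | h1
                            · simp [h1]
                            · exact pow_ne_zero _ (hc.resolve_left (by omega)).1) (pow_ne_zero _ hc'))
      hm hd (by rw [det_tM_tri, hprod, hh]; ring)
  suffices ∃ s y, Sim (Matrix.toLin' (cm f * extM (tM (m := a + b) 0 d s) y c')) (Cyc h) ∧
      (∀ i, i + 1 < a → s i ≠ 0) ∧ (∀ i, a ≤ i → s i ≠ 0) ∧
      (0 < b → ∀ k : Fin (a + b), k.val + 1 = a + b → y k ≠ 0) by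
    obtain ⟨s, y, hs, hsa, hsb, hy⟩ := this
    refine fac_of_fil fm fd hs ?_ ?_
    · have hdm : d (a + b) = c' := by simp [d]
      have h1 : Fil (extM (tM 0 d s) y c') (1 * (X - C c) ^ (a - 0)) a := by
        refine (fil_zero _).group (Nat.zero_le _) (by omega) (extM_upper _ _ _ _ _ 0 (Or.inl rfl))
          (fun i _ hi => ?_) (fun i j _ hij hj => ?_) ?_
        · rw [extM_diag _ _ _ _ _ hdm]; simp [d, hi]
        · rcases extM_super 0 d s y c' i j hij with ⟨h', -⟩ | ⟨-, e⟩
          · omega
          · rw [e]; exact hsa _ (by omega)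
        · rcases Nat.eq_zero_or_pos a with h1 | h1
          · exact Or.inl h1.symm
          · exact Or.inr (by simp)
      rw [one_mul, Nat.sub_zero] at h1
      have h2 := h1.group (c := c') (t := a + b + 1) (by omega) le_rfl
        (extM_upper _ _ _ _ _ a (Or.inl rfl)) (fun i hi _ => by
          rw [extM_diag _ _ _ _ _ hdm]; simp [d]; omega)
        (fun i j hi hij hj => by
          rcases extM_super 0 d s y c' i j hij with ⟨h', e⟩ | ⟨-, e⟩
          · rw [e]
            exact hy (by omega) ⟨i.val, by omega⟩ h'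
          · rw [e]; exact hsb _ hi)
        (Or.inr (by
          rcases Nat.eq_zero_or_pos a with h1 | h1
          · simp [h1]
          · simp [sub_ne_zero.2 (Ne.symm (hc.resolve_left (by omega)).2)]))
      rwa [show a + b + 1 - a = b + 1 by omega] at h2
    · rw [mul_coeff_zero, coeff_zero_linear_pow, coeff_zero_linear_pow]
      refine mul_ne_zero ?_ (pow_ne_zero _ (neg_ne_zero.2 hc'))
      rcases Nat.eq_zero_or_pos a with h1 | h1
      · simp [h1]
      · exact pow_ne_zero _ (neg_ne_zero.2 (hc.resolve_left (by omega)).1)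
  rcases Nat.eq_zero_or_pos b with hb | hb
  · obtain ⟨y, hy⟩ := solve fun _ => 1
    exact ⟨fun _ => 1, y, hy, fun _ _ => one_ne_zero, fun _ _ => one_ne_zero, fun h' => absurd h' (by omega)⟩
  obtain ⟨a', rfl⟩ : ∃ a', a = a' + 1 := ⟨a - 1, by have := hab; omega⟩
  obtain ⟨b', rfl⟩ : ∃ b', b = b' + 1 := ⟨b - 1, by omega⟩
  -- the coupling between the groups adjusts the last entry
  let L : Fin (a' + 1 + b') := ⟨a', by omega⟩
  set σ : F := ∑ i ∈ Finset.univ.erase L, (1 : F)
  set v : F := -h.coeff (a' + 1 + b' + 1) + f.coeff (a' + 1 + b' + 1) * c' - σ - 1 with hv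
  set s : ℕ → F := fun i => if i = a' then v else 1 with hs
  obtain ⟨y, hy⟩ := solve s
  refine ⟨s, y, hy, fun i hi => by simp [hs, show i ≠ a' by omega],
    fun i hi => by simp [hs, show i ≠ a' by omega], fun _ k hk => ?_⟩
  have h1 := core_trace (m := a' + 1 + b') hm hd hy
  rw [show k = (Fin.last (a' + 1 + b') : Fin (a' + 1 + (b' + 1))) from Fin.ext (by simp; omega), h1,
    ← Finset.sum_erase_add _ _ (Finset.mem_univ L)]
  have h2 : ∀ i : Fin (a' + 1 + b'), tM (m := a' + 1 + b' + 1) 0 d s i.castSucc i.succ = s i.val := fun i => by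
    simp [tM, (Fin.castSucc_lt_succ (i := i)).ne]
  rw [h2 L, Finset.sum_congr rfl fun i hi => (h2 i).trans (show s i.val = 1 by
    have : i.val ≠ a' := fun e => Finset.ne_of_mem_erase hi (Fin.ext e)
    simp [hs, this])]
  simp only [hs, L, if_true, hv, σ]
  ring_nf
  exact one_ne_zero

/-- A single Jordan group. -/
theorem fac_one {k : ℕ} {c : F} (hc : c ≠ 0) {f h : F[X]} (fm : f.Monic) (fd : f.natDegree = k + 2) (hm : h.Monic)
    (hd : h.natDegree = k + 2) (hh : h.coeff 0 = f.coeff 0 * c ^ (k + 2))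
    (hlev : (k = 0 ∧ f.coeff 1 * c ≠ h.coeff 1) ∨ (0 < k ∧ ∃ t : F, t ≠ 0 ∧ t ≠ 1)) :
    Fac h f (invPoly ((X - C c) ^ (k + 2))) := by
  have solve : ∀ s : ℕ → F, ∃ y, Sim (Matrix.toLin' (cm f * extM (tM (m := k + 1) 0 (fun _ => c) s) y c))
      (Cyc h) := fun s => core (obs_tM_tri _ fun _ => hc) (by
      rw [det_tM_tri]; simp [hc]) hm hd (by rw [det_tM_tri, hh]; simp; ring)
  suffices ∃ s y, Sim (Matrix.toLin' (cm f * extM (tM (m := k + 1) 0 (fun _ => c) s) y c)) (Cyc h) ∧
      (∀ i, s i ≠ 0) ∧ y (Fin.last k) ≠ 0 by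
    obtain ⟨s, y, hs, hsa, hy⟩ := this
    refine fac_of_fil fm fd hs ?_ (by rw [coeff_zero_linear_pow]; exact pow_ne_zero _ (neg_ne_zero.2 hc))
    have h1 : Fil (extM (tM 0 (fun _ => c) s) y c) (1 * (X - C c) ^ (k + 2 - 0)) (k + 2) := by
      refine (fil_zero _).group (Nat.zero_le _) le_rfl (extM_upper _ _ _ _ _ 0 (Or.inl rfl))
        (fun i _ _ => extM_diag _ _ _ _ _ rfl i) (fun i j _ hij hj => ?_) (Or.inr (by simp))
      rcases extM_super 0 (fun _ => c) s y c i j hij with ⟨h', e⟩ | ⟨-, e⟩
      · rw [e, show (⟨i.val, by omega⟩ : Fin (k + 1)) = Fin.last k from Fin.ext (by simp; omega)]; exact hy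
      · rw [e]; exact hsa _
    simpa using h1
  have tr : ∀ s : ℕ → F, ∀ y, Sim (Matrix.toLin' (cm f * extM (tM (m := k + 1) 0 (fun _ => c) s) y c)) (Cyc h) →
      y (Fin.last k) = -h.coeff (k + 1) + f.coeff (k + 1) * c - ∑ i : Fin k, s i := by
    intro s y hy
    rw [core_trace hm hd hy]
    congr 1
    refine Finset.sum_congr rfl fun i _ => ?_
    simp [tM, (Fin.castSucc_lt_succ (i := i)).ne]
  rcases hlev with ⟨rfl, hne⟩ | ⟨hk, t, ht0, ht1⟩
  · obtain ⟨y, hy⟩ := solve fun _ => 1
    refine ⟨fun _ => 1, y, hy, fun _ => one_ne_zero, ?_⟩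
    rw [tr _ y hy]
    simp only [zero_add, Finset.univ_eq_empty, Finset.sum_empty, sub_zero]
    intro e; exact hne (by linear_combination e)
  · obtain ⟨y₁, h₁⟩ := solve fun _ => 1
    by_cases hy1 : y₁ (Fin.last k) ≠ 0
    · exact ⟨_, y₁, h₁, fun _ => one_ne_zero, hy1⟩
    push Not at hy1
    obtain ⟨k', rfl⟩ : ∃ k', k = k' + 1 := ⟨k - 1, by omega⟩
    set s : ℕ → F := fun i => if i = 0 then t else 1 with hs
    obtain ⟨y₂, h₂⟩ := solve s
    refine ⟨s, y₂, h₂, fun i => by simp only [hs]; split_ifs <;> simp [ht0], fun hy2 => ht1 ?_⟩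
    rw [tr _ y₁ h₁, Fin.sum_univ_succ] at hy1
    rw [tr _ y₂ h₂, Fin.sum_univ_succ] at hy2
    simp [hs] at hy1 hy2
    linear_combination hy1 - hy2

/-- An irreducible quadratic `X² - τ X + N` and Jordan groups `c^a`, `c'^(b+1)`. -/
theorem fac_corner {a b : ℕ} {τ N c c' : F} (hτ : τ ≠ 0) (hN : N ≠ 0)
    (hp : ∀ x : F, x ^ 2 - τ * x + N ≠ 0) (hc : a = 0 ∨ (c ≠ 0 ∧ c ≠ c')) (hc' : c' ≠ 0)
    {f h : F[X]} (fm : f.Monic) (fd : f.natDegree = a + b + 3) (hm : h.Monic) (hd : h.natDegree = a + b + 3)
    (hh : h.coeff 0 = f.coeff 0 * (N * c ^ a * c' ^ (b + 1))) :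
    Fac h f (invPoly ((X ^ 2 - C τ * X + C N) * (X - C c) ^ a * (X - C c') ^ (b + 1))) := by
  set d : ℕ → F := fun i => if i = 0 then 0 else if i = 1 then τ else if i < a + 2 then c else c' with hd'
  have dge : ∀ i, 2 ≤ i → d i = if i < a + 2 then c else c' := fun i hi => by
    simp [d, show i ≠ 0 by omega, show i ≠ 1 by omega]
  have hd0 : ∀ i, 2 ≤ i → i < a + b + 2 → d i ≠ 0 := fun i hi hi' => by
    rw [dge i hi]; split_ifs with h1
    · exact (hc.resolve_left (by omega)).1
    · exact hc'
  have hdet : ∀ s : ℕ → F, s 0 = -N → (tM (m := a + b + 2) 1 d s).det = N * c ^ a * c' ^ b := by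
    intro s hs0
    rw [Matrix.det_succ_column_zero, Finset.sum_eq_single (1 : Fin (a + b + 2))]
    · have hsub : ((tM (m := a + b + 2) 1 d s).submatrix ((1 : Fin (a + b + 2)).succAbove) Fin.succ).det =
          -N * ∏ i : Fin (a + b), d (i.val + 2) := by
        have h1 : ∀ i : Fin (a + b), (1 : Fin (a + b + 2)).succAbove i.succ = i.succ.succ := fun i => by
          rw [Fin.succAbove_of_le_castSucc _ _ (by simp [Fin.le_def])]
        have hz : (1 : Fin (a + b + 2)).succAbove 0 = 0 := by
          rw [Fin.succAbove_of_castSucc_lt _ _ (by simp)]; rfl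
        rw [Matrix.det_of_upperTriangular, Fin.prod_univ_succ]
        · refine congrArg₂ (· * ·) ?_ (Finset.prod_congr rfl fun i _ => ?_)
          · rw [Matrix.submatrix_apply, hz]
            simp [tM, hs0]
          · rw [Matrix.submatrix_apply, h1]
            simp [tM]
        · intro i j hij
          have h' : j.val < i.val := hij
          obtain ⟨i, rfl⟩ : ∃ i', i = Fin.succ i' :=
            (Fin.eq_zero_or_eq_succ i).resolve_left fun e => by rw [e] at h'; simp at h'
          rw [Matrix.submatrix_apply, h1]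
          simp only [tM, Matrix.of_apply, Fin.val_succ] at h' ⊢
          rw [if_neg fun e => by have := congrArg Fin.val e; simp at this; omega, if_neg (by omega),
            if_neg (by omega)]
      rw [hsub, Fin.prod_univ_add]
      have e1 : ∀ i : Fin a, d ((Fin.castAdd b i).val + 2) = c := fun i => by
        rw [dge _ (by omega), if_pos (by simp)]
      have e2 : ∀ i : Fin b, d ((Fin.natAdd a i).val + 2) = c' := fun i => by
        rw [dge _ (by omega), if_neg (by simp)]
      simp only [e1, e2, Finset.prod_const, Finset.card_univ, Fintype.card_fin]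
      simp [tM]
      ring
    · intro i _ hi
      rcases Fin.eq_zero_or_eq_succ i with rfl | ⟨k, rfl⟩
      · simp [tM, d]
      · have : k.val ≠ 0 := fun e => hi (Fin.ext (by simp [e]))
        simp [tM, this, Fin.succ_ne_zero]
    · simp
  have solve : ∀ s : ℕ → F, s 0 = -N →
      ∃ y, Sim (Matrix.toLin' (cm f * extM (tM (m := a + b + 2) 1 d s) y c')) (Cyc h) := by
    intro s hs0
    refine core ?_ ?_ hm hd (by rw [hdet s hs0, hh]; ring)
    · refine obs_corner _ (fun i j hij hi => ?_) (fun i hi => ?_) (by simp [tM, d]) (by simp [tM])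
        (by simp [tM, hs0, hN]) (by simp [tM, d, hτ])
      · have h' : j.val < i.val := hij
        simp only [tM, Matrix.of_apply]
        rw [if_neg (Fin.ne_of_gt hij), if_neg (by omega), if_neg (by omega)]
      · simp only [tM, Matrix.of_apply, if_pos]
        exact hd0 _ hi i.isLt
    · rw [hdet s hs0]
      refine mul_ne_zero (mul_ne_zero hN ?_) (pow_ne_zero _ hc')
      rcases Nat.eq_zero_or_pos a with h1 | h1
      · simp [h1]
      · exact pow_ne_zero _ (hc.resolve_left (by omega)).1
  have hpc : ∀ x : F, (X ^ 2 - C τ * X + C N : F[X]).eval x ≠ 0 := fun x => by simpa using hp x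
  suffices ∃ s y, Sim (Matrix.toLin' (cm f * extM (tM (m := a + b + 2) 1 d s) y c')) (Cyc h) ∧ s 0 = -N ∧
      (∀ i, 2 ≤ i → i + 1 < a + 2 → s i ≠ 0) ∧ (∀ i, a + 2 ≤ i → s i ≠ 0) ∧
      (0 < b → ∀ k : Fin (a + b + 2), k.val + 1 = a + b + 2 → y k ≠ 0) by
    obtain ⟨s, y, hs, hs0, hsa, hsb, hy⟩ := this
    refine fac_of_fil fm fd hs ?_ ?_
    · have hdm : d (a + b + 2) = c' := by rw [dge _ (by omega), if_neg (by omega)]
      set M := extM (tM (m := a + b + 2) 1 d s) y c' with hM'
      have h0 : M 0 0 = 0 := by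
        rw [hM', extM_diag _ _ _ _ _ hdm]; simp [d]
      have h11 : M 1 1 = τ := by
        rw [hM', extM_diag _ _ _ _ _ hdm]; simp [d]
      have h10 : M 1 0 = 1 := by
        rw [hM', show (1 : Fin (a + b + 2 + 1)) = (1 : Fin (a + b + 2)).castSucc from rfl,
          show (0 : Fin (a + b + 2 + 1)) = (0 : Fin (a + b + 2)).castSucc from rfl, extM_castSucc]
        simp [tM]
      have h01 : M 0 1 = -N := by
        rcases extM_super 1 d s y c' (0 : Fin (a + b + 2 + 1)) 1 (by simp) with ⟨h', -⟩ | ⟨-, e⟩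
        · simp at h'
        · rw [hM', e]; simpa using hs0
      have h1 : Fil M (X ^ 2 - C τ * X + C N) 2 := by
        have h2 := fil_two (n := a + b + 1) (extM_upper 1 d s y c' 2 (Or.inr le_rfl)) h0 h10
        rw [← hM', h11, h01, map_neg, sub_neg_eq_add] at h2
        exact h2
      have h2 := h1.group (c := c) (t := a + 2) (by omega) (by omega) (extM_upper 1 d s y c' 2 (Or.inr le_rfl))
        (fun i hi hi' => by rw [hM', extM_diag _ _ _ _ _ hdm, dge _ hi, if_pos hi'])
        (fun i j hi hij hj => by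
          rcases extM_super 1 d s y c' i j hij with ⟨h', -⟩ | ⟨-, e⟩
          · omega
          · rw [hM', e]; exact hsa _ hi (by omega))
        (Or.inr (hpc c))
      rw [show a + 2 - 2 = a by omega] at h2
      have h3 := h2.group (c := c') (t := a + b + 3) (by omega) le_rfl
        (extM_upper 1 d s y c' (a + 2) (Or.inr (by omega)))
        (fun i hi _ => by rw [hM', extM_diag _ _ _ _ _ hdm, dge _ (by omega), if_neg (by omega)])
        (fun i j hi hij hj => by
          rcases extM_super 1 d s y c' i j hij with ⟨h', e⟩ | ⟨-, e⟩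
          · rw [hM', e]; exact hy (by omega) ⟨i.val, by omega⟩ h'
          · rw [hM', e]; exact hsb _ hi)
        (Or.inr (by
          rw [eval_mul, eval_pow]
          refine mul_ne_zero (hpc c') ?_
          rcases Nat.eq_zero_or_pos a with h1 | h1
          · simp [h1]
          · simp [sub_ne_zero.2 (Ne.symm (hc.resolve_left (by omega)).2)]))
      rwa [show a + b + 3 - (a + 2) = b + 1 by omega] at h3
    · rw [mul_coeff_zero, mul_coeff_zero, coeff_zero_linear_pow, coeff_zero_linear_pow]
      refine mul_ne_zero (mul_ne_zero (by simp [hN]) ?_) (pow_ne_zero _ (neg_ne_zero.2 hc'))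
      rcases Nat.eq_zero_or_pos a with h1 | h1
      · simp [h1]
      · exact pow_ne_zero _ (neg_ne_zero.2 (hc.resolve_left (by omega)).1)
  rcases Nat.eq_zero_or_pos b with hb | hb
  · set s : ℕ → F := fun i => if i = 0 then -N else 1 with hs
    obtain ⟨y, hy⟩ := solve s (by simp [hs])
    exact ⟨s, y, hy, by simp [hs], fun i hi _ => by simp [hs, show i ≠ 0 by omega],
      fun i hi => by simp [hs, show i ≠ 0 by omega], fun h' => absurd h' (by omega)⟩
  -- the entry at `(1, 2)` adjusts the last entry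
  let L : Fin (a + b + 1) := ⟨1, by omega⟩
  set s₀ : ℕ → F := fun i => if i = 0 then -N else 1 with hs₀
  set σ : F := ∑ i ∈ Finset.univ.erase L, s₀ i.val with hσ
  set v : F := -h.coeff (a + b + 1 + 1) + f.coeff (a + b + 1 + 1) * c' - σ - 1 with hv
  set s : ℕ → F := fun i => if i = 1 then v else s₀ i with hs
  obtain ⟨y, hy⟩ := solve s (by simp [hs, hs₀])
  refine ⟨s, y, hy, by simp [hs, hs₀],
    fun i hi _ => by simp [hs, hs₀, show i ≠ 1 by omega, show i ≠ 0 by omega],
    fun i hi => by simp [hs, hs₀, show i ≠ 1 by omega, show i ≠ 0 by omega], fun _ k hk => ?_⟩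
  have h1 := core_trace (m := a + b + 1) hm hd hy
  rw [show k = Fin.last (a + b + 1) from Fin.ext (by simp; omega), h1,
    ← Finset.sum_erase_add _ _ (Finset.mem_univ L)]
  have h2 : ∀ i : Fin (a + b + 1), tM (m := a + b + 2) 1 d s i.castSucc i.succ = s i.val := fun i => by
    simp [tM, (Fin.castSucc_lt_succ (i := i)).ne]
  rw [h2 L, Finset.sum_congr rfl fun i hi => (h2 i).trans (show s i.val = s₀ i.val by
    have : i.val ≠ 1 := fun e => Finset.ne_of_mem_erase hi (Fin.ext e)
    simp [hs, this]), ← hσ]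
  have h3 : s L.val = v := by simp [hs, L]
  rw [h3, hv]
  ring_nf
  exact one_ne_zero

end Cfsg.Agent.SLComm
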