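import Cfsg.Agent.Lib.SLComm.RegSelect
import Cfsg.Agent.Lib.SLComm.Design
import Cfsg.Agent.Lib.SLComm.ClassData
import Mathlib.LinearAlgebra.Matrix.Block
import Mathlib.LinearAlgebra.Basis.Fin

/-!
# Products of two regular unipotent matrices

* `regSplit` : a matrix of determinant one, not scalar and with `R - 1` of rank at least two is similar to `L U`
  with `L` lower and `U` upper regular unitriangular;
* `sim_uReg`, `sim_lReg` : these are similar to one cyclic model.
-/

set_option autoImplicit false
set_option linter.unusedVariables false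
set_option linter.unusedSectionVars false
set_option linter.style.haveILetI false

namespace Cfsg.Agent.SLComm

open Module Matrix Submodule

variable {K : Type*} [Field K] {m : ℕ}

/-- Upper unitriangular with nonzero superdiagonal. -/
def UReg (M : Matrix (Fin m) (Fin m) K) : Prop :=
  (∀ i j, j < i → M i j = 0) ∧ (∀ i, M i i = 1) ∧ ∀ i j : Fin m, j.val = i.val + 1 → M i j ≠ 0

/-- Lower unitriangular with nonzero subdiagonal. -/
def LReg (M : Matrix (Fin m) (Fin m) K) : Prop := UReg Mᵀ

/-- The block matrix `[[1, b], [a, D]]`. -/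
def bM (a b : Fin m → K) (D : Matrix (Fin m) (Fin m) K) : Matrix (Fin (m + 1)) (Fin (m + 1)) K :=
  Matrix.of (Fin.cases (Fin.cons 1 b) fun i => Fin.cons (a i) (D i))

@[simp] theorem bM_zero_zero (a b : Fin m → K) (D : Matrix (Fin m) (Fin m) K) : bM a b D 0 0 = 1 := rfl
@[simp] theorem bM_zero_succ (a b : Fin m → K) (D : Matrix (Fin m) (Fin m) K) (j : Fin m) :
    bM a b D 0 j.succ = b j := rfl
@[simp] theorem bM_succ_zero (a b : Fin m → K) (D : Matrix (Fin m) (Fin m) K) (i : Fin m) :
    bM a b D i.succ 0 = a i := rfl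
@[simp] theorem bM_succ_succ (a b : Fin m → K) (D : Matrix (Fin m) (Fin m) K) (i j : Fin m) :
    bM a b D i.succ j.succ = D i j := rfl

theorem bM_one : bM (0 : Fin m → K) 0 1 = 1 := by
  ext i j
  induction i using Fin.cases <;> induction j using Fin.cases <;> simp [Matrix.one_apply, (Fin.succ_ne_zero _).symm]

theorem bM_mul_lu (a b : Fin m → K) (X Y : Matrix (Fin m) (Fin m) K) :
    bM a 0 X * bM 0 b Y = bM a b (vecMulVec a b + X * Y) := by
  ext i j
  induction i using Fin.cases <;> induction j using Fin.cases <;>
    simp [Matrix.mul_apply, Fin.sum_univ_succ, vecMulVec_apply]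

theorem bM_mul_diag (a b : Fin m → K) (D S : Matrix (Fin m) (Fin m) K) :
    bM a b D * bM 0 0 S = bM a (b ᵥ* S) (D * S) := by
  ext i j
  induction i using Fin.cases <;> induction j using Fin.cases <;>
    simp [Matrix.mul_apply, Fin.sum_univ_succ, Matrix.vecMul, dotProduct]

theorem bM_diag_mul (a b : Fin m → K) (D S : Matrix (Fin m) (Fin m) K) :
    bM 0 0 S * bM a b D = bM (S *ᵥ a) b (S * D) := by
  ext i j
  induction i using Fin.cases <;> induction j using Fin.cases <;>
    simp [Matrix.mul_apply, Fin.sum_univ_succ, Matrix.mulVec, dotProduct]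

theorem det_bM_lower (a : Fin m → K) (X : Matrix (Fin m) (Fin m) K) : (bM a 0 X).det = X.det := by
  rw [Matrix.det_succ_row_zero, Fin.sum_univ_succ, Finset.sum_eq_zero, add_zero]
  · simp only [bM_zero_zero, Fin.val_zero, pow_zero, one_mul]
    congr 1
  · intro j _; simp

theorem det_bM_upper (b : Fin m → K) (X : Matrix (Fin m) (Fin m) K) : (bM 0 b X).det = X.det := by
  rw [Matrix.det_succ_column_zero, Fin.sum_univ_succ, Finset.sum_eq_zero, add_zero]
  · simp only [bM_zero_zero, Fin.val_zero, pow_zero, one_mul]
    congr 1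
  · intro j _; simp

theorem det_bM (a b : Fin m → K) (D : Matrix (Fin m) (Fin m) K) :
    (bM a b D).det = (D - vecMulVec a b).det := by
  have h := bM_mul_lu a b 1 (D - vecMulVec a b)
  rw [one_mul, add_sub_cancel] at h
  rw [← h, det_mul, det_bM_lower, det_one, one_mul, det_bM_upper]

theorem uReg_bM {b : Fin (m + 1) → K} {U : Matrix (Fin (m + 1)) (Fin (m + 1)) K} (hU : UReg U) (hb : b 0 ≠ 0) :
    UReg (bM 0 b U) := by
  obtain ⟨h1, h2, h3⟩ := hU
  refine ⟨fun i j hij => ?_, fun i => ?_, fun i j hij => ?_⟩
  · induction i using Fin.cases with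
    | zero => simp at hij
    | succ i =>
      induction j using Fin.cases with
      | zero => simp
      | succ j => simpa using h1 i j (Fin.succ_lt_succ_iff.1 hij)
  · induction i using Fin.cases with
    | zero => rfl
    | succ i => simpa using h2 i
  · induction j using Fin.cases with
    | zero => simp at hij
    | succ j =>
      induction i using Fin.cases with
      | zero =>
        rw [show j = 0 from Fin.ext (by simpa using hij)]
        exact hb
      | succ i => simpa using h3 i j (by simpa using hij)

theorem lReg_bM {a : Fin (m + 1) → K} {L : Matrix (Fin (m + 1)) (Fin (m + 1)) K} (hL : LReg L) (ha : a 0 ≠ 0) :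
    LReg (bM a 0 L) := by
  have e : (bM a 0 L)ᵀ = bM 0 a Lᵀ := by
    ext i j
    induction i using Fin.cases <;> induction j using Fin.cases <;> simp
  unfold LReg
  rw [e]
  exact uReg_bM hL ha

set_option maxHeartbeats 1000000 in
/-- Similar to `L U`, with prescribed nonzero first coordinates of a vector and of a functional. -/
theorem regSplit (S : Finset K) (hS : 4 ≤ S.card) : ∀ (m : ℕ) (R : Matrix (Fin (m + 1)) (Fin (m + 1)) K),
    R.det = 1 → (1 ≤ m → (∀ c : K, R ≠ c • 1) ∧ ∀ l : Fin (m + 1) → K, ∃ w, (R - 1) *ᵥ w ∉ span K {l}) →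
    ∀ x y : Fin (m + 1) → K, x ≠ 0 → y ≠ 0 →
    ∃ (B L U : Matrix (Fin (m + 1)) (Fin (m + 1)) K) (x' : Fin (m + 1) → K), B.det ≠ 0 ∧ LReg L ∧ UReg U ∧
      R * B = B * (L * U) ∧ B *ᵥ x' = x ∧ x' 0 ≠ 0 ∧ (y ᵥ* B) 0 ≠ 0 := by
  intro m
  induction m with
  | zero =>
    intro R hdet _ x y hx hy
    haveI : Subsingleton (Fin (0 + 1)) := Fin.subsingleton_one
    have hR : R = 1 := by
      ext i j
      rw [Subsingleton.elim i 0, Subsingleton.elim j 0, Matrix.one_apply_eq, ← hdet, Matrix.det_fin_one]
    have h1 : UReg (1 : Matrix (Fin 1) (Fin 1) K) :=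
      ⟨fun i j h => absurd h (by omega), fun i => Matrix.one_apply_eq i, fun i j h => absurd h (by omega)⟩
    refine ⟨1, 1, 1, x, by simp, by unfold LReg; rwa [transpose_one], h1, by simp [hR], one_mulVec x, ?_, ?_⟩
    · exact fun h => hx (funext fun i => by rw [Subsingleton.elim i 0, h]; rfl)
    · rw [vecMul_one]
      exact fun h => hy (funext fun i => by rw [Subsingleton.elim i 0, h]; rfl)
  | succ m ih =>
    intro R hdet hgood x y hx hy
    obtain ⟨hns, hrk⟩ := hgood (by omega)
    let yf : Dual K (Fin (m + 2) → K) := dotProductBilin K K y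
    have hyf : yf ≠ 0 := fun h => hy (funext fun i => by
      simpa [yf] using LinearMap.congr_fun h (Pi.single i 1))
    obtain ⟨v, φ, hφv, hφR, hRv, ⟨w0, hw0⟩, hφx, hyv, hbad⟩ := exists_select S hS
      (R := Matrix.toLin' R) (x := x) (y := yf) (by simp) (by rw [LinearMap.det_toLin', hdet])
      (fun c h => hns c (Matrix.toLin'.injective (by rw [h, map_smul, Matrix.toLin'_one]; rfl)))
      (fun l => by
        obtain ⟨w, hw⟩ := hrk l
        exact ⟨w, by rwa [Matrix.sub_mulVec, Matrix.one_mulVec, ← Matrix.toLin'_apply] at hw⟩) hx hyf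
    have hφne : φ ≠ 0 := fun h => by simp [h] at hφv
    have hker : finrank K (LinearMap.ker φ) = m + 1 := by
      have := Module.Dual.finrank_ker_add_one_of_ne_zero hφne
      rw [Module.finrank_fin_fun] at this
      omega
    let bs : Basis (Fin (m + 2)) K (Fin (m + 2) → K) := Basis.mkFinCons v (finBasisOfFinrankEq K _ hker)
      (fun c z hz h => by
        have := congrArg φ h
        simpa [hφv, LinearMap.mem_ker.1 hz] using this)
      (fun z => ⟨-φ z, by simp [hφv]⟩)
    have hb0 : bs 0 = v := by simp [bs]
    have hbs : ∀ j : Fin (m + 1), φ (bs j.succ) = 0 := fun j => by simp [bs]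
    have hrepr : ∀ z, bs.repr z 0 = φ z := by
      have : (Finsupp.lapply 0).comp bs.repr.toLinearMap = φ := by
        refine bs.ext fun i => ?_
        induction i using Fin.cases with
        | zero =>
          simp only [LinearMap.comp_apply, LinearEquiv.coe_coe, Finsupp.lapply_apply]
          rw [Basis.repr_self, Finsupp.single_eq_same, hb0, hφv]
        | succ i => simp [hbs, (Fin.succ_ne_zero i)]
      exact fun z => LinearMap.congr_fun this z
    let P : Matrix (Fin (m + 2)) (Fin (m + 2)) K := Matrix.of fun i j => bs j i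
    have hP : P.det ≠ 0 := by
      have h1 : LinearIndependent K P.col := bs.linearIndependent
      exact ((Matrix.isUnit_iff_isUnit_det _).1 (Matrix.linearIndependent_cols_iff_isUnit.1 h1)).ne_zero
    set M := LinearMap.toMatrix bs bs (Matrix.toLin' R) with hM
    have hcol : ∀ j, Matrix.toLin' R (bs j) = ∑ i, M i j • bs i := fun j => by
      simp only [hM, LinearMap.toMatrix_apply]
      exact (bs.sum_repr _).symm
    have hRP : R * P = P * M := by
      ext i j
      have h1 := congrFun (hcol j) i
      simp only [Matrix.toLin'_apply, Matrix.mulVec, dotProduct, Finset.sum_apply, Pi.smul_apply, smul_eq_mul] at h1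
      simp only [Matrix.mul_apply, P, Matrix.of_apply]
      rw [h1]
      exact Finset.sum_congr rfl fun k _ => mul_comm _ _
    set a : Fin (m + 1) → K := fun i => M i.succ 0 with ha'
    set b : Fin (m + 1) → K := fun j => M 0 j.succ with hb'
    set D : Matrix (Fin (m + 1)) (Fin (m + 1)) K := M.submatrix Fin.succ Fin.succ with hD'
    have hM00 : M 0 0 = 1 := by rw [hM, LinearMap.toMatrix_apply, hb0, hrepr, hφR]
    have hMb : M = bM a b D := by
      ext i j
      induction i using Fin.cases <;> induction j using Fin.cases <;> simp [a, b, D, hM00]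
    have hRb0 : Matrix.toLin' R v = v + ∑ i : Fin (m + 1), a i • bs i.succ := by
      rw [← hb0, hcol, Fin.sum_univ_succ, hM00, one_smul, hb0]
    have hRbs : ∀ j : Fin (m + 1),
        Matrix.toLin' R (bs j.succ) = b j • v + ∑ i : Fin (m + 1), D i j • bs i.succ := fun j => by
      rw [hcol, Fin.sum_univ_succ, hb0]
      rfl
    have ha : a ≠ 0 := fun h => hRv (by rw [hRb0, h]; simp)
    have hb : b ≠ 0 := by
      intro h
      refine hw0 ?_
      have e : φ.comp (Matrix.toLin' R) = φ := by
        refine bs.ext fun i => ?_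
        induction i using Fin.cases with
        | zero => rw [LinearMap.comp_apply, hb0, hφR, hφv]
        | succ i =>
          have := congrFun h i
          simp only [b, hM, LinearMap.toMatrix_apply] at this
          rw [LinearMap.comp_apply, hbs, ← hrepr]
          exact this
      exact LinearMap.congr_fun e w0
    set R2 := D - vecMulVec a b with hR2
    have hdet2 : R2.det = 1 := by
      rw [hR2, ← det_bM, ← hMb, hM, LinearMap.det_toMatrix, LinearMap.det_toLin', hdet]
    -- the operator induced on the kernel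
    have key : ∀ (c : K) (p : Submodule K (Fin (m + 2) → K)), Matrix.toLin' R v ∈ p →
        (∀ j, ∑ i : Fin (m + 1), (R2 - c • 1) i j • bs i.succ ∈ p) →
        ∀ z, Matrix.toLin' R z - c • z - φ z • Matrix.toLin' R (Matrix.toLin' R v) ∈ p := by
      intro c p hp hsum
      set G : (Fin (m + 2) → K) →ₗ[K] (Fin (m + 2) → K) :=
        Matrix.toLin' R - c • LinearMap.id - φ.smulRight (Matrix.toLin' R (Matrix.toLin' R v)) with hG
      have hGb : ∀ j : Fin (m + 1), G (bs j.succ) ∈ p := by
        intro j
        have e : G (bs j.succ) =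
            b j • Matrix.toLin' R v + ∑ i : Fin (m + 1), (R2 - c • 1) i j • bs i.succ := by
          simp only [hG, LinearMap.sub_apply, LinearMap.smul_apply, LinearMap.id_apply, LinearMap.smulRight_apply,
            hbs, zero_smul, sub_zero]
          rw [hRbs, hRb0]
          simp only [hR2, Matrix.sub_apply, Matrix.smul_apply, vecMulVec_apply, smul_eq_mul, sub_smul, mul_smul,
            Finset.sum_sub_distrib, smul_add, Finset.smul_sum]
          simp only [Matrix.one_apply, ite_smul, one_smul, zero_smul, smul_ite, smul_zero, Finset.sum_ite_eq',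
            Finset.mem_univ, if_true]
          rw [Finset.sum_congr rfl fun i (_ : i ∈ Finset.univ) => smul_comm (b j) (a i) (bs i.succ)]
          abel
        rw [e]
        exact add_mem (p.smul_mem _ hp) (hsum j)
      have hGR : G (Matrix.toLin' R v) ∈ p := by
        have e : G (Matrix.toLin' R v) = (-c) • Matrix.toLin' R v := by
          simp only [hG, LinearMap.sub_apply, LinearMap.smul_apply, LinearMap.id_apply, LinearMap.smulRight_apply,
            hφR]
          module
        rw [e]; exact p.smul_mem _ hp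
      have hall : ⊤ ≤ p.comap G := by
        rw [← bs.span_eq, span_le]
        rintro _ ⟨i, rfl⟩
        induction i using Fin.cases with
        | zero =>
          show G (bs 0) ∈ p
          rw [hb0, show v = Matrix.toLin' R v - ∑ i : Fin (m + 1), a i • bs i.succ by rw [hRb0]; abel, map_sub,
            map_sum]
          exact p.sub_mem hGR (p.sum_mem fun i _ => by rw [map_smul]; exact p.smul_mem _ (hGb i))
        | succ i => exact hGb i
      intro z
      simpa [hG] using hall (mem_top (x := z))
    have hgood2 : 1 ≤ m → (∀ c : K, R2 ≠ c • 1) ∧ ∀ l : Fin (m + 1) → K, ∃ w, (R2 - 1) *ᵥ w ∉ span K {l} := by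
      intro hm
      have hnb := hbad (by simp; omega)
      refine ⟨fun c hc => hnb (Or.inl ⟨c, key c _ (subset_span rfl) fun j => ?_⟩), fun l => ?_⟩
      · simp [hc]
      · by_contra! hcon
        refine hnb (Or.inr ⟨∑ i : Fin (m + 1), l i • bs i.succ, fun z => ?_⟩)
        have := key 1 (span K {Matrix.toLin' R v, ∑ i : Fin (m + 1), l i • bs i.succ})
          (subset_span (by simp)) (fun j => ?_) z
        · simpa using this
        · obtain ⟨k, hk⟩ := mem_span_singleton.1 (hcon (Pi.single j 1))
          rw [Matrix.mulVec_single_one] at hk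
          have e : ∑ i : Fin (m + 1), (R2 - (1 : K) • 1) i j • bs i.succ = k • ∑ i, l i • bs i.succ := by
            rw [Finset.smul_sum]
            refine Finset.sum_congr rfl fun i _ => ?_
            rw [smul_smul]
            congr 1
            have := congrFun hk i
            simpa using this.symm
          rw [e]
          exact smul_mem _ _ (subset_span (by simp))
    obtain ⟨B, L, U, a', hB, hL, hU, hBeq, ha'', ha0, hb0'⟩ := ih R2 hdet2 hgood2 a b ha hb
    -- lift
    have hxc : ∃ t : Fin (m + 1) → K, B *ᵥ t = fun i => bs.repr x i.succ := by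
      refine ⟨B⁻¹ *ᵥ fun i => bs.repr x i.succ, ?_⟩
      rw [Matrix.mulVec_mulVec, Matrix.mul_nonsing_inv _ (Ne.isUnit hB), one_mulVec]
    obtain ⟨t, ht⟩ := hxc
    have hBlock : M * bM 0 0 B = bM 0 0 B * (bM a' 0 L * bM 0 (b ᵥ* B) U) := by
      rw [hMb, bM_mul_diag, bM_mul_lu, bM_diag_mul, ha'', mul_add, Matrix.mul_vecMulVec, ha'', ← hBeq, hR2,
        sub_mul, Matrix.vecMulVec_mul]
      congr 1
      abel
    refine ⟨P * bM 0 0 B, bM a' 0 L, bM 0 (b ᵥ* B) U, Fin.cons (φ x) t, ?_, lReg_bM hL ha0, uReg_bM hU hb0',
      ?_, ?_, by simpa using hφx, ?_⟩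
    · rw [det_mul, det_bM_lower]; exact mul_ne_zero hP hB
    · rw [← Matrix.mul_assoc, hRP, Matrix.mul_assoc, hBlock, Matrix.mul_assoc]
    · have e : bM 0 0 B *ᵥ Fin.cons (φ x) t = fun i => bs.repr x i := by
        ext i
        induction i using Fin.cases with
        | zero => simp [Matrix.mulVec, dotProduct, Fin.sum_univ_succ, hrepr]
        | succ i =>
          rw [← congrFun ht i]
          simp [Matrix.mulVec, dotProduct, Fin.sum_univ_succ]
      rw [← Matrix.mulVec_mulVec, e]
      ext i
      have h1 := congrFun (bs.sum_repr x) i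
      rw [Finset.sum_apply] at h1
      rw [← h1]
      unfold Matrix.mulVec dotProduct
      exact Finset.sum_congr rfl fun k _ => by
        simp only [P, Matrix.of_apply, Pi.smul_apply, smul_eq_mul]
        exact mul_comm _ _
    · intro h
      refine hyv ?_
      have e : ∀ k, (P * bM 0 0 B) k 0 = v k := fun k => by
        simp [Matrix.mul_apply, Fin.sum_univ_succ (n := m + 1), P, hb0]
      show y ⬝ᵥ v = 0
      rw [← h]
      exact Finset.sum_congr rfl fun k _ => by simp only [e]

open Polynomial in
theorem sim_uReg {n : ℕ} {U : Matrix (Fin n) (Fin n) K} (hU : UReg U) :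
    Sim (Matrix.toLin' U) (Cyc ((X - Polynomial.C (1 : K)) ^ n)) := by
  have h : Fil U (1 * (X - Polynomial.C (1 : K)) ^ (n - 0)) n := by
    refine (fil_zero U).group (Nat.zero_le _) le_rfl (fun i j h _ => hU.1 i j h) (fun i _ _ => hU.2.1 i)
      (fun i j _ hij _ => hU.2.2 i j hij) (Or.inr (by simp))
  rw [one_mul, Nat.sub_zero] at h
  exact h.sim

open Polynomial in
theorem sim_lReg {n : ℕ} {L : Matrix (Fin (n + 1)) (Fin (n + 1)) K} (hL : LReg L) :
    Sim (Matrix.toLin' L) (Cyc ((X - Polynomial.C (1 : K)) ^ (n + 1))) := by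
  have hm : ((X - Polynomial.C (1 : K)) ^ (n + 1)).Monic := (monic_X_sub_C 1).pow _
  have hd : ((X - Polynomial.C (1 : K)) ^ (n + 1)).natDegree = n + 1 := by
    rw [(monic_X_sub_C (1 : K)).natDegree_pow, natDegree_X_sub_C, mul_one]
  have h := ((sim_uReg hL).trans (sim_cm hm hd).symm).transpose
  rw [transpose_transpose] at h
  exact h.symm.trans (sim_cm_transpose hm hd)

end Cfsg.Agent.SLComm
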