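import Cfsg.Agent.EqLemmas
import Mathlib.LinearAlgebra.Dual.Lemmas
import Mathlib.LinearAlgebra.Determinant
import Mathlib.LinearAlgebra.Matrix.Determinant.Basic
import Mathlib.LinearAlgebra.FiniteDimensional.Lemmas

/-!
# Selection of a vector and a functional for factorisations into regular unipotents

`exists_select`: for `R` of determinant one, not scalar and with `R - 1` of rank at least two, over a field with
at least four elements, there are `v` and `φ` with `φ v = φ (R v) = 1`, avoiding given hyperplanes, such that the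
operator induced on `ker φ` is again neither scalar nor of the form `1 +` rank one.
-/

set_option autoImplicit false
set_option linter.unusedVariables false
set_option linter.unusedSectionVars false

namespace Cfsg.Agent.SLComm

open Module Submodule

variable {K V : Type*} [Field K] [AddCommGroup V] [Module K V]

/-- At most `n` proper subspaces do not cover, if the field has at least `n` elements. -/
theorem exists_notMem_list (S : Finset K) (L : List (Submodule K V)) (hL : ∀ p ∈ L, p ≠ ⊤)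
    (hc : L.length ≤ S.card) : ∃ x : V, ∀ p ∈ L, x ∉ p := by
  classical
  induction L with
  | nil => exact ⟨0, by simp⟩
  | cons p L ih =>
    rw [List.length_cons] at hc
    obtain ⟨x, hx⟩ := ih (fun q hq => hL q (List.mem_cons_of_mem _ hq)) (by omega)
    by_cases hxp : x ∈ p
    swap
    · exact ⟨x, List.forall_mem_cons.2 ⟨hxp, hx⟩⟩
    obtain ⟨z, hz⟩ : ∃ z, z ∉ p := by
      by_contra! h
      exact hL p List.mem_cons_self (eq_top_iff.2 fun z _ => h z)
    by_contra! hcon
    have h1 : ∀ s : K, ∃ q ∈ L.toFinset, z + s • x ∈ q := fun s => by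
      obtain ⟨q, hq, hm⟩ := hcon (z + s • x)
      rcases List.mem_cons.1 hq with rfl | hq
      · exact absurd ((q.add_mem_iff_left (q.smul_mem s hxp)).1 hm) hz
      · exact ⟨q, List.mem_toFinset.2 hq, hm⟩
    choose f hf hfm using h1
    obtain ⟨s, -, t, -, hne, he⟩ := Finset.exists_ne_map_eq_of_card_lt_of_maps_to
      (s := S) (t := L.toFinset) (by have := L.toFinset_card_le; omega) (fun s _ => hf s)
    refine hx _ (List.mem_toFinset.1 (hf s)) ((Submodule.smul_mem_iff _ (sub_ne_zero.2 hne)).1 ?_)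
    have h3 := (f s).sub_mem (hfm s) (he ▸ hfm t)
    rwa [add_sub_add_left_eq_sub, ← sub_smul] at h3

/-- A functional separating a vector from a subspace. -/
theorem dual_sep {p : Submodule K V} {x : V} (hx : x ∉ p) : ∃ f : Dual K V, f x = 1 ∧ ∀ w ∈ p, f w = 0 := by
  obtain ⟨f, hf, hp⟩ := Submodule.exists_dual_map_eq_bot_of_notMem hx inferInstance
  refine ⟨(f x)⁻¹ • f, by simp [hf], fun w hw => ?_⟩
  have : f w ∈ p.map f := ⟨w, hw, rfl⟩
  rw [hp, Submodule.mem_bot] at this
  simp [this]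

theorem finrank_pair_le (a b : V) : finrank K (span K ({a, b} : Set V)) ≤ 2 := by
  classical
  have h : ({a, b} : Set V) = ↑({a, b} : Finset V) := by simp
  rw [h]
  exact (finrank_span_finset_le_card _).trans Finset.card_le_two

theorem finrank_pair_eq {a b : V} (h : ∀ r s : K, r • a + s • b = 0 → r = 0 ∧ s = 0) :
    finrank K (span K ({a, b} : Set V)) = 2 := by
  have h1 : LinearIndependent K ![a, b] := LinearIndependent.pair_iff.2 h
  have h2 := finrank_span_eq_card h1
  rwa [Matrix.range_cons_cons_empty, Fintype.card_fin] at h2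

theorem span_pair_eq_of_mem [FiniteDimensional K V] {a b c d : V}
    (h : ∀ r s : K, r • a + s • b = 0 → r = 0 ∧ s = 0) (ha : a ∈ span K ({c, d} : Set V))
    (hb : b ∈ span K ({c, d} : Set V)) : span K ({a, b} : Set V) = span K ({c, d} : Set V) := by
  refine Submodule.eq_of_le_of_finrank_le (span_le.2 ?_) ?_
  · rintro w (rfl | rfl)
    exacts [ha, hb]
  · rw [finrank_pair_eq h]
    exact finrank_pair_le c d

theorem indep_pair {v w : V} (hv : v ≠ 0) (hw : w ∉ span K ({v} : Set V)) :
    ∀ r s : K, r • v + s • w = 0 → r = 0 ∧ s = 0 := by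
  intro r s h
  have hs : s = 0 := by
    by_contra hs
    refine hw (((span K ({v} : Set V)).smul_mem_iff hs).1 ?_)
    rw [show s • w = -(r • v) from eq_neg_of_add_eq_zero_right h]
    exact neg_mem (smul_mem _ r (subset_span rfl))
  rw [hs, zero_smul, add_zero] at h
  exact ⟨(smul_eq_zero.1 h).resolve_right hv, hs⟩

/-- The operator induced on `ker φ` is scalar `c ≠ 1`. -/
def ScType (R : Module.End K V) (v : V) (φ : Dual K V) : Prop :=
  ∃ c : K, c ≠ 1 ∧ ∀ z, R z - c • z - φ z • R (R v) ∈ span K ({R v} : Set V)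

/-- The operator induced on `ker φ` is `1 +` rank at most one. -/
def RkType (R : Module.End K V) (v : V) (φ : Dual K V) : Prop :=
  ∃ l : V, ∀ z, R z - z - φ z • R (R v) ∈ span K ({R v, l} : Set V)

/-- The operator induced on `ker φ` is scalar, or `1 +` rank at most one. -/
def BadSel (R : Module.End K V) (v : V) (φ : Dual K V) : Prop :=
  (∃ c : K, ∀ z, R z - c • z - φ z • R (R v) ∈ span K ({R v} : Set V)) ∨ RkType R v φ

theorem BadSel.cases {R : Module.End K V} {v : V} {φ : Dual K V} (h : BadSel R v φ) :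
    ScType R v φ ∨ RkType R v φ := by
  rcases h with ⟨c, hc⟩ | h
  · by_cases hc1 : c = 1
    · subst hc1
      refine Or.inr ⟨0, fun z => ?_⟩
      have := hc z
      rw [one_smul] at this
      exact span_mono (by simp) this
    · exact Or.inl ⟨c, hc1, hc⟩
  · exact Or.inr h

section
variable [FiniteDimensional K V] {R : Module.End K V} {v : V} (hinj : Function.Injective R) (hv0 : v ≠ 0)
  (hne : R v ∉ span K ({v} : Set V))
include hinj hv0 hne

theorem RR_notMem : R (R v) ∉ span K ({R v} : Set V) := by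
  intro h
  obtain ⟨k, hk⟩ := mem_span_singleton.1 h
  rw [← map_smul] at hk
  exact hne (mem_span_singleton.2 ⟨k, hinj hk⟩)

theorem v_notMem : v ∉ span K ({R v} : Set V) := by
  intro h
  obtain ⟨k, hk⟩ := mem_span_singleton.1 h
  rcases eq_or_ne k 0 with rfl | hk0
  · exact hv0 (by simpa using hk.symm)
  · exact hne (mem_span_singleton.2 ⟨k⁻¹, by conv_lhs => rw [← hk, smul_smul, inv_mul_cancel₀ hk0, one_smul]⟩)

theorem ScType.congr {φ φ' : Dual K V} (h : ScType R v φ) (h' : ScType R v φ') (hφ : φ v = 1) (hφ' : φ' v = 1) :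
    φ = φ' := by
  obtain ⟨c, -, hc⟩ := h
  obtain ⟨c', -, hc'⟩ := h'
  have e : c = c' := by
    by_contra e
    have h1 := sub_mem (hc' v) (hc v)
    rw [hφ, hφ', show R v - c' • v - (1 : K) • R (R v) - (R v - c • v - (1 : K) • R (R v)) = (c - c') • v by module]
      at h1
    exact v_notMem hinj hv0 hne ((Submodule.smul_mem_iff _ (sub_ne_zero.2 e)).1 h1)
  subst e
  ext z
  by_contra hd
  have h1 := sub_mem (hc' z) (hc z)
  rw [show R z - c • z - φ' z • R (R v) - (R z - c • z - φ z • R (R v)) = (φ z - φ' z) • R (R v) by module] at h1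
  exact RR_notMem hinj hv0 hne ((Submodule.smul_mem_iff _ (sub_ne_zero.2 hd)).1 h1)

variable (hK0 : ∃ z0, R z0 - z0 ∉ span K ({v, R v} : Set V))
include hK0

/-- The plane of a rank one type does not contain `v` if `R (R v)` is in the plane of `v` and `R v`. -/
theorem rk_notMem {φ : Dual K V} {l : V} (hl : ∀ z, R z - z - φ z • R (R v) ∈ span K ({R v, l} : Set V))
    (hU : R (R v) ∈ span K ({v, R v} : Set V)) : v ∉ span K ({R v, l} : Set V) := by
  intro hv
  obtain ⟨z0, hz0⟩ := hK0
  have hP := span_pair_eq_of_mem (indep_pair hv0 hne) hv (subset_span (by simp))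
  refine hz0 ?_
  have h1 := hl z0
  rw [← hP] at h1
  simpa using add_mem h1 (smul_mem _ (φ z0) hU)

theorem ScType.not_rk {φ φ' : Dual K V} (h : ScType R v φ) (h' : RkType R v φ') (hφ : φ v = 1) (hφ' : φ' v = 1) :
    False := by
  obtain ⟨c, hc1, hc⟩ := h
  obtain ⟨l, hl⟩ := h'
  obtain ⟨k, hk⟩ := mem_span_singleton.1 (hc v)
  rw [hφ, one_smul] at hk
  have hR2 : R (R v) = (-c) • v + (1 - k) • R v := by linear_combination (norm := module) hk
  refine rk_notMem hinj hv0 hne hK0 hl ?_ ((Submodule.smul_mem_iff _ (sub_ne_zero.2 hc1)).1 ?_)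
  · rw [hR2]; exact mem_span_pair.2 ⟨_, _, rfl⟩
  · have h1 := hl v
    rw [hφ', one_smul] at h1
    have h2 := sub_mem h1 (smul_mem (span K ({R v, l} : Set V)) k (subset_span (by simp : R v ∈ ({R v, l} : Set V))))
    rwa [hR2, show R v - v - ((-c) • v + (1 - k) • R v) - k • R v = (c - 1) • v by module] at h2

/-- A single rank one type inside the plane forces `R (R v) = -v + b R v`. -/
theorem RkType.plane {φ : Dual K V} (h : RkType R v φ) (hφ : φ v = 1)
    (hU : R (R v) ∈ span K ({v, R v} : Set V)) : ∃ b : K, R (R v) = -v + b • R v := by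
  obtain ⟨l, hl⟩ := h
  obtain ⟨a, b, hab⟩ := mem_span_pair.1 hU
  refine ⟨b, ?_⟩
  by_cases ha : a = -1
  · rw [← hab, ha, neg_one_smul]
  refine absurd ((Submodule.smul_mem_iff _ (sub_ne_zero.2 (Ne.symm ha))).1 ?_) (rk_notMem hinj hv0 hne hK0 hl hU)
  have h1 := hl v
  rw [hφ, one_smul] at h1
  have h2 := sub_mem h1 (smul_mem (span K ({R v, l} : Set V)) (1 - b) (subset_span (by simp : R v ∈ ({R v, l} : Set V))))
  rwa [← hab, show R v - v - (a • v + b • R v) - (1 - b) • R v = (-1 - a) • v by module] at h2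

/-- Two rank one types force `R (R v)` into the plane. -/
theorem RkType.mem_plane {φ φ' : Dual K V} (h : RkType R v φ) (h' : RkType R v φ') (hφ : φ v = 1)
    (hφ' : φ' v = 1) (hd : φ ≠ φ') : R (R v) ∈ span K ({v, R v} : Set V) := by
  by_contra hU
  obtain ⟨l, hl⟩ := h
  obtain ⟨l', hl'⟩ := h'
  set w := R v - v - R (R v) with hw
  have hind : ∀ r s : K, r • R v + s • w = 0 → r = 0 ∧ s = 0 := by
    refine indep_pair (fun e => hv0 (hinj (by rw [e, map_zero]))) fun hm => hU ?_
    have h1 : w ∈ span K ({v, R v} : Set V) := span_mono (by simp) hm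
    have h2 : R v - v ∈ span K ({v, R v} : Set V) :=
      sub_mem (subset_span (by simp)) (subset_span (by simp))
    simpa [hw] using sub_mem h2 h1
  have hP := span_pair_eq_of_mem hind (subset_span (by simp)) (show w ∈ span K ({R v, l} : Set V) by
    have := hl v; rwa [hφ, one_smul] at this)
  have hP' := span_pair_eq_of_mem hind (subset_span (by simp)) (show w ∈ span K ({R v, l'} : Set V) by
    have := hl' v; rwa [hφ', one_smul] at this)
  obtain ⟨z, hz⟩ : ∃ z, φ z ≠ φ' z := by
    by_contra! h; exact hd (LinearMap.ext h)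
  have h1 : R (R v) ∈ span K ({R v, w} : Set V) := by
    refine (Submodule.smul_mem_iff _ (sub_ne_zero.2 hz)).1 ?_
    have e1 := hl z
    have e2 := hl' z
    rw [← hP] at e1
    rw [← hP'] at e2
    have := sub_mem e2 e1
    rwa [show R z - z - φ' z • R (R v) - (R z - z - φ z • R (R v)) = (φ z - φ' z) • R (R v) by module] at this
  have hv : v ∈ span K ({R v, w} : Set V) := by
    have h2 := sub_mem (sub_mem (subset_span (by simp : R v ∈ ({R v, w} : Set V))) h1)
      (subset_span (by simp : w ∈ ({R v, w} : Set V)))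
    rwa [hw, show R v - R (R v) - (R v - v - R (R v)) = v by abel] at h2
  refine hU ?_
  rw [span_pair_eq_of_mem (indep_pair hv0 hne) hv (subset_span (by simp))]
  exact h1

theorem bad_line (hdet : LinearMap.det R = 1) (hdim : 3 ≤ finrank K V) :
    ∃ φ₁ φ₂ : Dual K V, (φ₁ = φ₂ ∨ 4 ≤ finrank K V) ∧
      ∀ φ : Dual K V, φ v = 1 → φ (R v) = 1 → BadSel R v φ → φ ∈ span K ({φ₁, φ₂} : Set (Dual K V)) := by
  by_cases h1 : ∃ φ : Dual K V, φ v = 1 ∧ φ (R v) = 1 ∧ BadSel R v φ
  swap
  · exact ⟨0, 0, Or.inl rfl, fun φ a b c => absurd ⟨φ, a, b, c⟩ h1⟩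
  obtain ⟨φ₁, a₁, b₁, c₁⟩ := h1
  by_cases h2 : ∃ φ : Dual K V, φ v = 1 ∧ φ (R v) = 1 ∧ BadSel R v φ ∧ φ ≠ φ₁
  swap
  · refine ⟨φ₁, φ₁, Or.inl rfl, fun φ a b c => ?_⟩
    by_cases e : φ = φ₁
    · subst e; exact subset_span (by simp)
    · exact absurd ⟨φ, a, b, c, e⟩ h2
  obtain ⟨φ₂, a₂, b₂, c₂, hne₂⟩ := h2
  have rk : ∀ φ φ' : Dual K V, φ v = 1 → φ' v = 1 → φ ≠ φ' → BadSel R v φ → BadSel R v φ' → RkType R v φ := by
    intro φ φ' a a' hd c c'
    rcases c.cases with s | s
    · rcases c'.cases with s' | s'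
      · exact absurd (ScType.congr hinj hv0 hne s s' a a') hd
      · exact (ScType.not_rk hinj hv0 hne hK0 s s' a a').elim
    · exact s
  have r₁ := rk φ₁ φ₂ a₁ a₂ hne₂.symm c₁ c₂
  have r₂ := rk φ₂ φ₁ a₂ a₁ hne₂ c₂ c₁
  have hU := RkType.mem_plane hinj hv0 hne hK0 r₁ r₂ a₁ a₂ hne₂.symm
  obtain ⟨b, hb⟩ := RkType.plane hinj hv0 hne hK0 r₁ a₁ hU
  obtain ⟨z0, hz0⟩ := hK0
  have hK0' : ∃ z0, R z0 - z0 ∉ span K ({v, R v} : Set V) := ⟨z0, hz0⟩
  refine ⟨φ₁, φ₂, Or.inr ?_, fun φ a b' c => ?_⟩
  · by_contra h4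
    have h3 : finrank K V = 3 := by omega
    have hz : z0 ∉ span K ({v, R v} : Set V) := by
      intro hz
      obtain ⟨r, s, hrs⟩ := mem_span_pair.1 hz
      refine hz0 (sub_mem ?_ hz)
      rw [← hrs, map_add, map_smul, map_smul, hb]
      exact mem_span_pair.2 ⟨-s, r + s * b, by module⟩
    have hli : LinearIndependent K ![v, R v, z0] := by
      rw [Fintype.linearIndependent_iff]
      intro g hg
      simp only [Fin.sum_univ_three, Matrix.cons_val_zero, Matrix.cons_val_one, Matrix.cons_val_two,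
        Matrix.tail_cons, Matrix.head_cons] at hg
      have g2 : g 2 = 0 := by
        by_contra g2
        refine hz ((Submodule.smul_mem_iff _ g2).1 ?_)
        rw [show g 2 • z0 = (-g 0) • v + (-g 1) • R v by linear_combination (norm := module) hg]
        exact mem_span_pair.2 ⟨_, _, rfl⟩
      rw [g2, zero_smul, add_zero] at hg
      obtain ⟨g0, g1⟩ := indep_pair hv0 hne _ _ hg
      intro i; fin_cases i <;> assumption
    let bs := basisOfLinearIndependentOfCardEqFinrank hli (by simp [h3])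
    have hbs : ⇑bs = ![v, R v, z0] := coe_basisOfLinearIndependentOfCardEqFinrank _ _
    set N := LinearMap.toMatrix bs bs R with hN
    have c0 : R v = bs 1 := by simp [hbs]
    have e00 : N 0 0 = 0 ∧ N 1 0 = 1 ∧ N 2 0 = 0 := by
      simp only [hN, LinearMap.toMatrix_apply]
      rw [show R (bs 0) = bs 1 by simp [hbs]]
      simp
    have e01 : N 0 1 = -1 ∧ N 1 1 = b ∧ N 2 1 = 0 := by
      simp only [hN, LinearMap.toMatrix_apply]
      rw [show R (bs 1) = (-1 : K) • bs 0 + b • bs 1 by simp [hbs, hb]]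
      simp
    have hdN : N.det = 1 := by rw [hN, LinearMap.det_toMatrix, hdet]
    rw [Matrix.det_fin_three, e00.1, e00.2.1, e00.2.2, e01.1, e01.2.1, e01.2.2] at hdN
    have h22 : N 2 2 = 1 := by linear_combination hdN
    have e2 : R z0 = N 0 2 • v + N 1 2 • R v + N 2 2 • z0 := by
      have := bs.sum_repr (R (bs 2))
      simp only [Fin.sum_univ_three] at this
      simpa [hN, LinearMap.toMatrix_apply, hbs] using this.symm
    refine hz0 ?_
    rw [e2, h22, one_smul, add_sub_cancel_right]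
    exact mem_span_pair.2 ⟨_, _, rfl⟩
  · by_cases e : φ = φ₁
    · subst e; exact subset_span (by simp)
    have r := rk φ φ₁ a a₁ e c c₁
    -- every rank one type has the same slope
    have slope : ∀ ψ : Dual K V, ψ v = 1 → RkType R v ψ → ∀ z, ∃ k : K,
        R z - z + ψ z • v - k • (R z0 - z0 + ψ z0 • v) ∈ span K ({R v} : Set V) := by
      rintro ψ aψ ⟨l, hl⟩ z
      set G : V → V := fun z => R z - z - ψ z • R (R v) with hG
      have hG0 : G z0 ∉ span K ({R v} : Set V) := fun hm => hz0 (by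
        have h' : G z0 ∈ span K ({v, R v} : Set V) := span_mono (by simp) hm
        simpa [hG] using add_mem h' (smul_mem _ (ψ z0) hU))
      have hP := span_pair_eq_of_mem (indep_pair (fun e => hv0 (hinj (by rw [e, map_zero]))) hG0)
        (subset_span (by simp)) (hl z0)
      have hz := hl z
      rw [← hP] at hz
      obtain ⟨j, k, hjk⟩ := mem_span_pair.1 hz
      refine ⟨k, mem_span_singleton.2 ⟨j + ψ z * b - k * (ψ z0 * b), ?_⟩⟩
      simp only [hG, hb] at hjk
      linear_combination (norm := module) hjk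
    have diff : ∀ z, ∃ k : K, ∀ ψ : Dual K V, ψ v = 1 → RkType R v ψ →
        R z - z + ψ z • v - k • (R z0 - z0 + ψ z0 • v) ∈ span K ({R v} : Set V) := by
      intro z
      obtain ⟨k, hk⟩ := slope φ₁ a₁ r₁ z
      refine ⟨k, fun ψ aψ hψ => ?_⟩
      obtain ⟨k', hk'⟩ := slope ψ aψ hψ z
      by_cases hkk : k' = k
      · rwa [hkk] at hk'
      exfalso
      refine hz0 ((Submodule.smul_mem_iff _ (sub_ne_zero.2 hkk)).1 ?_)
      have hmono : span K ({R v} : Set V) ≤ span K ({v, R v} : Set V) := span_mono (by simp)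
      have hv : v ∈ span K ({v, R v} : Set V) := subset_span (by simp)
      have h := add_mem (sub_mem (hmono hk) (hmono hk'))
        (smul_mem _ (ψ z - φ₁ z + k * φ₁ z0 - k' * ψ z0) hv)
      rwa [show R z - z + φ₁ z • v - k • (R z0 - z0 + φ₁ z0 • v)
          - (R z - z + ψ z • v - k' • (R z0 - z0 + ψ z0 • v))
          + (ψ z - φ₁ z + k * φ₁ z0 - k' * ψ z0) • v = (k' - k) • (R z0 - z0) by module] at h
    have key : ∀ ψ : Dual K V, ψ v = 1 → RkType R v ψ → ∀ z,
        ∀ k : K, R z - z + φ₁ z • v - k • (R z0 - z0 + φ₁ z0 • v) ∈ span K ({R v} : Set V) →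
        R z - z + ψ z • v - k • (R z0 - z0 + ψ z0 • v) ∈ span K ({R v} : Set V) →
        ψ z - φ₁ z = k * (ψ z0 - φ₁ z0) := by
      intro ψ aψ hψ z k h1 h2
      by_contra hne'
      refine v_notMem hinj hv0 hne ((Submodule.smul_mem_iff _ (sub_ne_zero.2 hne')).1 ?_)
      have h := sub_mem h2 h1
      rwa [show R z - z + ψ z • v - k • (R z0 - z0 + ψ z0 • v)
          - (R z - z + φ₁ z • v - k • (R z0 - z0 + φ₁ z0 • v))
          = (ψ z - φ₁ z - k * (ψ z0 - φ₁ z0)) • v by module] at h
    have d2 : φ₂ z0 - φ₁ z0 ≠ 0 := by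
      intro h0
      refine hne₂ (LinearMap.ext fun z => ?_)
      obtain ⟨k, hk⟩ := diff z
      have := key φ₂ a₂ r₂ z k (hk φ₁ a₁ r₁) (hk φ₂ a₂ r₂)
      rw [h0, mul_zero, sub_eq_zero] at this
      exact this
    set t := (φ z0 - φ₁ z0) / (φ₂ z0 - φ₁ z0) with ht
    refine mem_span_pair.2 ⟨1 - t, t, LinearMap.ext fun z => ?_⟩
    obtain ⟨k, hk⟩ := diff z
    have e2 := key φ₂ a₂ r₂ z k (hk φ₁ a₁ r₁) (hk φ₂ a₂ r₂)
    have e3 := key φ a r z k (hk φ₁ a₁ r₁) (hk φ a r)
    have ht' : t * (φ₂ z0 - φ₁ z0) = φ z0 - φ₁ z0 := by rw [ht, div_mul_cancel₀ _ d2]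
    simp only [LinearMap.add_apply, LinearMap.smul_apply, smul_eq_mul]
    linear_combination t * e2 + k * ht' - e3

end

/-- The selection. -/
theorem exists_select [FiniteDimensional K V] (S : Finset K) (hS : 4 ≤ S.card) {R : Module.End K V}
    (hdim : 2 ≤ finrank K V) (hdet : LinearMap.det R = 1) (hR : ∀ c : K, R ≠ c • 1)
    (hr : ∀ l : V, ∃ w, R w - w ∉ span K ({l} : Set V)) {x : V} (hx : x ≠ 0) {y : Dual K V} (hy : y ≠ 0) :
    ∃ v : V, ∃ φ : Dual K V, φ v = 1 ∧ φ (R v) = 1 ∧ R v ≠ v ∧ (∃ w, φ (R w) ≠ φ w) ∧ φ x ≠ 0 ∧ y v ≠ 0 ∧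
      (3 ≤ finrank K V → ¬ BadSel R v φ) := by
  have : Nontrivial V := nontrivial_of_ne x 0 hx
  have hinj : Function.Injective R :=
    (LinearMap.equivOfDetNeZero R (by rw [hdet]; exact one_ne_zero)).injective
  set N : Module.End K V := R - 1 with hN
  have hNa : ∀ w, N w = R w - w := fun w => rfl
  -- eigenvectors lie in two proper subspaces
  obtain ⟨S1, S2, h1, h2, heig, hrange⟩ : ∃ S1 S2 : Submodule K V, S1 ≠ ⊤ ∧ S2 ≠ ⊤ ∧
      (∀ v, v ∉ S1 → v ∉ S2 → R v ∉ span K ({v} : Set V)) ∧
      (LinearMap.range N ≠ ⊤ → LinearMap.range N ≤ S2) := by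
    have gen : ∀ α : K, (∃ w, w ≠ 0 ∧ R w = α • w) →
        LinearMap.ker (R - α • 1) ≠ ⊤ ∧ LinearMap.range (R - α • 1) ≠ ⊤ ∧
        (∀ v, v ∉ LinearMap.ker (R - α • 1) → v ∉ LinearMap.range (R - α • 1) → R v ∉ span K ({v} : Set V)) := by
      rintro α ⟨w, hw, hwe⟩
      refine ⟨fun h => hR α (sub_eq_zero.1 (LinearMap.ker_eq_top.1 h)), fun h => hw ?_, fun v v1 v2 hv => ?_⟩
      · refine (LinearMap.injective_iff_surjective.2 (LinearMap.range_eq_top.1 h)) ?_
        simp [hwe]
      · obtain ⟨β, hβ⟩ := mem_span_singleton.1 hv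
        by_cases hαβ : β = α
        · exact v1 (by simp [← hβ, hαβ])
        · refine v2 ⟨(β - α)⁻¹ • v, ?_⟩
          simp only [LinearMap.sub_apply, map_smul, LinearMap.smul_apply, Module.End.one_apply, ← hβ]
          rw [← sub_smul, smul_smul, inv_mul_cancel₀ (sub_ne_zero.2 hαβ), one_smul]
    by_cases hN1 : LinearMap.range N ≠ ⊤
    · obtain ⟨a, b, c⟩ := gen 1 (by
        by_contra! h
        refine hN1 (LinearMap.range_eq_top.2 (LinearMap.injective_iff_surjective.1 ?_))
        rw [← LinearMap.ker_eq_bot, LinearMap.ker_eq_bot']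
        intro w hw
        by_contra hw0
        exact h w hw0 (by rw [one_smul]; exact sub_eq_zero.1 hw))
      exact ⟨_, _, a, b, c, fun _ => by rw [one_smul]⟩
    · by_cases he : ∃ (α : K) (w : V), w ≠ 0 ∧ R w = α • w
      · obtain ⟨α, hα⟩ := he
        obtain ⟨a, b, c⟩ := gen α hα
        exact ⟨_, _, a, b, c, fun h => absurd h hN1⟩
      · refine ⟨⊥, ⊥, bot_ne_top, bot_ne_top, fun v hv _ hv' => ?_, fun h => absurd h hN1⟩
        obtain ⟨β, hβ⟩ := mem_span_singleton.1 hv'
        exact he ⟨β, v, by simpa using hv, hβ.symm⟩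
  -- the vector
  obtain ⟨v, hv⟩ := exists_notMem_list S [LinearMap.ker y, (span K ({x} : Set V)).comap N, S1, S2] (by
    simp only [List.mem_cons, List.not_mem_nil, or_false, forall_eq_or_imp, forall_eq]
    refine ⟨fun h => hy (LinearMap.ker_eq_top.1 h), fun h => ?_, h1, h2⟩
    obtain ⟨w, hw⟩ := hr x
    refine hw ?_
    have : w ∈ (span K ({x} : Set V)).comap N := h ▸ mem_top
    simpa [hNa] using this) (by simp; omega)
  simp only [List.mem_cons, List.not_mem_nil, or_false, forall_eq_or_imp, forall_eq, LinearMap.mem_ker,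
    Submodule.mem_comap, hNa] at hv
  obtain ⟨hyv, hW, hv1, hv2⟩ := hv
  have hne := heig v hv1 hv2
  have hv0 : v ≠ 0 := fun e => hne (by simp [e])
  have hRvv : R v ≠ v := fun e => hne (by rw [e]; exact mem_span_singleton_self v)
  -- the functional
  set D : Submodule K (Dual K V) := LinearMap.ker (Dual.eval K V (v - R v)) with hD
  have hDa : ∀ φ : Dual K V, φ ∈ D ↔ φ v = φ (R v) := fun φ => by
    simp [hD, sub_eq_zero]
  have hsep : ∀ z : V, z ∉ span K ({R v - v} : Set V) → ∃ φ ∈ D, φ z ≠ 0 := fun z hz => by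
    obtain ⟨f, hf, hf0⟩ := dual_sep hz
    refine ⟨f, (hDa f).2 ?_, by rw [hf]; exact one_ne_zero⟩
    have := hf0 _ (subset_span rfl)
    rw [map_sub, sub_eq_zero] at this
    exact this.symm
  have hv' : v ∉ span K ({R v - v} : Set V) := by
    intro h
    obtain ⟨k, hk⟩ := mem_span_singleton.1 h
    have := indep_pair hv0 hne (-k - 1) k (by linear_combination (norm := module) hk)
    simp [this.2] at this
  have hx' : x ∉ span K ({R v - v} : Set V) := by
    intro h
    obtain ⟨k, hk⟩ := mem_span_singleton.1 h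
    have hk0 : k ≠ 0 := fun e => hx (by rw [← hk, e, zero_smul])
    exact hW (mem_span_singleton.2 ⟨k⁻¹, by rw [← hk, smul_smul, inv_mul_cancel₀ hk0, one_smul]⟩)
  obtain ⟨z1, hz1⟩ := hr (R v - v)
  obtain ⟨T, hT, hTbad⟩ : ∃ T : Submodule K D, T ≠ ⊤ ∧ ∀ φ : D, (φ : Dual K V) v = 1 → 3 ≤ finrank K V →
      BadSel R v (φ : Dual K V) → φ ∈ T := by
    have hfD : finrank K V ≤ finrank K D + 1 := by
      have h1 := (Dual.eval K V (v - R v)).finrank_range_add_finrank_ker
      have h2 := (LinearMap.range (Dual.eval K V (v - R v))).finrank_le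
      rw [Subspace.dual_finrank_eq] at h1
      rw [finrank_self] at h2
      rw [show D = LinearMap.ker (Dual.eval K V (v - R v)) from hD]
      omega
    by_cases hd3 : 3 ≤ finrank K V
    swap
    · refine ⟨⊥, fun h => ?_, fun φ _ h => absurd h hd3⟩
      have := congrArg (fun T : Submodule K D => finrank K T) h
      simp only [finrank_bot, finrank_top] at this
      omega
    have hK0 : ∃ z0, R z0 - z0 ∉ span K ({v, R v} : Set V) := by
      by_contra! hcon
      have hle : LinearMap.range N ≤ span K ({v, R v} : Set V) := by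
        rintro _ ⟨z, rfl⟩; exact hcon z
      have hU2 := finrank_pair_le (K := K) v (R v)
      have htop : LinearMap.range N ≠ ⊤ := fun h => by
        have := Submodule.finrank_mono hle
        rw [h, finrank_top] at this
        omega
      have hr2 : 2 ≤ finrank K (LinearMap.range N) := by
        by_contra h
        obtain ⟨l, hl⟩ : ∃ l : V, LinearMap.range N ≤ span K ({l} : Set V) := by
          by_cases hbot : LinearMap.range N = ⊥
          · exact ⟨0, by rw [hbot]; exact bot_le⟩
          obtain ⟨l, hl, hl0⟩ := Submodule.exists_mem_ne_zero_of_ne_bot hbot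
          refine ⟨l, le_of_eq (Submodule.eq_of_le_of_finrank_le ((span_singleton_le_iff_mem _ _).2 hl) ?_).symm⟩
          rw [finrank_span_singleton hl0]
          omega
        obtain ⟨w, hw⟩ := hr l
        exact hw (hl ⟨w, rfl⟩)
      have heq := Submodule.eq_of_le_of_finrank_le hle (by omega)
      exact hv2 (hrange htop (heq ▸ subset_span (by simp)))
    obtain ⟨φ₁, φ₂, h12, hbad⟩ := bad_line hinj hv0 hne hK0 hdet hd3
    refine ⟨(span K ({φ₁, φ₂} : Set (Dual K V))).comap D.subtype, fun h => ?_, fun φ h3 _ hb => ?_⟩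
    · have hle : D ≤ span K ({φ₁, φ₂} : Set (Dual K V)) := fun f hf => by
        have : (⟨f, hf⟩ : D) ∈ (span K ({φ₁, φ₂} : Set (Dual K V))).comap D.subtype := h ▸ mem_top
        exact this
      have h4 := Submodule.finrank_mono hle
      rcases h12 with rfl | h12
      · rw [Set.pair_eq_singleton] at h4
        have h5 : finrank K (span K ({φ₁} : Set (Dual K V))) ≤ 1 := by
          have := finrank_span_le_card (R := K) ({φ₁} : Set (Dual K V))
          simpa using this
        omega
      · have := finrank_pair_le (K := K) φ₁ φ₂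
        omega
    · exact hbad φ h3 (((hDa _).1 φ.2).symm.trans h3) hb
  obtain ⟨⟨φ, hφD⟩, hφ⟩ := exists_notMem_list (V := D) S [(LinearMap.ker (Dual.eval K V v)).comap D.subtype,
      (LinearMap.ker (Dual.eval K V x)).comap D.subtype, (LinearMap.ker N.dualMap).comap D.subtype, T] (by
    intro W hW'
    have proper : ∀ {W : Submodule K (Dual K V)}, (∃ f ∈ D, f ∉ W) → W.comap D.subtype ≠ ⊤ := by
      rintro W ⟨f, hf, hfW⟩ h
      exact hfW (show (⟨f, hf⟩ : D) ∈ W.comap D.subtype from h ▸ mem_top)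
    simp only [List.mem_cons, List.not_mem_nil, or_false] at hW'
    rcases hW' with rfl | rfl | rfl | rfl
    · refine proper ?_
      obtain ⟨f, hf, hne'⟩ := hsep v hv'
      exact ⟨f, hf, by simpa using hne'⟩
    · refine proper ?_
      obtain ⟨f, hf, hne'⟩ := hsep x hx'
      exact ⟨f, hf, by simpa using hne'⟩
    · refine proper ?_
      obtain ⟨f, hf, hne'⟩ := hsep _ hz1
      refine ⟨f, hf, fun h => hne' ?_⟩
      exact LinearMap.congr_fun (LinearMap.mem_ker.1 h) z1
    · exact hT) (by simp; omega)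
  simp only [List.mem_cons, List.not_mem_nil, or_false, forall_eq_or_imp, forall_eq, Submodule.mem_comap,
    LinearMap.mem_ker, Dual.eval_apply, Submodule.coe_subtype] at hφ
  obtain ⟨hφv, hφx, hφN, hφT⟩ := hφ
  set ψ : Dual K V := (φ v)⁻¹ • φ with hψ
  have hψD : ψ ∈ D := D.smul_mem _ hφD
  have hψv : ψ v = 1 := by simp [hψ, hφv]
  refine ⟨v, ψ, hψv, ((hDa ψ).1 hψD).symm.trans hψv, hRvv, ?_, ?_, hyv, fun hd hb => ?_⟩
  · by_contra! h
    refine hφN (LinearMap.ext fun w => ?_)
    have := h w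
    simp only [hψ, LinearMap.smul_apply, smul_eq_mul, mul_eq_mul_left_iff, inv_eq_zero, hφv, or_false] at this
    simp [hNa, this]
  · simp [hψ, hφx, hφv]
  · have := hTbad ⟨ψ, hψD⟩ hψv hd hb
    refine hφT ((T.smul_mem_iff (inv_ne_zero hφv)).1 ?_)
    exact this

end Cfsg.Agent.SLComm
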