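import Cfsg.Agent.Lib.SLComm.Monomial

/-!
# Lists of cyclic blocks

* `dcyc L` : the block diagonal sum of `Cyc h`, `h ∈ L`; `dcyc_cons`, `dcyc_append`, `dcyc_perm`, `dcyc_ofFn`;
* `exists_dcyc` : every endomorphism is one, with primary blocks;
* `GadL L D` and `BFac` : the criterion `gad_of_bfac` for lists of blocks;
* `sim_split` : block diagonal matrices.
-/

set_option autoImplicit false
set_option linter.style.haveILetI false
set_option linter.unusedVariables false

namespace Cfsg.Agent.SLComm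

open Polynomial Module Matrix

variable {F : Type*} [Field F]

/-- The block diagonal sum of the models of the members of `L`. -/
noncomputable def dcyc (L : List F[X]) : Module.End F (∀ i : Fin L.length, AdjoinRoot (L.get i)) :=
  LinearMap.pi fun i => (Cyc (L.get i)).comp (LinearMap.proj i)

theorem dcyc_cons (h : F[X]) (L : List F[X]) : Sim (dcyc (h :: L)) ((Cyc h).prodMap (dcyc L)) :=
  ⟨(Fin.consLinearEquiv F fun i => AdjoinRoot ((h :: L).get i)).symm, fun _ => rfl⟩

theorem dcyc_perm {L L' : List F[X]} (h : L.Perm L') : Sim (dcyc L) (dcyc L') := by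
  induction h with
  | nil => exact Sim.refl _
  | cons a _ ih => exact (dcyc_cons a _).trans (((Sim.refl _).prodMap ih).trans (dcyc_cons a _).symm)
  | swap a b l =>
    refine (dcyc_cons b _).trans (((Sim.refl _).prodMap (dcyc_cons a l)).trans ?_)
    refine ((sim_prod_assoc _ _ _).symm.trans (((sim_prod_comm _ _).prodMap (Sim.refl _)).trans
      ((sim_prod_assoc _ _ _).trans ?_)))
    exact ((Sim.refl _).prodMap (dcyc_cons b l).symm).trans (dcyc_cons a _).symm
  | trans _ _ ih ih' => exact ih.trans ih'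

theorem sim_of_subsingleton {V W : Type*} [AddCommGroup V] [Module F V] [AddCommGroup W] [Module F W]
    [Subsingleton V] (φ : Module.End F V) (ψ : Module.End F W) : Sim (φ.prodMap ψ) ψ :=
  ⟨{ toFun := Prod.snd, invFun := fun w => (0, w), map_add' := fun _ _ => rfl, map_smul' := fun _ _ => rfl,
     left_inv := fun x => Prod.ext (Subsingleton.elim _ _) rfl, right_inv := fun _ => rfl }, fun _ => rfl⟩

theorem dcyc_nil_prod {W : Type*} [AddCommGroup W] [Module F W] (ψ : Module.End F W) :
    Sim ((dcyc ([] : List F[X])).prodMap ψ) ψ := by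
  haveI : Subsingleton (∀ i : Fin ([] : List F[X]).length, AdjoinRoot (([] : List F[X]).get i)) :=
    ⟨fun a b => funext fun i => absurd i.isLt (by simp)⟩
  exact sim_of_subsingleton _ _

theorem dcyc_singleton (h : F[X]) : Sim (dcyc [h]) (Cyc h) :=
  (dcyc_cons h []).trans ((sim_prod_comm _ _).trans (dcyc_nil_prod _))

theorem dcyc_append (L L' : List F[X]) : Sim (dcyc (L ++ L')) ((dcyc L).prodMap (dcyc L')) := by
  induction L with
  | nil => exact (dcyc_nil_prod _).symm
  | cons a L ih =>
    exact (dcyc_cons a _).trans (((Sim.refl _).prodMap ih).trans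
      ((sim_prod_assoc _ _ _).symm.trans (((dcyc_cons a L).symm).prodMap (Sim.refl _))))

theorem dcyc_one_cons (L : List F[X]) : Sim (dcyc (1 :: L)) (dcyc L) := by
  haveI : Subsingleton (AdjoinRoot (1 : F[X])) := by
    refine ⟨fun a b => ?_⟩
    induction a using AdjoinRoot.induction_on with
    | _ p =>
      induction b using AdjoinRoot.induction_on with
      | _ q => exact AdjoinRoot.mk_eq_mk.2 (one_dvd _)
  exact (dcyc_cons 1 L).trans (sim_of_subsingleton _ _)

theorem dcyc_filter (L : List F[X]) (hL : ∀ h ∈ L, h.Monic) :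
    Sim (dcyc L) (dcyc (L.filter fun h => decide (h.natDegree ≠ 0))) := by
  induction L with
  | nil => exact Sim.refl _
  | cons a L ih =>
    have := ih fun h hh => hL h (List.mem_cons_of_mem _ hh)
    by_cases ha : a.natDegree = 0
    · rw [List.filter_cons_of_neg (by simpa using ha)]
      obtain rfl := ((hL a List.mem_cons_self).natDegree_eq_zero).1 ha
      exact (dcyc_one_cons L).trans this
    · rw [List.filter_cons_of_pos (by simpa using ha)]
      exact (dcyc_cons a _).trans (((Sim.refl _).prodMap this).trans (dcyc_cons a _).symm)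

theorem dcyc_ofFn {r : ℕ} {V : Fin r → Type*} [∀ i, AddCommGroup (V i)] [∀ i, Module F (V i)]
    (φ : ∀ i, Module.End F (V i)) (h : Fin r → F[X]) (hs : ∀ i, Sim (φ i) (Cyc (h i))) :
    Sim (LinearMap.pi fun i => (φ i).comp (LinearMap.proj i) : Module.End F (∀ i, V i)) (dcyc (List.ofFn h)) := by
  induction r with
  | zero =>
    rw [List.ofFn_zero]
    exact ⟨{ toFun := fun _ => fun i => absurd i.isLt (by simp), invFun := fun _ => fun i => i.elim0,
             map_add' := fun _ _ => funext fun i => absurd i.isLt (by simp),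
             map_smul' := fun _ _ => funext fun i => absurd i.isLt (by simp),
             left_inv := fun _ => funext fun i => i.elim0,
             right_inv := fun _ => funext fun i => absurd i.isLt (by simp) },
      fun _ => funext fun i => absurd i.isLt (by simp)⟩
  | succ r ih =>
    rw [List.ofFn_succ]
    refine Sim.trans ?_ (((hs 0).prodMap (ih (V := fun i => V i.succ) (fun i => φ i.succ) (fun i => h i.succ)
      fun i => hs i.succ)).trans (dcyc_cons _ _).symm)
    exact ⟨(Fin.consLinearEquiv F V).symm, fun _ => rfl⟩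

theorem det_dcyc {L : List F[X]} (hL : ∀ h ∈ L, h.Monic) :
    LinearMap.det (dcyc L) = (L.map fun h => (-1) ^ h.natDegree * h.coeff 0).prod := by
  induction L with
  | nil =>
    rw [show dcyc ([] : List F[X]) = 1 from LinearMap.ext fun v => funext fun i => absurd i.isLt (by simp)]
    simp
  | cons a L ih =>
    have ha := hL a List.mem_cons_self
    have hL' : ∀ h ∈ L, h.Monic := fun h hh => hL h (List.mem_cons_of_mem _ hh)
    haveI := ha.finite_adjoinRoot
    haveI : ∀ i, Module.Finite F (AdjoinRoot (L.get i)) := fun i => (hL' _ (L.get_mem i)).finite_adjoinRoot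
    rw [(dcyc_cons a L).det_eq, det_prodMap', det_Cyc ha, ih hL', List.map_cons, List.prod_cons]

theorem finite_dcyc {L : List F[X]} (hL : ∀ h ∈ L, h.Monic) :
    Module.Finite F (∀ i : Fin L.length, AdjoinRoot (L.get i)) :=
  haveI : ∀ i, Module.Finite F (AdjoinRoot (L.get i)) := fun i => (hL _ (L.get_mem i)).finite_adjoinRoot
  inferInstance

/-! ### Decomposition -/

theorem sim_quot {p : F[X]} (hp : Irreducible p) (e : ℕ) :
    Sim ((DistribMulAction.toModuleEnd F (F[X] ⧸ (F[X] ∙ p ^ e)) (X : F[X])))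
      (Cyc ((p * C p.leadingCoeff⁻¹) ^ e)) := by
  have hspan : (F[X] ∙ p ^ e) = Ideal.span {(p * C p.leadingCoeff⁻¹) ^ e} := by
    refine Ideal.span_singleton_eq_span_singleton.2 ((associated_mul_unit_right p _ ?_).pow_pow)
    exact isUnit_C.2 (inv_ne_zero (leadingCoeff_ne_zero.2 hp.ne_zero)).isUnit
  refine ⟨((Submodule.quotEquivOfEq _ _ hspan).restrictScalars F), fun v => ?_⟩
  induction v using Quotient.inductionOn' with
  | _ G => rfl

/-- Every endomorphism is similar to a sum of primary cyclic blocks. -/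
theorem exists_dcyc {V : Type*} [AddCommGroup V] [Module F V] [Module.Finite F V] (φ : Module.End F V) :
    ∃ L : List F[X], (∀ h ∈ L, ∃ (P : F[X]) (e : ℕ), Irreducible P ∧ P.Monic ∧ 0 < e ∧ h = P ^ e) ∧
      Sim φ (dcyc L) := by
  classical
  haveI : Module.Finite F[X] (Module.AEval' φ) := Module.Finite.of_restrictScalars_finite F F[X] _
  obtain ⟨ι, hι, p, hp, e, ⟨E⟩⟩ :=
    Module.equiv_directSum_of_isTorsion (Module.AEval.isTorsion_of_finiteDimensional F V φ)
  let σ := Fintype.equivFin ι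
  set g : Fin (Fintype.card ι) → F[X] := fun j => (p (σ.symm j) * C (p (σ.symm j)).leadingCoeff⁻¹) ^ e (σ.symm j)
  have hgm : ∀ j, (g j).Monic := fun j => (monic_mul_leadingCoeff_inv (hp _).ne_zero).pow _
  refine ⟨(List.ofFn g).filter fun h => decide (h.natDegree ≠ 0), fun h hh => ?_, ?_⟩
  · obtain ⟨hh, hd⟩ := List.mem_filter.1 hh
    obtain ⟨j, rfl⟩ := List.mem_ofFn.1 hh
    refine ⟨_, e (σ.symm j), irreducible_mul_leadingCoeff_inv.2 (hp (σ.symm j)),
      monic_mul_leadingCoeff_inv (hp _).ne_zero, ?_, rfl⟩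
    rcases Nat.eq_zero_or_pos (e (σ.symm j)) with h0 | h0
    · simp [g, h0] at hd
    · exact h0
  refine Sim.trans ?_ (dcyc_filter _ fun h hh => by obtain ⟨j, rfl⟩ := List.mem_ofFn.1 hh; exact hgm j)
  refine Sim.trans ?_ (dcyc_ofFn (fun j => DistribMulAction.toModuleEnd F
    (F[X] ⧸ (F[X] ∙ p (σ.symm j) ^ e (σ.symm j))) (X : F[X])) g fun j => sim_quot (hp _) _)
  refine ⟨((Module.AEval'.of φ).trans ((E.trans (DirectSum.linearEquivFunOnFintype F[X] ι _)).restrictScalars F)).trans
    (LinearEquiv.piCongrLeft' F _ σ), fun v => funext fun j => ?_⟩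
  show (E (Module.AEval'.of φ (φ v))) (σ.symm j) = (X : F[X]) • (E (Module.AEval'.of φ v)) (σ.symm j)
  rw [← Module.AEval'.X_smul_of, map_smul, DirectSum.smul_apply]

/-! ### Commutators of lists of blocks -/

/-- The list of blocks is a commutator with determinants `D` and one. -/
def GadL (L : List F[X]) (D : F) : Prop := Gad (dcyc L) D

theorem GadL.perm {L L' : List F[X]} {D : F} (h : GadL L D) (hp : L'.Perm L) : GadL L' D :=
  Gad.sim h (dcyc_perm hp)

theorem GadL.append {L L' : List F[X]} {D D' : F} (hL : ∀ h ∈ L, h.Monic) (hL' : ∀ h ∈ L', h.Monic)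
    (h : GadL L D) (h' : GadL L' D') : GadL (L ++ L') (D * D') :=
  haveI := finite_dcyc hL
  haveI := finite_dcyc hL'
  Gad.sim (Gad.prod h h') (dcyc_append L L')

theorem GadL.of_cyc {h : F[X]} {D : F} (hg : Gad (Cyc h) D) : GadL [h] D :=
  Gad.sim hg (dcyc_singleton h)

theorem gad_one {V : Type*} [AddCommGroup V] [Module F V] : Gad (1 : Module.End F V) 1 :=
  ⟨1, 1, by simp, by simp, by simp⟩

theorem gadL_nil : GadL ([] : List F[X]) 1 := by
  unfold GadL
  rw [show dcyc ([] : List F[X]) = 1 from LinearMap.ext fun v => funext fun i => absurd i.isLt (by simp)]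
  exact gad_one

theorem gadL_line : GadL [(X - C (1 : F))] 1 := by
  refine GadL.of_cyc (Gad.sim ?_ (sim_Cyc_linear 1))
  rw [one_smul]
  exact gad_one

theorem dcyc_merge {f g : F[X]} (hf : f.Monic) (hg : g.Monic) (hc : IsCoprime f g) (L : List F[X]) :
    Sim (dcyc (f :: g :: L)) (dcyc (f * g :: L)) :=
  (dcyc_cons f _).trans (((Sim.refl _).prodMap (dcyc_cons g L)).trans ((sim_prod_assoc _ _ _).symm.trans
    (((cyc_mul_sim hf hg hc).symm.prodMap (Sim.refl _)).trans (dcyc_cons _ L).symm)))

theorem GadL.merge {f g : F[X]} (hf : f.Monic) (hg : g.Monic) (hc : IsCoprime f g) {L : List F[X]} {D : F}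
    (h : GadL (f * g :: L) D) : GadL (f :: g :: L) D :=
  Gad.sim h (dcyc_merge hf hg hc L)

/-- Factorisation up to similarity. -/
def BFac {U V W : Type*} [AddCommGroup U] [Module F U] [AddCommGroup V] [Module F V] [AddCommGroup W] [Module F W]
    (φ : Module.End F U) (χ : Module.End F V) (ψ : Module.End F W) : Prop :=
  ∃ (n : ℕ) (A : Module.End F (Fin n → F)) (Y : (Module.End F (Fin n → F))ˣ),
    Sim A χ ∧ Sim φ (A * (Y : Module.End F (Fin n → F))) ∧
      Sim ((Y⁻¹ : (Module.End F (Fin n → F))ˣ) : Module.End F (Fin n → F)) ψ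

section BFac

variable {U V W U' V' W' : Type*} [AddCommGroup U] [Module F U] [AddCommGroup V] [Module F V] [AddCommGroup W]
  [Module F W] [AddCommGroup U'] [Module F U'] [AddCommGroup V'] [Module F V'] [AddCommGroup W'] [Module F W']
  {φ : Module.End F U} {χ : Module.End F V} {ψ : Module.End F W}
  {φ' : Module.End F U'} {χ' : Module.End F V'} {ψ' : Module.End F W'}

theorem Fac.bfac {h f g : F[X]} (hf : Fac h f g) : BFac (Cyc h) (Cyc f) (Cyc g) := hf

theorem BFac.sim (h : BFac φ χ ψ) (h1 : Sim φ' φ) (h2 : Sim χ χ') (h3 : Sim ψ ψ') : BFac φ' χ' ψ' := by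
  obtain ⟨n, A, Y, a, b, c⟩ := h
  exact ⟨n, A, Y, a.trans h2, h1.trans b, c.trans h3⟩

theorem BFac.prod (h : BFac φ χ ψ) (h' : BFac φ' χ' ψ') :
    BFac (φ.prodMap φ') (χ.prodMap χ') (ψ.prodMap ψ') := by
  obtain ⟨n, A, Y, a, b, c⟩ := h
  obtain ⟨m, A', Y', a', b', c'⟩ := h'
  let e : (Fin (n + m) → F) ≃ₗ[F] (Fin n → F) × (Fin m → F) :=
    (LinearEquiv.funCongrLeft F F finSumFinEquiv).trans (LinearEquiv.sumArrowLequivProdArrow (Fin n) (Fin m) F F)
  let U0 : (Module.End F (Fin (n + m) → F))ˣ := Units.map e.symm.conjRingEquiv.toMonoidHom (prodU Y Y')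
  have hU : Sim (U0 : Module.End F (Fin (n + m) → F)) (Y.1.prodMap Y'.1) := ⟨e, fun v => by
    show e (e.symm ((prodU Y Y').1 (e v))) = _
    rw [e.apply_symm_apply]; rfl⟩
  have hA : Sim (e.symm.conjRingEquiv (A.prodMap A')) (A.prodMap A') := ⟨e, fun v => by
    show e (e.symm ((A.prodMap A') (e v))) = _
    rw [e.apply_symm_apply]⟩
  refine ⟨n + m, e.symm.conjRingEquiv (A.prodMap A'), U0, hA.trans (a.prodMap a'), ?_, ?_⟩
  · refine (b.prodMap b').trans (Sim.symm ⟨e, fun v => ?_⟩)
    show e (e.symm ((A.prodMap A') (e (e.symm ((prodU Y Y').1 (e v)))))) = _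
    rw [e.apply_symm_apply, e.apply_symm_apply]
    rfl
  · refine Sim.trans ?_ (c.prodMap c')
    exact (Sim.inv (b := prodU Y Y') hU)

theorem gad_of_bfac [Module.Finite F W] (h : BFac φ χ ψ) (hs : Sim χ ψ) (hd : LinearMap.det χ ≠ 0)
    (hc : CentSurj χ) : Gad φ (LinearMap.det χ) := by
  obtain ⟨n, A, Y, a, b, c⟩ := h
  rw [← a.det_eq] at hd ⊢
  exact gad_of_factor hd b (c.trans (hs.symm.trans a.symm)) (hc.sim a)

end BFac

theorem BFac.cons {h : F[X]} {L fs gs F1 G1 : List F[X]} (h1 : BFac (Cyc h) (dcyc F1) (dcyc G1))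
    (h2 : BFac (dcyc L) (dcyc fs) (dcyc gs)) : BFac (dcyc (h :: L)) (dcyc (F1 ++ fs)) (dcyc (G1 ++ gs)) :=
  (h1.prod h2).sim (dcyc_cons h L) (dcyc_append F1 fs).symm (dcyc_append G1 gs).symm

theorem bfac_nil : BFac (dcyc ([] : List F[X])) (dcyc ([] : List F[X])) (dcyc ([] : List F[X])) := by
  have h : Sim (1 : Module.End F (Fin 0 → F)) (dcyc ([] : List F[X])) :=
    ⟨{ toFun := fun _ => fun i => absurd i.isLt (by simp), invFun := fun _ => 0,
       map_add' := fun _ _ => funext fun i => absurd i.isLt (by simp),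
       map_smul' := fun _ _ => funext fun i => absurd i.isLt (by simp),
       left_inv := fun _ => funext fun i => i.elim0,
       right_inv := fun _ => funext fun i => absurd i.isLt (by simp) },
      fun _ => funext fun i => absurd i.isLt (by simp)⟩
  exact ⟨0, 1, 1, h, by simpa using h.symm, by simpa using h⟩

/-- Two coprime factors of the polynomial of a block. -/
theorem sim_cyc_pair {f g : F[X]} (hf : f.Monic) (hg : g.Monic) (hc : IsCoprime f g) :
    Sim (Cyc (f * g)) (dcyc [f, g]) :=
  (dcyc_singleton (f * g)).symm.trans (dcyc_merge hf hg hc []).symm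

theorem centSurj_dcyc_line {c : F} {L : List F[X]} (hm : ∀ h ∈ L, h.Monic) (h : (X - C c) ∈ L) :
    CentSurj (dcyc L) := by
  classical
  haveI := (monic_X_sub_C c).finite_adjoinRoot
  haveI := finite_dcyc (L := L.erase (X - C c)) fun p hp => hm p (List.mem_of_mem_erase hp)
  exact ((centSurj_line c).prod_left (dcyc (L.erase (X - C c)))).sim
    ((dcyc_perm (List.perm_cons_erase h)).trans (dcyc_cons _ _))

/-- A block diagonal matrix. -/
theorem sim_split {a b : ℕ} (M : Matrix (Fin (a + b)) (Fin (a + b)) F) (A : Matrix (Fin a) (Fin a) F)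
    (B : Matrix (Fin b) (Fin b) F) (hA : ∀ i j, M (Fin.castAdd b i) (Fin.castAdd b j) = A i j)
    (hB : ∀ i j, M (Fin.natAdd a i) (Fin.natAdd a j) = B i j)
    (h0 : ∀ i j, M (Fin.castAdd b i) (Fin.natAdd a j) = 0 ∧ M (Fin.natAdd a j) (Fin.castAdd b i) = 0) :
    Sim (Matrix.toLin' M) ((Matrix.toLin' A).prodMap (Matrix.toLin' B)) := by
  let e : (Fin (a + b) → F) ≃ₗ[F] (Fin a → F) × (Fin b → F) :=
    (LinearEquiv.funCongrLeft F F finSumFinEquiv).trans (LinearEquiv.sumArrowLequivProdArrow (Fin a) (Fin b) F F)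
  refine ⟨e, fun v => ?_⟩
  refine Prod.ext (funext fun i => ?_) (funext fun i => ?_)
  · show (M *ᵥ v) (Fin.castAdd b i) = (A *ᵥ fun j => v (Fin.castAdd b j)) i
    simp only [Matrix.mulVec, dotProduct, Fin.sum_univ_add, hA, (h0 _ _).1, zero_mul, Finset.sum_const_zero,
      add_zero]
  · show (M *ᵥ v) (Fin.natAdd a i) = (B *ᵥ fun j => v (Fin.natAdd a j)) i
    simp only [Matrix.mulVec, dotProduct, Fin.sum_univ_add, hB, (h0 _ i).2, zero_mul, Finset.sum_const_zero,
      zero_add]

end Cfsg.Agent.SLComm
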