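import Cfsg.Agent.EqLemmas
import Mathlib.GroupTheory.GroupAction.Quotient
import Mathlib.GroupTheory.QuotientGroup.Basic
import Mathlib.Algebra.Group.Conj

/-!
# Classes of the quotient by the centre

* `card_center_mul_classes` : `|Z| k(G/Z)` is the sum over `z ∈ Z` of the number of classes fixed by `z`.
-/

set_option autoImplicit false
set_option linter.style.haveILetI false
set_option linter.unusedVariables false

namespace Cfsg.Agent.SLComm

variable {G : Type*} [Group G]

/-- A central element moves conjugacy classes. -/
def cmulClass (z : Subgroup.center G) : ConjClasses G → ConjClasses G :=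
  Quotient.map (fun g => (z : G) * g) fun a b h => by
    obtain ⟨x, hx⟩ := isConj_iff.1 (show IsConj a b from h)
    refine isConj_iff.2 ⟨x, ?_⟩
    show x * ((z : G) * a) * x⁻¹ = (z : G) * b
    rw [← mul_assoc, Subgroup.mem_center_iff.1 z.2 x, ← hx]
    simp only [mul_assoc]

theorem cmulClass_mk (z : Subgroup.center G) (g : G) :
    cmulClass z (ConjClasses.mk g) = ConjClasses.mk ((z : G) * g) := rfl

/-- The action of the centre on the conjugacy classes. -/
@[reducible] def centerClassAction : MulAction (Subgroup.center G) (ConjClasses G) where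
  smul := cmulClass
  one_smul c := by
    induction c using Quotient.inductionOn with
    | _ g => exact congrArg ConjClasses.mk (one_mul g)
  mul_smul a b c := by
    induction c using Quotient.inductionOn with
    | _ g => exact congrArg ConjClasses.mk (mul_assoc _ _ g)

theorem card_center_mul_classes [Finite G] [Fintype (Subgroup.center G)] :
    Nat.card (Subgroup.center G) * Nat.card (ConjClasses (G ⧸ Subgroup.center G)) =
      ∑ z : Subgroup.center G, Nat.card {c : ConjClasses G // cmulClass z c = c} := by
  classical
  letI := centerClassAction (G := G)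
  haveI : ∀ z : Subgroup.center G, Finite (MulAction.fixedBy (ConjClasses G) z) := fun z => Subtype.finite
  have h := Nat.card_congr (MulAction.sigmaFixedByEquivOrbitsProdGroup (Subgroup.center G) (ConjClasses G))
  rw [Nat.card_sigma, Nat.card_prod] at h
  have hf : ∀ z : Subgroup.center G, Nat.card (MulAction.fixedBy (ConjClasses G) z) =
      Nat.card {c : ConjClasses G // cmulClass z c = c} := fun z => rfl
  simp only [hf] at h
  rw [h, mul_comm]
  congr 1
  let p : ConjClasses G → ConjClasses (G ⧸ Subgroup.center G) := ConjClasses.map (QuotientGroup.mk' _)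
  have hp : ∀ a b, (MulAction.orbitRel (Subgroup.center G) (ConjClasses G)) a b ↔ p a = p b := by
    intro a b
    induction a using Quotient.inductionOn with
    | _ a =>
    induction b using Quotient.inductionOn with
    | _ b =>
    show (∃ z : Subgroup.center G, cmulClass z (ConjClasses.mk b) = ConjClasses.mk a) ↔
      ConjClasses.mk (a : G ⧸ Subgroup.center G) = ConjClasses.mk (b : G ⧸ Subgroup.center G)
    simp only [cmulClass_mk, ConjClasses.mk_eq_mk_iff_isConj]
    constructor
    · rintro ⟨z, hz⟩
      obtain ⟨x, hx⟩ := isConj_iff.1 hz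
      have : (((z : G) * b : G) : G ⧸ Subgroup.center G) = (b : G ⧸ Subgroup.center G) := by
        rw [QuotientGroup.mk_mul, (QuotientGroup.eq_one_iff _).2 z.2, one_mul]
      refine (isConj_iff.2 ⟨(x : G ⧸ Subgroup.center G), ?_⟩).symm
      rw [← hx, QuotientGroup.mk_mul, QuotientGroup.mk_mul, QuotientGroup.mk_inv, this]
    · intro hab
      obtain ⟨y, hy⟩ := isConj_iff.1 hab
      obtain ⟨x, rfl⟩ := QuotientGroup.mk_surjective y
      rw [← QuotientGroup.mk_inv, ← QuotientGroup.mk_mul, ← QuotientGroup.mk_mul, QuotientGroup.eq] at hy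
      -- `(x a x⁻¹)⁻¹ * b` is central
      refine ⟨⟨((x * a * x⁻¹)⁻¹ * b)⁻¹, Subgroup.inv_mem _ hy⟩, (isConj_iff.2 ⟨x, ?_⟩).symm⟩
      show x * a * x⁻¹ = ((x * a * x⁻¹)⁻¹ * b)⁻¹ * b
      rw [← Subgroup.mem_center_iff.1 (Subgroup.inv_mem _ hy) b]
      group
  refine Nat.card_congr ?_
  refine (Equiv.ofBijective (Quotient.lift p fun a b hab => (hp a b).1 hab) ⟨?_, ?_⟩).symm
  · intro u v
    induction u using Quotient.inductionOn with
    | _ a =>
    induction v using Quotient.inductionOn with
    | _ b => exact fun e => Quotient.sound ((hp a b).2 e)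
  · intro v
    obtain ⟨a, ha⟩ := ConjClasses.map_surjective (QuotientGroup.mk'_surjective _) v
    exact ⟨Quotient.mk _ a, ha⟩

end Cfsg.Agent.SLComm
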