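import Cfsg.Agent.Lib.SLComm.Cyc
import Mathlib.LinearAlgebra.Matrix.Charpoly.Coeff
import Mathlib.LinearAlgebra.Charpoly.ToMatrix

/-!
# Products of a companion matrix and a block triangular matrix

`core`: for monic `f` of degree `m + 1`, an invertible `T` satisfying the observability condition `Obs` and
`e ≠ 0`, the last column `y` can be chosen such that `cm f * extM T y e` is similar to `Cyc h`, for each
monic `h` with the right constant term; `core_trace` gives the last coordinate of `y`.
-/

set_option autoImplicit false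
set_option linter.style.haveILetI false

namespace Cfsg.Agent.SLComm

open Polynomial Module Matrix

variable {F : Type*} [Field F]

/-- Companion matrix of a monic polynomial of degree `m + 1`. -/
def cm {m : ℕ} (f : F[X]) : Matrix (Fin (m + 1)) (Fin (m + 1)) F :=
  Matrix.of fun i j =>
    Fin.lastCases (motive := fun _ => F) (-f.coeff i) (fun j' => if i = j'.succ then 1 else 0) j

theorem cm_last {m : ℕ} (f : F[X]) (i : Fin (m + 1)) : cm f i (Fin.last m) = -f.coeff i := by simp [cm]

theorem cm_castSucc {m : ℕ} (f : F[X]) (i : Fin (m + 1)) (j : Fin m) :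
    cm f i j.castSucc = if i = j.succ then 1 else 0 := by simp [cm]

theorem cm_mul_zero {m : ℕ} (f : F[X]) (M : Matrix (Fin (m + 1)) (Fin (m + 1)) F) (j : Fin (m + 1)) :
    (cm (m := m) f * M) 0 j = -f.coeff 0 * M (Fin.last m) j := by
  simp [Matrix.mul_apply, Fin.sum_univ_castSucc, cm_castSucc, cm_last, (Fin.succ_ne_zero _).symm]

theorem cm_mul_succ {m : ℕ} (f : F[X]) (M : Matrix (Fin (m + 1)) (Fin (m + 1)) F) (i : Fin m) (j : Fin (m + 1)) :
    (cm (m := m) f * M) i.succ j = M i.castSucc j + -f.coeff (i.val + 1) * M (Fin.last m) j := by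
  rw [Matrix.mul_apply, Fin.sum_univ_castSucc, Finset.sum_eq_single i]
  · simp [cm_castSucc, cm_last]
  · intro k _ hk
    simp [cm_castSucc, hk.symm]
  · simp

theorem cm_mulVec_single {m : ℕ} (f : F[X]) (j : Fin m) :
    cm f *ᵥ Pi.single j.castSucc 1 = Pi.single j.succ 1 := by
  ext i
  rw [Matrix.mulVec_single_one, Matrix.col_apply, cm_castSucc, Pi.single_apply]

theorem cm_mulVec_last {m : ℕ} (f : F[X]) :
    cm f *ᵥ Pi.single (Fin.last m) 1 = fun i : Fin (m + 1) => -f.coeff i := by
  ext i
  rw [Matrix.mulVec_single_one, Matrix.col_apply, cm_last]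

theorem single_span {n : ℕ} {S : Submodule F (Fin n → F)} (h : ∀ i, Pi.single i (1 : F) ∈ S) : S = ⊤ := by
  rw [eq_top_iff, ← (Pi.basisFun F (Fin n)).span_eq, Submodule.span_le]
  rintro _ ⟨i, rfl⟩
  simpa using h i

theorem sim_cm {m : ℕ} {f : F[X]} (hf : f.Monic) (hd : f.natDegree = m + 1) :
    Sim (Matrix.toLin' (cm (m := m) f)) (Cyc f) := by
  set φ := Matrix.toLin' (cm (m := m) f) with hφ
  have hpow : ∀ j : Fin (m + 1), (φ ^ j.val) (Pi.single 0 1) = Pi.single j 1 := by
    intro j
    induction j using Fin.induction with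
    | zero => simp
    | succ j ih =>
      rw [Fin.val_succ, pow_succ', Module.End.mul_apply]
      rw [Fin.val_castSucc] at ih
      rw [ih, hφ, Matrix.toLin'_apply, cm_mulVec_single]
  refine sim_cyc (v := Pi.single 0 1) hf (by simp [hd]) (single_span fun i => ?_) ?_
  · exact mem_cspan.2 ⟨X ^ i.val, by rw [aeval_X_pow, hpow]⟩
  · rw [aeval_eq_sum_range, hd, Finset.sum_range_succ, LinearMap.add_apply, LinearMap.sum_apply,
      Finset.sum_range]
    simp only [LinearMap.smul_apply, hpow]
    rw [show f.coeff (m + 1) = 1 by rw [← hd]; exact hf.coeff_natDegree, one_smul, pow_succ',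
      Module.End.mul_apply]
    have hlast := hpow (Fin.last m)
    rw [Fin.val_last] at hlast
    rw [hlast, hφ, Matrix.toLin'_apply, cm_mulVec_last]
    ext i
    simp [Pi.single_apply]

theorem det_cm {m : ℕ} {f : F[X]} (hf : f.Monic) (hd : f.natDegree = m + 1) :
    (cm (m := m) f).det = (-1) ^ (m + 1) * f.coeff 0 := by
  rw [← LinearMap.det_toLin', (sim_cm hf hd).det_eq, det_Cyc hf, hd]

/-- The matrix with rows `(0, …, 0, c)` and `(T i, z i)`. -/
def hM {m : ℕ} (T : Matrix (Fin m) (Fin m) F) (c : F) (z : Fin m → F) : Matrix (Fin (m + 1)) (Fin (m + 1)) F :=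
  Matrix.of (Fin.cases (Fin.snoc (fun _ => 0) c) fun i => Fin.snoc (T i) (z i))

/-- The block triangular matrix `[[T, y], [0, e]]`. -/
def extM {m : ℕ} (T : Matrix (Fin m) (Fin m) F) (y : Fin m → F) (e : F) : Matrix (Fin (m + 1)) (Fin (m + 1)) F :=
  Matrix.of (Fin.snoc (α := fun _ => Fin (m + 1) → F) (fun i => Fin.snoc (T i) (y i)) (Fin.snoc (fun _ => 0) e))

theorem cm_mul_extM {m : ℕ} (f : F[X]) (T : Matrix (Fin m) (Fin m) F) (y : Fin m → F) (e : F) :
    cm f * extM T y e = hM T (-f.coeff 0 * e) fun i => y i + -f.coeff (i.val + 1) * e := by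
  ext i j
  induction i using Fin.cases with
  | zero =>
    rw [cm_mul_zero]
    induction j using Fin.lastCases with
    | last => simp [hM, extM]
    | cast j => simp [hM, extM]
  | succ i =>
    rw [cm_mul_succ]
    induction j using Fin.lastCases with
    | last => simp [hM, extM]
    | cast j => simp [hM, extM]

theorem det_hM {m : ℕ} (T : Matrix (Fin m) (Fin m) F) (c : F) (z : Fin m → F) :
    (hM T c z).det = (-1) ^ m * c * T.det := by
  rw [Matrix.det_succ_row_zero, Finset.sum_eq_single (Fin.last m)]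
  · have hsub : (hM T c z).submatrix Fin.succ (Fin.last m).succAbove = T := by
      ext i j
      simp [hM, Fin.succAbove_last]
    rw [hsub]
    simp [hM]
  · intro j _ hj
    obtain ⟨j, rfl⟩ := Fin.exists_castSucc_eq.2 hj
    simp [hM]
  · simp

/-- Observability of the last coordinate. -/
def Obs {m : ℕ} (T : Matrix (Fin m) (Fin m) F) (c : F) : Prop :=
  ∀ S : Submodule F (Fin (m + 1) → F), Pi.single (Fin.last m) (1 : F) ∈ S →
    (∀ w ∈ S, w ᵥ* hM T c 0 ∈ S) → S = ⊤

theorem Sim.transpose {n n' : ℕ} {A : Matrix (Fin n) (Fin n) F} {B : Matrix (Fin n') (Fin n') F}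
    (h : Sim (Matrix.toLin' A) (Matrix.toLin' B)) : Sim (Matrix.toLin' Bᵀ) (Matrix.toLin' Aᵀ) := by
  obtain ⟨e, he⟩ := h
  set P := LinearMap.toMatrix' e.toLinearMap with hP
  set Q := LinearMap.toMatrix' e.symm.toLinearMap with hQ
  have h1 : Q * P = 1 := by
    rw [hP, hQ, ← LinearMap.toMatrix'_comp]; simp
  have h2 : P * Q = 1 := by
    rw [hP, hQ, ← LinearMap.toMatrix'_comp]; simp
  have h3 : P * A = B * P := by
    have := congrArg LinearMap.toMatrix'
      (LinearMap.ext he : e.toLinearMap.comp (Matrix.toLin' A) = (Matrix.toLin' B).comp e.toLinearMap)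
    rwa [LinearMap.toMatrix'_comp, LinearMap.toMatrix'_comp, LinearMap.toMatrix'_toLin',
      LinearMap.toMatrix'_toLin'] at this
  refine ⟨Matrix.toLin'OfInv (M := Qᵀ) (M' := Pᵀ) (by rw [← Matrix.transpose_mul, h2, Matrix.transpose_one])
    (by rw [← Matrix.transpose_mul, h1, Matrix.transpose_one]), fun v => ?_⟩
  show Matrix.toLin' Pᵀ (Matrix.toLin' Bᵀ v) = Matrix.toLin' Aᵀ (Matrix.toLin' Pᵀ v)
  rw [← Matrix.toLin'_mul_apply, ← Matrix.toLin'_mul_apply, ← Matrix.transpose_mul, ← Matrix.transpose_mul, h3]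

/-- The transpose of a companion matrix is cyclic. -/
theorem sim_cm_transpose {m : ℕ} {f : F[X]} (hf : f.Monic) (hd : f.natDegree = m + 1) :
    Sim (Matrix.toLin' (cm (m := m) f)ᵀ) (Cyc f) := by
  have key : ∀ i : Fin m, (cm f)ᵀ *ᵥ Pi.single i.succ 1 =
      Pi.single i.castSucc 1 + (-f.coeff (i.val + 1)) • Pi.single (Fin.last m) 1 := fun i => by
    ext j
    rw [Matrix.mulVec_single_one, Matrix.col_apply, Matrix.transpose_apply]
    induction j using Fin.lastCases with
    | last => simp [cm_last]
    | cast j => simp [cm_castSucc, Pi.single_apply, eq_comm]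
  have hspan : cspan (Matrix.toLin' (cm (m := m) f)ᵀ) (Pi.single (Fin.last m) 1) = ⊤ := by
    refine single_span fun i => ?_
    induction i using Fin.reverseInduction with
    | last => exact self_mem_cspan _ _
    | cast i ih =>
      have h1 := map_mem_cspan _ ih
      rw [Matrix.toLin'_apply, key] at h1
      simpa using Submodule.sub_mem _ h1 (Submodule.smul_mem _ (-f.coeff (i.val + 1)) (self_mem_cspan _ _))
  have h := sim_cyc_charpoly hspan
  rwa [Matrix.charpoly_toLin', Matrix.charpoly_transpose, ← Matrix.charpoly_toLin',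
    show (Matrix.toLin' (cm (m := m) f)).charpoly = f from by
      haveI := hf.finite_adjoinRoot
      rw [(sim_cm hf hd).charpoly_eq, charpoly_Cyc hf]] at h

theorem coeff_iterate_divX (h : F[X]) (n i : ℕ) : (divX^[n] h).coeff i = h.coeff (n + i) := by
  induction n generalizing i with
  | zero => simp
  | succ n ih => rw [Function.iterate_succ_apply', coeff_divX, ih, add_assoc, add_comm i 1]

theorem divX_succ (h : F[X]) (n : ℕ) : divX^[n] h = X * divX^[n + 1] h + C (h.coeff n) := by
  rw [Function.iterate_succ_apply']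
  conv_lhs => rw [← X_mul_divX_add (divX^[n] h)]
  rw [coeff_iterate_divX, add_zero]

theorem divX_top {h : F[X]} (hm : h.Monic) : divX^[h.natDegree] h = 1 := by
  ext i
  rw [coeff_iterate_divX, coeff_one]
  rcases Nat.eq_zero_or_pos i with rfl | hi
  · simp [hm]
  · rw [if_neg hi.ne', coeff_eq_zero_of_natDegree_lt (by omega)]

/-- Pole placement through the last column. -/
theorem place {m : ℕ} {T : Matrix (Fin m) (Fin m) F} {c : F} (hobs : Obs T c) (hT : T.det ≠ 0)
    {h : F[X]} (hm : h.Monic) (hd : h.natDegree = m + 1)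
    (hdet : (-1) ^ (m + 1) * h.coeff 0 = (-1) ^ m * c * T.det) :
    ∃ z, Sim (Matrix.toLin' (hM T c z)) (Cyc h) := by
  haveI := hm.finite_adjoinRoot
  set v : Fin (m + 1) → F := Pi.single (Fin.last m) 1 with hv
  set φ₀ := (hM T c 0).vecMulLinear with hφ₀
  set χ := φ₀.charpoly with hχ
  have hχd : χ.natDegree = m + 1 := by rw [hχ, LinearMap.charpoly_natDegree, Module.finrank_fin_fun]
  set q : ℕ → (Fin (m + 1) → F) := fun j => aeval φ₀ (divX^[m + 1 - j] χ) v with hq
  have hq0 : q 0 = v := by
    show aeval φ₀ (divX^[m + 1 - 0] χ) v = v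
    have e1 := divX_top φ₀.charpoly_monic
    rw [show φ₀.charpoly.natDegree = m + 1 from hχd] at e1
    rw [Nat.sub_zero, e1, map_one, Module.End.one_apply]
  have hqk : q (m + 1) = 0 := by
    show aeval φ₀ (divX^[m + 1 - (m + 1)] χ) v = 0
    rw [Nat.sub_self, Function.iterate_zero_apply, hχ, φ₀.aeval_self_charpoly]; rfl
  have hstep : ∀ j < m + 1, q (j + 1) = φ₀ (q j) + χ.coeff (m - j) • v := by
    intro j hj
    show aeval φ₀ (divX^[m + 1 - (j + 1)] χ) v = _
    rw [divX_succ, show m + 1 - (j + 1) + 1 = m + 1 - j by omega, show m + 1 - (j + 1) = m - j by omega]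
    simp [q, Module.algebraMap_end_apply]
  have hspan : Submodule.span F (Set.range fun j : Fin (m + 1) => q j.val) = ⊤ := by
    set S := Submodule.span F (Set.range fun j : Fin (m + 1) => q j.val)
    have hvS : v ∈ S := hq0 ▸ Submodule.subset_span ⟨0, rfl⟩
    refine hobs S hvS fun w hw => ?_
    have : S ≤ S.comap φ₀ := Submodule.span_le.2 (by
      rintro _ ⟨j, rfl⟩
      have h1 := hstep j.val j.isLt
      have h2 : q (j.val + 1) ∈ S := by
        by_cases hlast : j.val + 1 = m + 1
        · rw [hlast, hqk]; exact S.zero_mem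
        · exact Submodule.subset_span ⟨⟨j.val + 1, by omega⟩, rfl⟩
      show φ₀ (q j.val) ∈ S
      rw [show φ₀ (q j.val) = q (j.val + 1) - χ.coeff (m - j.val) • v by rw [h1]; abel]
      exact S.sub_mem h2 (S.smul_mem _ hvS))
    exact this hw
  let bas := basisOfTopLeSpanOfCardEqFinrank (fun j : Fin (m + 1) => q j.val) hspan.ge (by simp)
  let L : (Fin (m + 1) → F) →ₗ[F] F :=
    bas.constr F fun j => χ.coeff (m - j.val) - h.coeff (m - j.val)
  have hL : ∀ j : Fin (m + 1), L (q j.val) = χ.coeff (m - j.val) - h.coeff (m - j.val) := by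
    intro j
    have := bas.constr_basis F (fun j => χ.coeff (m - j.val) - h.coeff (m - j.val)) j
    simpa [bas, L] using this
  set u : Fin (m + 1) → F := fun i => L (Pi.single i 1) with hu
  set Mu := hM T (c + u 0) fun i => u i.succ with hMu
  set φ := Mu.vecMulLinear with hφ
  have hφeq : ∀ w, φ w = φ₀ w + L w • v := by
    intro w
    have : φ = φ₀ + (LinearMap.lsmul F (Fin (m + 1) → F)).flip v ∘ₗ L := by
      refine (Pi.basisFun F (Fin (m + 1))).ext fun i => ?_
      simp only [Pi.basisFun_apply, LinearMap.add_apply, LinearMap.comp_apply, LinearMap.flip_apply,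
        LinearMap.lsmul_apply, hφ, hφ₀, Matrix.vecMulLinear_apply, Matrix.single_one_vecMul]
      ext j
      simp only [Matrix.row_apply, Pi.add_apply, Pi.smul_apply, smul_eq_mul, hv]
      induction i using Fin.cases with
      | zero =>
        induction j using Fin.lastCases with
        | last => simp [Mu, hM, hu]
        | cast j => simp [Mu, hM]
      | succ i =>
        induction j using Fin.lastCases with
        | last => simp [Mu, hM, hu]
        | cast j => simp [Mu, hM]
    rw [this]; rfl
  have hhorner : ∀ j ≤ m + 1, aeval φ (divX^[m + 1 - j] h) v = q j := by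
    intro j
    induction j with
    | zero =>
      intro _
      have e1 := divX_top hm
      rw [hd] at e1
      rw [Nat.sub_zero, e1, map_one, Module.End.one_apply, hq0]
    | succ j ih =>
      intro hj
      rw [divX_succ, show m + 1 - (j + 1) + 1 = m + 1 - j by omega, show m + 1 - (j + 1) = m - j by omega,
        map_add, map_mul, aeval_X, LinearMap.add_apply, Module.End.mul_apply, ih (by omega), hφeq,
        hL ⟨j, by omega⟩, hstep j (by omega)]
      simp [Module.algebraMap_end_apply, sub_smul]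
      abel
  have hcsp : cspan φ v = ⊤ := by
    refine hobs _ (self_mem_cspan _ _) fun w hw => ?_
    have h1 := map_mem_cspan _ hw
    rw [hφeq] at h1
    have h2 := Submodule.sub_mem _ h1 (Submodule.smul_mem _ (L w) (self_mem_cspan φ v))
    rwa [add_sub_cancel_right] at h2
  have hsim : Sim φ (Cyc h) := sim_cyc hm (by simp [hd]) hcsp (by
    have := hhorner (m + 1) le_rfl
    rwa [Nat.sub_self, Function.iterate_zero_apply, hqk] at this)
  have hsim' : Sim (Matrix.toLin' Mu) (Cyc h) := by
    have h1 : Sim (Matrix.toLin' Muᵀ) (Matrix.toLin' (cm (m := m) h)) := by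
      refine Sim.trans ?_ (sim_cm hm hd).symm
      convert hsim using 1
      ext w
      simp [hφ, Matrix.mulVec_transpose]
    have h2 := h1.transpose
    rw [Matrix.transpose_transpose] at h2
    exact h2.symm.trans (sim_cm_transpose hm hd)
  have hc : u 0 = 0 := by
    have h1 := hsim'.det_eq
    rw [LinearMap.det_toLin', hMu, det_hM, det_Cyc hm, hd, hdet] at h1
    have h2 : ((-1 : F) ^ m * T.det) * u 0 = 0 := by linear_combination h1
    exact (mul_eq_zero.1 h2).resolve_left (mul_ne_zero (pow_ne_zero _ (neg_ne_zero.2 one_ne_zero)) hT)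
  exact ⟨fun i => u i.succ, by simpa [Mu, hc] using hsim'⟩

/-- The product of a companion matrix and a block triangular matrix realises each allowed polynomial. -/
theorem core {m : ℕ} {f : F[X]} {T : Matrix (Fin m) (Fin m) F} {e : F}
    (hobs : Obs T (-f.coeff 0 * e)) (hT : T.det ≠ 0) {h : F[X]} (hm : h.Monic) (hd : h.natDegree = m + 1)
    (hh : h.coeff 0 = f.coeff 0 * T.det * e) :
    ∃ y, Sim (Matrix.toLin' (cm f * extM T y e)) (Cyc h) := by
  obtain ⟨z, hz⟩ := place hobs hT hm hd (by rw [hh]; ring)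
  refine ⟨fun i => z i - -f.coeff (i.val + 1) * e, ?_⟩
  rw [cm_mul_extM]
  simpa using hz

/-- The last coordinate of the column produced by `core`. -/
theorem core_trace {m : ℕ} {f : F[X]} {T : Matrix (Fin (m + 1)) (Fin (m + 1)) F} {e : F}
    {y : Fin (m + 1) → F} {h : F[X]} (hm : h.Monic) (hd : h.natDegree = m + 2)
    (hs : Sim (Matrix.toLin' (cm f * extM T y e)) (Cyc h)) :
    y (Fin.last m) = -h.coeff (m + 1) + f.coeff (m + 1) * e - ∑ i : Fin m, T i.castSucc i.succ := by
  haveI := hm.finite_adjoinRoot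
  have h1 := hs.charpoly_eq
  rw [charpoly_Cyc hm, Matrix.charpoly_toLin'] at h1
  have h2 := Matrix.trace_eq_neg_charpoly_coeff (cm f * extM T y e)
  rw [h1, Fintype.card_fin, cm_mul_extM] at h2
  have h3 : (hM T (-f.coeff 0 * e) fun i => y i + -f.coeff (i.val + 1) * e).trace =
      (∑ i : Fin m, T i.castSucc i.succ) + (y (Fin.last m) + -f.coeff (m + 1) * e) := by
    rw [Matrix.trace, Fin.sum_univ_succ, Fin.sum_univ_castSucc]
    have e0 : (0 : Fin (m + 2)) = (0 : Fin (m + 1)).castSucc := rfl
    simp only [Matrix.diag_apply, hM, Matrix.of_apply, Fin.cases_zero, Fin.cases_succ]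
    rw [e0, Fin.snoc_castSucc, zero_add]
    congr 1
    · refine Finset.sum_congr rfl fun i _ => ?_
      rw [Fin.succ_castSucc, Fin.snoc_castSucc]
    · rw [Fin.succ_last, Fin.snoc_last, Fin.val_last]
  rw [h3, show m + 1 + 1 - 1 = m + 1 by omega] at h2
  linear_combination h2

theorem hM_row_succ {m : ℕ} (T : Matrix (Fin m) (Fin m) F) (c : F) (i : Fin m) :
    (Pi.single i.succ (1 : F)) ᵥ* hM T c 0 = Fin.snoc (T i) 0 := by
  rw [Matrix.single_one_vecMul]; rfl

theorem snoc_expand {m : ℕ} (r : Fin m → F) :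
    (Fin.snoc r 0 : Fin (m + 1) → F) = ∑ j, r j • Pi.single j.castSucc 1 := by
  ext k
  induction k using Fin.lastCases with
  | last => simp [Finset.sum_apply, Pi.single_apply, (Fin.castSucc_lt_last _).ne']
  | cast k => simp [Finset.sum_apply, Pi.single_apply]

/-- A row with nonzero entry at `i` and the higher basis vectors give the basis vector at `i`. -/
theorem mem_of_row {m : ℕ} {S : Submodule F (Fin (m + 1) → F)} {r : Fin m → F} {i : Fin m}
    (hr : ∀ j, j < i → r j = 0) (hi : r i ≠ 0) (hS : ∀ j, i < j → Pi.single j.castSucc (1 : F) ∈ S)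
    (h : (Fin.snoc r 0 : Fin (m + 1) → F) ∈ S) : Pi.single i.castSucc (1 : F) ∈ S := by
  rw [snoc_expand, ← Finset.sum_erase_add _ _ (Finset.mem_univ i)] at h
  have h1 : ∑ j ∈ Finset.univ.erase i, r j • Pi.single j.castSucc (1 : F) ∈ S := by
    refine Submodule.sum_mem _ fun j hj => ?_
    rcases lt_trichotomy j i with hlt | rfl | hgt
    · simp [hr j hlt]
    · simp at hj
    · exact S.smul_mem _ (hS j hgt)
  exact (S.smul_mem_iff hi).1 ((S.add_mem_iff_right h1).1 h)

/-- Triangular `T` is observable. -/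
theorem obs_tri {m : ℕ} {T : Matrix (Fin m) (Fin m) F} (c : F) (hup : ∀ i j, j < i → T i j = 0)
    (hdiag : ∀ i, T i i ≠ 0) : Obs T c := by
  intro S hl hS
  refine single_span ?_
  suffices ∀ n, ∀ i : Fin (m + 1), m - n ≤ i.val → Pi.single i (1 : F) ∈ S from
    fun i => this m i (by omega)
  intro n
  induction n with
  | zero => intro i hi; rw [show i = Fin.last m from Fin.ext (by simp; omega)]; exact hl
  | succ n ih =>
    intro i hi
    by_cases hin : m - n ≤ i.val
    · exact ih i hin
    obtain ⟨i, rfl⟩ : ∃ i' : Fin m, i'.castSucc = i :=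
      Fin.exists_castSucc_eq.2 fun e => hin (by rw [e]; simp)
    simp only [Fin.val_castSucc] at hi hin
    have h1 := hS _ (ih i.succ (by simp; omega))
    rw [hM_row_succ] at h1
    refine mem_of_row (hup i) (hdiag i) (fun j hj => ih _ ?_) h1
    have : i.val < j.val := hj
    simp only [Fin.val_castSucc]
    omega

/-- `T` with a companion block `[[0, T01], [1, T11]]` in front of a triangular matrix is observable. -/
theorem obs_corner {m : ℕ} {T : Matrix (Fin (m + 2)) (Fin (m + 2)) F} (c : F)
    (hup : ∀ i j : Fin (m + 2), j < i → 2 ≤ i.val → T i j = 0) (hdiag : ∀ i : Fin (m + 2), 2 ≤ i.val → T i i ≠ 0)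
    (h00 : T 0 0 = 0) (h10 : T 1 0 = 1) (h01 : T 0 1 ≠ 0) (h11 : T 1 1 ≠ 0) : Obs T c := by
  intro S hl hS
  have high : ∀ n, ∀ i : Fin (m + 3), (m + 2) - n ≤ i.val → 2 ≤ i.val → Pi.single i (1 : F) ∈ S := by
    intro n
    induction n with
    | zero => intro i hi _; rw [show i = Fin.last (m + 2) from Fin.ext (by simp; omega)]; exact hl
    | succ n ih =>
      intro i hi h2
      by_cases hin : m + 2 - n ≤ i.val
      · exact ih i hin h2
      obtain ⟨i, rfl⟩ : ∃ i' : Fin (m + 2), i'.castSucc = i :=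
        Fin.exists_castSucc_eq.2 fun e => hin (by rw [e]; simp)
      simp only [Fin.val_castSucc] at hi hin h2
      have h1 := hS _ (ih i.succ (by simp; omega) (by simp; omega))
      rw [hM_row_succ] at h1
      refine mem_of_row (fun j hj => hup i j hj h2) (hdiag i h2) (fun j hj => ?_) h1
      have : i.val < j.val := hj
      exact ih _ (by simp; omega) (by simp; omega)
  have hi2 : ∀ j : Fin (m + 2), 2 ≤ j.val → Pi.single j.castSucc (1 : F) ∈ S := fun j hj =>
    high (m + 2) _ (by omega) (by simpa using hj)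
  have hsplit : ∀ r : Fin (m + 2) → F, (Fin.snoc r 0 : Fin (m + 3) → F) ∈ S →
      r 0 • Pi.single (0 : Fin (m + 3)) (1 : F) + r 1 • Pi.single (1 : Fin (m + 3)) (1 : F) ∈ S := by
    intro r hr
    rw [snoc_expand, Fin.sum_univ_succ, Fin.sum_univ_succ, ← add_assoc] at hr
    have hsum : ∑ j : Fin m, r j.succ.succ • Pi.single j.succ.succ.castSucc (1 : F) ∈ S :=
      Submodule.sum_mem _ fun j _ => S.smul_mem _ (hi2 j.succ.succ (by simp only [Fin.val_succ]; omega))
    exact (S.add_mem_iff_left hsum).1 hr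
  -- row of index one
  have h1 := hS _ (high (m + 2) ((1 : Fin (m + 2)).succ) (by omega) (by rw [Fin.val_succ, Fin.val_one]))
  rw [hM_row_succ] at h1
  have hu := hsplit _ h1
  rw [h10, one_smul] at hu
  have hu' := hS _ hu
  rw [Matrix.add_vecMul, Matrix.smul_vecMul] at hu'
  have e1 : Pi.single (1 : Fin (m + 3)) (1 : F) ᵥ* hM T c 0 = Fin.snoc (T 0) 0 := by
    rw [show (1 : Fin (m + 3)) = (0 : Fin (m + 2)).succ from rfl, hM_row_succ]
  have e0 : Pi.single (0 : Fin (m + 3)) (1 : F) ᵥ* hM T c 0 = c • Pi.single (Fin.last (m + 2)) 1 := by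
    rw [Matrix.single_one_vecMul]
    ext k
    induction k using Fin.lastCases with
    | last => simp [hM]
    | cast k => simp [hM, (Fin.castSucc_lt_last k).ne]
  rw [e0, e1] at hu'
  have h2 := hsplit _ ((S.smul_mem_iff h11).1 ((S.add_mem_iff_right (S.smul_mem _ hl)).1 hu'))
  rw [h00, zero_smul, zero_add] at h2
  have hone : Pi.single (1 : Fin (m + 3)) (1 : F) ∈ S := (S.smul_mem_iff h01).1 h2
  have hzero : Pi.single (0 : Fin (m + 3)) (1 : F) ∈ S := (S.add_mem_iff_left (S.smul_mem _ hone)).1 hu
  refine single_span fun i => ?_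
  induction i using Fin.cases with
  | zero => exact hzero
  | succ i =>
    induction i using Fin.cases with
    | zero => exact hone
    | succ i => exact high (m + 2) _ (by omega) (by simp)

end Cfsg.Agent.SLComm
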