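import Cfsg.Agent.Lib.SLComm.ClassData
import Mathlib.LinearAlgebra.Matrix.Charpoly.Coeff

/-!
# The number of conjugacy classes of `GL_n`

* `pairsOf g`, `glTup g` : the data of an element; `glTup_inj`; `card_classes_GL_le`, `le_card_classes_GL`.
-/

set_option autoImplicit false
set_option linter.style.haveILetI false
set_option linter.unusedVariables false
set_option linter.unusedSectionVars false

namespace Cfsg.Agent.SLComm

open Polynomial Module Matrix

variable {F : Type*} [Field F] [Finite F] {n : ℕ}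

theorem det_toLin_GL_ne_zero (g : GL (Fin n) F) :
    LinearMap.det (Matrix.toLin' (g : Matrix (Fin n) (Fin n) F)) ≠ 0 := by
  rw [LinearMap.det_toLin']
  exact (Matrix.isUnit_iff_isUnit_det _).1 g.isUnit |>.ne_zero

theorem exists_pairs_GL (g : GL (Fin n) F) :
    ∃ ps : List (F[X] × ℕ), PairsOk ps ∧ Sim (Matrix.toLin' (g : Matrix (Fin n) (Fin n) F)) (dcyc (blocks ps)) ∧
      pdeg ps = n := by
  obtain ⟨ps, h1, h2, h3⟩ := exists_pairs _ (det_toLin_GL_ne_zero g)
  exact ⟨ps, h1, h2, by rw [h3, Module.finrank_fin_fun]⟩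

/-- The pairs of a matrix. -/
noncomputable def pairsOf (g : GL (Fin n) F) : List (F[X] × ℕ) := Classical.choose (exists_pairs_GL g)

theorem pairsOf_spec (g : GL (Fin n) F) :
    PairsOk (pairsOf g) ∧ Sim (Matrix.toLin' (g : Matrix (Fin n) (Fin n) F)) (dcyc (blocks (pairsOf g))) ∧
      pdeg (pairsOf g) = n := Classical.choose_spec (exists_pairs_GL g)

theorem glTup_mem (g : GL (Fin n) F) : tupOf (pairsOf g) ∈ tupSet F (down n) n := by
  have := tupOf_mem_tupSet (pairsOf_spec g).1
  rwa [(pairsOf_spec g).2.2] at this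

theorem glTup_inj {g h : GL (Fin n) F} (he : tupOf (pairsOf g) = tupOf (pairsOf h)) : IsConj g h := by
  obtain ⟨hg, sg, -⟩ := pairsOf_spec g
  obtain ⟨hh, sh, -⟩ := pairsOf_spec h
  exact isConj_of_sim (sg.trans ((dcyc_perm (blocks_perm (perm_of_tupOf_eq hg hh he))).trans sh.symm))

theorem card_classes_GL_le : Nat.card (ConjClasses (GL (Fin n) F)) ≤ Nat.card F ^ n := by
  classical
  let f : ConjClasses (GL (Fin n) F) → (ℕ → F[X]) := fun c => tupOf (pairsOf c.out)
  have hinj : Function.Injective f := fun c d he => by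
    rw [← Quotient.out_eq c, ← Quotient.out_eq d]
    exact Quotient.sound (glTup_inj he)
  obtain ⟨hfin, hle⟩ := tupSet_finite_card (F := F) (down n) (down_nodup n).1 (down_pos n) n
  rw [← Set.ncard_univ, ← Set.ncard_image_of_injective _ hinj]
  refine (Set.ncard_le_ncard (fun x hx => ?_) hfin).trans (hle.trans (cnt_down_le _ Nat.card_pos _ _))
  obtain ⟨c, -, rfl⟩ := hx
  exact glTup_mem _

theorem exists_GL_charpoly {m : ℕ} {f : F[X]} (hf : f.Monic) (hd : f.natDegree = m + 1) (h0 : f.coeff 0 ≠ 0) :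
    ∃ g : GL (Fin (m + 1)) F, (g : Matrix (Fin (m + 1)) (Fin (m + 1)) F).charpoly = f := by
  have hdet : (cm (m := m) f).det ≠ 0 := by
    rw [← LinearMap.det_toLin', (sim_cm hf hd).det_eq, det_Cyc hf]
    exact mul_ne_zero (pow_ne_zero _ (neg_ne_zero.2 one_ne_zero)) h0
  refine ⟨Matrix.GeneralLinearGroup.mkOfDetNeZero _ hdet, ?_⟩
  haveI := hf.finite_adjoinRoot
  show (cm (m := m) f).charpoly = f
  rw [← Matrix.charpoly_toLin', (sim_cm hf hd).charpoly_eq, charpoly_Cyc hf]

theorem le_card_classes_GL (m : ℕ) : cc (Nat.card F) (m + 1) ≤ Nat.card (ConjClasses (GL (Fin (m + 1)) F)) := by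
  classical
  let f : ConjClasses (GL (Fin (m + 1)) F) → F[X] :=
    Quotient.lift (fun g => (g : Matrix (Fin (m + 1)) (Fin (m + 1)) F).charpoly) fun g h hgh => by
      obtain ⟨x, hx⟩ := isConj_iff.1 (show IsConj g h from hgh)
      show _ = (h : Matrix (Fin (m + 1)) (Fin (m + 1)) F).charpoly
      rw [← hx, Units.val_mul, Units.val_mul, Matrix.coe_units_inv, Matrix.charpoly_units_conj]
  rw [← (monicNe_finite_card (F := F) (m + 1)).2, ← Set.ncard_univ]
  refine le_trans (Set.ncard_le_ncard (t := f '' Set.univ) (fun p hp => ?_) (Set.finite_univ.image _))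
    (Set.ncard_image_le Set.finite_univ)
  obtain ⟨g, hg⟩ := exists_GL_charpoly hp.1 hp.2.1 hp.2.2
  exact ⟨ConjClasses.mk g, Set.mem_univ _, hg⟩

end Cfsg.Agent.SLComm
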