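import Cfsg.Agent.Lib.SLComm.Core
import Mathlib.LinearAlgebra.Matrix.SpecialLinearGroup

/-!
# Commutators of determinant one

* `Gad φ D` : `φ = a b a⁻¹ b⁻¹` with `det a = D` and `det b = 1`;
* `gad_of_factor` : from `φ ∼ X Y` with `Y⁻¹ ∼ X`;
* `Gad.prod`, `Gad.sim`, `gad_tri` (triangular), `gad_tensor`;
* `exists_sl_commutator` : translation to `SL_n`.
-/

set_option autoImplicit false
set_option linter.style.haveILetI false

namespace Cfsg.Agent.SLComm

open Polynomial Module Matrix

variable {F : Type*} [Field F] {V W : Type*} [AddCommGroup V] [Module F V] [AddCommGroup W] [Module F W]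

/-- A commutator of automorphisms, the second one of determinant one, the first one of determinant `D`. -/
def Gad (φ : Module.End F V) (D : F) : Prop :=
  ∃ a b : (Module.End F V)ˣ, φ = ((a * b * a⁻¹ * b⁻¹ : (Module.End F V)ˣ) : Module.End F V) ∧
    LinearMap.det (a : Module.End F V) = D ∧ LinearMap.det (b : Module.End F V) = 1

theorem exists_unit [Module.Finite F V] {φ : Module.End F V} (h : LinearMap.det φ ≠ 0) :
    ∃ u : (Module.End F V)ˣ, (u : Module.End F V) = φ := by
  refine ⟨(LinearMap.GeneralLinearGroup.generalLinearEquiv F V).symm (LinearMap.equivOfDetNeZero φ h), ?_⟩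
  exact LinearMap.ext fun v => rfl

theorem det_unit_ne_zero (u : (Module.End F V)ˣ) : LinearMap.det (u : Module.End F V) ≠ 0 :=
  (u.isUnit.map LinearMap.det).ne_zero

theorem det_unit_inv (u : (Module.End F V)ˣ) :
    LinearMap.det ((u⁻¹ : (Module.End F V)ˣ) : Module.End F V) = (LinearMap.det (u : Module.End F V))⁻¹ := by
  refine eq_inv_of_mul_eq_one_left ?_
  rw [← map_mul, u.inv_mul, map_one]

theorem Gad.sim {φ : Module.End F V} {ψ : Module.End F W} {D : F} (h : Gad ψ D) (hs : Sim φ ψ) : Gad φ D := by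
  obtain ⟨e, he⟩ := hs
  obtain ⟨a, b, hab, ha, hb⟩ := h
  let C : (Module.End F W)ˣ →* (Module.End F V)ˣ := Units.map e.symm.conjRingEquiv.toMonoidHom
  have hdet : ∀ u : (Module.End F W)ˣ, LinearMap.det ((C u : (Module.End F V)ˣ) : Module.End F V) =
      LinearMap.det (u : Module.End F W) := fun u => by
    refine Sim.det_eq ⟨e, fun v => ?_⟩
    show e (e.symm ((u : Module.End F W) (e v))) = _
    rw [e.apply_symm_apply]
  refine ⟨C a, C b, ?_, by rw [hdet, ha], by rw [hdet, hb]⟩
  rw [← map_inv, ← map_inv, ← map_mul, ← map_mul, ← map_mul]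
  refine LinearMap.ext fun v => ?_
  show φ v = e.symm (((a * b * a⁻¹ * b⁻¹ : (Module.End F W)ˣ) : Module.End F W) (e v))
  rw [← hab, ← he, e.symm_apply_apply]

theorem Gad.congr {φ : Module.End F V} {D D' : F} (h : Gad φ D) (e : D = D') : Gad φ D' := e ▸ h

variable (F V W) in
/-- The block diagonal embedding. -/
def dHom : Module.End F V × Module.End F W →* Module.End F (V × W) :=
  (LinearMap.prodMapRingHom F V W).toMonoidHom

@[simp] theorem dHom_apply (p : Module.End F V × Module.End F W) : dHom F V W p = p.1.prodMap p.2 := rfl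

/-- Block diagonal unit. -/
def prodU (a : (Module.End F V)ˣ) (b : (Module.End F W)ˣ) : (Module.End F (V × W))ˣ :=
  Units.map (dHom F V W) (MulEquiv.prodUnits.symm (a, b))

@[simp] theorem coe_prodU (a : (Module.End F V)ˣ) (b : (Module.End F W)ˣ) :
    ((prodU a b : (Module.End F (V × W))ˣ) : Module.End F (V × W)) =
      (a : Module.End F V).prodMap (b : Module.End F W) := rfl

theorem prodU_mul (a a' : (Module.End F V)ˣ) (b b' : (Module.End F W)ˣ) :
    prodU (a * a') (b * b') = prodU a b * prodU a' b' :=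
  Units.ext (LinearMap.ext fun _ => rfl)

theorem prodU_inv (a : (Module.End F V)ˣ) (b : (Module.End F W)ˣ) : prodU a⁻¹ b⁻¹ = (prodU a b)⁻¹ :=
  Units.ext (LinearMap.ext fun _ => rfl)

theorem Gad.prod [Module.Finite F V] [Module.Finite F W] {φ : Module.End F V} {ψ : Module.End F W} {D D' : F}
    (h : Gad φ D) (h' : Gad ψ D') : Gad (φ.prodMap ψ) (D * D') := by
  obtain ⟨a, b, rfl, ha, hb⟩ := h
  obtain ⟨a', b', rfl, ha', hb'⟩ := h'
  refine ⟨prodU a a', prodU b b', ?_, by rw [coe_prodU, det_prodMap', ha, ha'],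
    by rw [coe_prodU, det_prodMap', hb, hb', mul_one]⟩
  rw [← prodU_inv, ← prodU_inv, ← prodU_mul, ← prodU_mul, ← prodU_mul]
  rfl

/-- The centraliser of `φ` has every determinant. -/
def CentSurj (φ : Module.End F V) : Prop :=
  ∀ t : F, t ≠ 0 → ∃ z : (Module.End F V)ˣ,
    Commute (z : Module.End F V) φ ∧ LinearMap.det (z : Module.End F V) = t

theorem CentSurj.sim {φ : Module.End F V} {ψ : Module.End F W} (h : CentSurj ψ) (hs : Sim φ ψ) :
    CentSurj φ := by
  obtain ⟨e, he⟩ := hs
  intro t ht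
  obtain ⟨z, hz, hd⟩ := h t ht
  refine ⟨Units.map e.symm.conjRingEquiv.toMonoidHom z, LinearMap.ext fun v => ?_, ?_⟩
  · show e.symm ((z : Module.End F W) (e (φ v))) = φ (e.symm ((z : Module.End F W) (e v)))
    refine e.injective ?_
    rw [he, he, e.apply_symm_apply, e.apply_symm_apply]
    exact LinearMap.congr_fun hz.eq (e v)
  · rw [← hd]
    refine Sim.det_eq ⟨e, fun v => ?_⟩
    show e (e.symm ((z : Module.End F W) (e v))) = _
    rw [e.apply_symm_apply]

theorem CentSurj.prod_right [Module.Finite F V] [Module.Finite F W] (φ : Module.End F V) {ψ : Module.End F W}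
    (h : CentSurj ψ) : CentSurj (φ.prodMap ψ) := by
  intro t ht
  obtain ⟨z, hz, hd⟩ := h t ht
  refine ⟨prodU 1 z, LinearMap.ext fun v => Prod.ext rfl (LinearMap.congr_fun hz.eq v.2), ?_⟩
  rw [coe_prodU, det_prodMap', hd]
  simp

theorem CentSurj.prod_left [Module.Finite F V] [Module.Finite F W] {φ : Module.End F V} (ψ : Module.End F W)
    (h : CentSurj φ) : CentSurj (φ.prodMap ψ) :=
  (CentSurj.prod_right ψ h).sim (sim_prod_comm φ ψ)

theorem centSurj_line (c : F) : CentSurj (Cyc (X - C c)) := by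
  refine CentSurj.sim ?_ (sim_Cyc_linear c)
  intro t ht
  have hd : LinearMap.det (t • (1 : Module.End F F)) = t := by simp
  obtain ⟨z, hz⟩ := exists_unit (φ := t • (1 : Module.End F F)) (by rw [hd]; exact ht)
  exact ⟨z, by rw [hz]; exact ((Commute.one_left _).smul_left t), by rw [hz, hd]⟩

/-- The criterion: `φ ∼ X Y` with `Y⁻¹ ∼ X`. -/
theorem gad_of_factor {φ : Module.End F V} {X : Module.End F W} {Y : (Module.End F W)ˣ} [Module.Finite F W]
    (hX : LinearMap.det X ≠ 0) (hφ : Sim φ (X * (Y : Module.End F W)))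
    (hYX : Sim ((Y⁻¹ : (Module.End F W)ˣ) : Module.End F W) X) (hc : CentSurj X) :
    Gad φ (LinearMap.det X) := by
  refine Gad.sim ?_ hφ
  obtain ⟨a, rfl⟩ := exists_unit hX
  obtain ⟨e, he⟩ := hYX
  let E : (Module.End F W)ˣ := (LinearMap.GeneralLinearGroup.generalLinearEquiv F W).symm e
  have hE : E * Y⁻¹ = a * E := Units.ext (LinearMap.ext fun v => he v)
  obtain ⟨z, hz, hzd⟩ := hc (LinearMap.det (E : Module.End F W)) (det_unit_ne_zero E)
  have hz' : z * a = a * z := Units.ext hz.eq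
  refine ⟨a, E⁻¹ * z, ?_, rfl, ?_⟩
  · have h1 : Y = E⁻¹ * a⁻¹ * E := by
      rw [show Y = (E⁻¹ * (E * Y⁻¹))⁻¹ by group, hE]
      group
    have h2 : z * a⁻¹ * z⁻¹ = a⁻¹ := by
      rw [show z * a⁻¹ * z⁻¹ = (z * a * z⁻¹)⁻¹ by group, hz', mul_inv_cancel_right]
    have h3 : a * (E⁻¹ * z) * a⁻¹ * (E⁻¹ * z)⁻¹ = a * Y := by
      calc a * (E⁻¹ * z) * a⁻¹ * (E⁻¹ * z)⁻¹ = a * (E⁻¹ * (z * a⁻¹ * z⁻¹) * E) := by group
        _ = a * (E⁻¹ * a⁻¹ * E) := by rw [h2]
        _ = _ := by rw [h1]
    rw [h3, Units.val_mul]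
  · rw [Units.val_mul, map_mul, det_unit_inv, hzd, inv_mul_cancel₀ (det_unit_ne_zero E)]

/-- A triangular endomorphism whose diagonal parts are commutators with coprime second factors. -/
theorem gad_tri [Module.Finite F V] [Module.Finite F W] {N : W →ₗ[F] V} (a₁ b₁ : (Module.End F V)ˣ)
    (a₂ b₂ : (Module.End F W)ˣ) {φ₁ : Module.End F V} {φ₂ : Module.End F W}
    (h₁ : φ₁ = ((a₁ * b₁ * a₁⁻¹ * b₁⁻¹ : (Module.End F V)ˣ) : Module.End F V))
    (h₂ : φ₂ = ((a₂ * b₂ * a₂⁻¹ * b₂⁻¹ : (Module.End F W)ˣ) : Module.End F W))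
    (hb₁ : LinearMap.det (b₁ : Module.End F V) = 1) (hb₂ : LinearMap.det (b₂ : Module.End F W) = 1)
    {P Q : F[X]} (hPQ : IsCoprime P Q)
    (hP : aeval ((a₁⁻¹ : (Module.End F V)ˣ) : Module.End F V) P = 0)
    (hQ : aeval ((a₂⁻¹ : (Module.End F W)ˣ) : Module.End F W) Q = 0)
    {φ : Module.End F (V × W)} (hφ : ∀ x, φ x = (φ₁ x.1 + N x.2, φ₂ x.2)) :
    Gad φ (LinearMap.det (a₁ : Module.End F V) * LinearMap.det (a₂ : Module.End F W)) := by
  obtain ⟨A, B, hAB⟩ := hPQ
  set a := prodU a₁ a₂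
  set b := prodU b₁ b₂
  -- `c = a⁻¹ φ` is similar to `b a⁻¹ b⁻¹` by a unitriangular map
  set c₁ : Module.End F V := ((b₁ * a₁⁻¹ * b₁⁻¹ : (Module.End F V)ˣ) : Module.End F V) with hc₁
  set c₂ : Module.End F W := ((b₂ * a₂⁻¹ * b₂⁻¹ : (Module.End F W)ˣ) : Module.End F W) with hc₂
  set N' : W →ₗ[F] V := ((a₁⁻¹ : (Module.End F V)ˣ) : Module.End F V) ∘ₗ N with hN'
  set c : Module.End F (V × W) := LinearMap.prod (c₁ ∘ₗ LinearMap.fst F V W + N' ∘ₗ LinearMap.snd F V W)
    (c₂ ∘ₗ LinearMap.snd F V W) with hc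
  have hP' : aeval c₁ P = 0 := by
    have e : ∀ v, (b₁ : Module.End F V) (((a₁⁻¹ : (Module.End F V)ˣ) : Module.End F V) v) =
        c₁ ((b₁ : Module.End F V) v) := fun v => by
      rw [hc₁, ← Module.End.mul_apply, ← Units.val_mul, ← Module.End.mul_apply, ← Units.val_mul,
        inv_mul_cancel_right]
    refine LinearMap.ext fun v => ?_
    have := Sim.aeval_apply ((LinearMap.GeneralLinearGroup.generalLinearEquiv F V) b₁) e P
      (((b₁⁻¹ : (Module.End F V)ˣ) : Module.End F V) v)
    rw [hP, LinearMap.zero_apply, map_zero] at this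
    rw [LinearMap.zero_apply, this]
    congr 1
    show v = (b₁ : Module.End F V) _
    rw [← Module.End.mul_apply, b₁.mul_inv, Module.End.one_apply]
  have hQ' : aeval c₂ Q = 0 := by
    have e : ∀ v, (b₂ : Module.End F W) (((a₂⁻¹ : (Module.End F W)ˣ) : Module.End F W) v) =
        c₂ ((b₂ : Module.End F W) v) := fun v => by
      rw [hc₂, ← Module.End.mul_apply, ← Units.val_mul, ← Module.End.mul_apply, ← Units.val_mul,
        inv_mul_cancel_right]
    refine LinearMap.ext fun v => ?_
    have := Sim.aeval_apply ((LinearMap.GeneralLinearGroup.generalLinearEquiv F W) b₂) e Q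
      (((b₂⁻¹ : (Module.End F W)ˣ) : Module.End F W) v)
    rw [hQ, LinearMap.zero_apply, map_zero] at this
    rw [LinearMap.zero_apply, this]
    congr 1
    show v = (b₂ : Module.End F W) _
    rw [← Module.End.mul_apply, b₂.mul_inv, Module.End.one_apply]
  have hfst : ∀ G : F[X], ∀ v : V, aeval c G (v, 0) = (aeval c₁ G v, 0) := by
    intro G
    induction G using Polynomial.induction_on with
    | C r => simp [Module.algebraMap_end_apply]
    | add p q hp hq => simp [hp, hq]
    | monomial n r ih =>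
      intro v
      rw [pow_succ, ← mul_assoc, map_mul, aeval_X, Module.End.mul_apply, map_mul (aeval c₁) (C r * X ^ n),
        aeval_X, Module.End.mul_apply]
      rw [show c (v, 0) = (c₁ v, 0) by simp [hc], ih]
  have hsnd : ∀ G : F[X], ∀ x : V × W, (aeval c G x).2 = aeval c₂ G x.2 := by
    intro G
    induction G using Polynomial.induction_on with
    | C r => simp [Module.algebraMap_end_apply]
    | add p q hp hq => simp [hp, hq]
    | monomial n r ih =>
      intro x
      rw [pow_succ, ← mul_assoc, map_mul, aeval_X, Module.End.mul_apply, map_mul (aeval c₂) (C r * X ^ n),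
        aeval_X, Module.End.mul_apply, ih]
      simp [hc]
  let s : W →ₗ[F] V := LinearMap.fst F V W ∘ₗ aeval c (A * P) ∘ₗ LinearMap.inr F V W
  have hAP2 : ∀ w, aeval c₂ (A * P) w = w := fun w => by
    rw [show A * P = 1 - B * Q by linear_combination hAB, map_sub, map_one, map_mul, hQ', mul_zero,
      sub_zero, Module.End.one_apply]
  have hs : ∀ w, aeval c (A * P) (0, w) = (s w, w) := fun w =>
    Prod.ext rfl (by rw [hsnd, hAP2])
  have hsc : ∀ w, c (s w, w) = (s (c₂ w), c₂ w) := by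
    intro w
    have h5 : c (0, w) = (N' w, 0) + (0, c₂ w) := by simp [hc]
    rw [← hs, ← hs, ← Module.End.mul_apply, show c * aeval c (A * P) = aeval c (A * P) * c by
      rw [show c * aeval c (A * P) = aeval c (X : F[X]) * aeval c (A * P) by rw [aeval_X], ← map_mul,
        mul_comm (X : F[X]), map_mul, aeval_X], Module.End.mul_apply, h5, map_add, hfst, map_mul, hP', mul_zero,
      LinearMap.zero_apply]
    simp
  let τ : (Module.End F (V × W)) := LinearMap.prod (LinearMap.fst F V W + s ∘ₗ LinearMap.snd F V W)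
    (LinearMap.snd F V W)
  let τ' : (Module.End F (V × W)) := LinearMap.prod (LinearMap.fst F V W - s ∘ₗ LinearMap.snd F V W)
    (LinearMap.snd F V W)
  let T : (Module.End F (V × W))ˣ :=
    ⟨τ, τ', LinearMap.ext fun x => by simp [τ, τ'], LinearMap.ext fun x => by simp [τ, τ']⟩
  have hTd : LinearMap.det (T : Module.End F (V × W)) = 1 := by
    show LinearMap.det τ = 1
    classical
    let bV := Module.finBasis F V
    let bW := Module.finBasis F W
    rw [← LinearMap.det_toMatrix (bV.prod bW)]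
    have hm : LinearMap.toMatrix (bV.prod bW) (bV.prod bW) τ =
        Matrix.fromBlocks 1 (LinearMap.toMatrix bW bV s) 0 1 := by
      ext i j
      rcases i with i | i <;> rcases j with j | j <;>
        simp [LinearMap.toMatrix_apply, τ, Matrix.one_apply, Finsupp.single_apply, eq_comm]
    rw [hm, Matrix.det_fromBlocks_zero₂₁, Matrix.det_one, Matrix.det_one, one_mul]
  refine ⟨a, T * b, ?_, by rw [coe_prodU, det_prodMap'], ?_⟩
  · have key : (T : Module.End F (V × W)) * (c₁.prodMap c₂) = c * (T : Module.End F (V × W)) := by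
      refine LinearMap.ext fun x => ?_
      show (c₁ x.1 + s (c₂ x.2), c₂ x.2) = c (x.1 + s x.2, x.2)
      rw [show (x.1 + s x.2, x.2) = (x.1, (0 : W)) + (s x.2, x.2) by simp, map_add c, hsc]
      simp [hc]
    have e1 : a * (T * b) * a⁻¹ * (T * b)⁻¹ = a * (T * (b * a⁻¹ * b⁻¹) * T⁻¹) := by group
    have e3 : ((b * a⁻¹ * b⁻¹ : (Module.End F (V × W))ˣ) : Module.End F (V × W)) = c₁.prodMap c₂ := by
      rw [← prodU_inv, ← prodU_inv, ← prodU_mul, ← prodU_mul]; rfl
    have e2 : ((T * (b * a⁻¹ * b⁻¹) * T⁻¹ : (Module.End F (V × W))ˣ) : Module.End F (V × W)) = c := by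
      rw [Units.val_mul, Units.val_mul, e3, key, mul_assoc, T.mul_inv, mul_one]
    rw [e1, Units.val_mul, e2]
    refine LinearMap.ext fun x => ?_
    rw [hφ, h₁, h₂, Module.End.mul_apply]
    show _ = ((a₁ : Module.End F V) (c₁ x.1 + N' x.2), (a₂ : Module.End F W) (c₂ x.2))
    rw [map_add, hN', LinearMap.comp_apply, ← Module.End.mul_apply (a₁ : Module.End F V), hc₁,
      ← Units.val_mul, ← Module.End.mul_apply (a₁ : Module.End F V), a₁.mul_inv, Module.End.one_apply,
      ← Module.End.mul_apply (a₂ : Module.End F W), hc₂, ← Units.val_mul]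
    simp only [mul_assoc]
  · rw [Units.val_mul, map_mul, hTd, coe_prodU, det_prodMap', hb₁, hb₂, mul_one, mul_one]

/-- Translation to the special linear group. -/
theorem exists_sl_commutator {n : ℕ} (g : Matrix.SpecialLinearGroup (Fin n) F)
    (h : Gad (Matrix.toLin' (g : Matrix (Fin n) (Fin n) F)) 1) :
    ∃ a b : Matrix.SpecialLinearGroup (Fin n) F, g = a * b * a⁻¹ * b⁻¹ := by
  obtain ⟨a, b, hab, ha, hb⟩ := h
  let A : Matrix.SpecialLinearGroup (Fin n) F :=
    ⟨LinearMap.toMatrix' (a : Module.End F (Fin n → F)), by rw [LinearMap.det_toMatrix']; exact ha⟩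
  let B : Matrix.SpecialLinearGroup (Fin n) F :=
    ⟨LinearMap.toMatrix' (b : Module.End F (Fin n → F)), by rw [LinearMap.det_toMatrix']; exact hb⟩
  refine ⟨A, B, ?_⟩
  have key : g * B * A = A * B := by
    apply Subtype.ext
    show (g : Matrix (Fin n) (Fin n) F) * LinearMap.toMatrix' (b : Module.End F (Fin n → F)) *
        LinearMap.toMatrix' (a : Module.End F (Fin n → F)) =
      LinearMap.toMatrix' (a : Module.End F (Fin n → F)) * LinearMap.toMatrix' (b : Module.End F (Fin n → F))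
    apply Matrix.toLin'.injective
    rw [Matrix.toLin'_mul, Matrix.toLin'_mul, Matrix.toLin'_mul, Matrix.toLin'_toMatrix',
      Matrix.toLin'_toMatrix', hab]
    show ((a * b * a⁻¹ * b⁻¹ : (Module.End F (Fin n → F))ˣ) : Module.End F (Fin n → F)) * b * a = a * b
    rw [← Units.val_mul, ← Units.val_mul, ← Units.val_mul]
    congr 1
    group
  rw [← key]
  group

end Cfsg.Agent.SLComm
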