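import Cfsg.Agent.Lib.SLComm.Twist
import Cfsg.Agent.Lib.SLComm.CenterOrbits
import Cfsg.Agent.Lib.GLOrder.Basic
import Mathlib.LinearAlgebra.Matrix.ProjectiveSpecialLinearGroup

/-!
# The class number of `PSL_n`

* `psl_classes_eq` : `d k(PSL_n)` is `k(SL_n)` plus the classes fixed by the non-trivial central elements;
* `psl_classes_le` : the bound for the latter.
-/

set_option autoImplicit false
set_option linter.style.haveILetI false
set_option linter.unusedVariables false
set_option linter.unusedSectionVars false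

namespace Cfsg.Agent.SLComm

open Polynomial Module Matrix

variable {F : Type*} [Field F] [Finite F] {n : ℕ}

theorem psl_classes_eq (hn : 0 < n) [Fintype (Subgroup.center (Matrix.SpecialLinearGroup (Fin n) F))]
    [DecidableEq (Subgroup.center (Matrix.SpecialLinearGroup (Fin n) F))] :
    Nat.gcd n (Nat.card F - 1) * Nat.card (ConjClasses (Matrix.ProjectiveSpecialLinearGroup (Fin n) F)) =
      Nat.card (ConjClasses (Matrix.SpecialLinearGroup (Fin n) F)) +
        ∑ z ∈ Finset.univ.erase (1 : Subgroup.center (Matrix.SpecialLinearGroup (Fin n) F)),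
          Nat.card {c : ConjClasses (Matrix.SpecialLinearGroup (Fin n) F) // cmulClass z c = c} := by
  haveI : Nonempty (Fin n) := ⟨⟨0, hn⟩⟩
  have h := card_center_mul_classes (G := Matrix.SpecialLinearGroup (Fin n) F)
  rw [GLOrder.card_center_SL, Fintype.card_fin, ← Finset.add_sum_erase _ _ (Finset.mem_univ 1)] at h
  rw [h]
  congr 1
  refine Nat.card_congr (Equiv.subtypeUnivEquiv fun c => ?_)
  induction c using Quotient.inductionOn with
  | _ g => exact congrArg ConjClasses.mk (one_mul g)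

/-- The eigenvalue of a central element. -/
noncomputable def czeta (hn : 0 < n) (z : Subgroup.center (Matrix.SpecialLinearGroup (Fin n) F)) : F :=
  ((z : Matrix.SpecialLinearGroup (Fin n) F) : Matrix (Fin n) (Fin n) F) ⟨0, hn⟩ ⟨0, hn⟩

theorem czeta_spec (hn : 0 < n) (z : Subgroup.center (Matrix.SpecialLinearGroup (Fin n) F)) :
    czeta hn z ^ n = 1 ∧ ((z : Matrix.SpecialLinearGroup (Fin n) F) : Matrix (Fin n) (Fin n) F) =
      Matrix.scalar (Fin n) (czeta hn z) := by
  obtain ⟨r, hr, hz⟩ := Matrix.SpecialLinearGroup.mem_center_iff.1 z.2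
  have : czeta hn z = r := by rw [czeta, ← hz]; simp
  rw [this, hz]
  exact ⟨by simpa using hr, rfl⟩

theorem czeta_inj (hn : 0 < n) : Function.Injective (czeta (F := F) hn) := fun a b h => by
  refine Subtype.ext (Subtype.ext ?_)
  rw [(czeta_spec hn a).2, (czeta_spec hn b).2, h]

theorem czeta_ne (hn : 0 < n) {z : Subgroup.center (Matrix.SpecialLinearGroup (Fin n) F)} (hz : z ≠ 1) :
    czeta hn z ≠ 1 ∧ czeta hn z ≠ 0 ∧ orderOf (czeta hn z) ∣ n ∧ 2 ≤ orderOf (czeta hn z) := by
  obtain ⟨h1, h2⟩ := czeta_spec hn z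
  have hne : czeta hn z ≠ 1 := fun h => hz (czeta_inj hn (by rw [h]; simp [czeta]))
  have hd := orderOf_dvd_of_pow_eq_one h1
  refine ⟨hne, fun h => by simp [h, zero_pow hn.ne'] at h1, hd, ?_⟩
  have h0 := Nat.pos_of_dvd_of_pos hd hn
  have h3 : orderOf (czeta hn z) ≠ 1 := fun h => hne (orderOf_eq_one_iff.1 h)
  omega

theorem slTup_mem_fixTup (hn : 0 < n) {z : Subgroup.center (Matrix.SpecialLinearGroup (Fin n) F)} (hz : z ≠ 1)
    {c : ConjClasses (Matrix.SpecialLinearGroup (Fin n) F)} (hc : cmulClass z c = c) :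
    slTup c.out ∈ fixTup F n (czeta hn z) := by
  refine ⟨⟨glTup_mem _, tdet_slTup _⟩, slTup_fixed (czeta_ne hn hz).2.1 ?_⟩
  have hconj : IsConj ((z : Matrix.SpecialLinearGroup (Fin n) F) * c.out) c.out := by
    refine ConjClasses.mk_eq_mk_iff_isConj.1 ?_
    rw [← cmulClass_mk, show ConjClasses.mk c.out = c from Quotient.out_eq c, hc]
  obtain ⟨x, hx⟩ := isConj_iff.1 hconj
  rw [mul_inv_eq_iff_eq_mul] at hx
  set g := c.out
  refine ⟨LinearEquiv.ofLinear (Matrix.toLin' (x : Matrix (Fin n) (Fin n) F))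
    (Matrix.toLin' ((x⁻¹ : Matrix.SpecialLinearGroup (Fin n) F) : Matrix (Fin n) (Fin n) F)) ?_ ?_, fun v => ?_⟩
  · rw [← Matrix.toLin'_mul, ← Matrix.SpecialLinearGroup.coe_mul, mul_inv_cancel, Matrix.SpecialLinearGroup.coe_one,
      Matrix.toLin'_one]
  · rw [← Matrix.toLin'_mul, ← Matrix.SpecialLinearGroup.coe_mul, inv_mul_cancel, Matrix.SpecialLinearGroup.coe_one,
      Matrix.toLin'_one]
  · have h2 : (x : Matrix (Fin n) (Fin n) F) * (czeta hn z • (g : Matrix (Fin n) (Fin n) F)) =
        (g : Matrix (Fin n) (Fin n) F) * x := by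
      rw [← Matrix.SpecialLinearGroup.coe_mul, ← hx, Matrix.SpecialLinearGroup.coe_mul, Matrix.SpecialLinearGroup.coe_mul,
        (czeta_spec hn z).2, Matrix.scalar_apply, ← Matrix.smul_eq_diagonal_mul]
    have h3 := LinearMap.congr_fun (congrArg Matrix.toLin' h2) v
    rw [Matrix.toLin'_mul, Matrix.toLin'_mul, map_smul] at h3
    exact h3

theorem card_fixed_class_le (hn : 0 < n) {z : Subgroup.center (Matrix.SpecialLinearGroup (Fin n) F)} (hz : z ≠ 1) :
    Nat.card {c : ConjClasses (Matrix.SpecialLinearGroup (Fin n) F) // cmulClass z c = c} ≤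
      n / orderOf (czeta hn z) * Nat.card F ^ (n / orderOf (czeta hn z)) ∧
    (n / orderOf (czeta hn z) = 1 →
      Nat.card {c : ConjClasses (Matrix.SpecialLinearGroup (Fin n) F) // cmulClass z c = c} ≤ 1) := by
  obtain ⟨-, -, hd, h2⟩ := czeta_ne hn hz
  set e := orderOf (czeta hn z) with he
  have h := card_fixed_le (czeta hn z) (fun f hf => tg_fixTup_le he.symm (by omega) hn hf) _
    (fun c hc => slTup_mem_fixTup hn hz (c := c) hc)
  refine ⟨h.trans (Nat.mul_le_mul le_rfl (ncard_fixTup_le he.symm (by omega))), fun h1 => h.trans ?_⟩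
  rw [h1, one_mul]
  exact ncard_fixTup_le_one he.symm (by omega) h1

theorem psl_classes_le (hn : 0 < n) (A B : ℕ) (hA : n % 2 = 0 → n / 2 * Nat.card F ^ (n / 2) ≤ A ∨ n / 2 = 1 ∧ 1 ≤ A)
    (hB : ∀ e, 3 ≤ e → e ∣ n → n / e * Nat.card F ^ (n / e) ≤ B ∨ n / e = 1 ∧ 1 ≤ B) :
    Nat.gcd n (Nat.card F - 1) * Nat.card (ConjClasses (Matrix.ProjectiveSpecialLinearGroup (Fin n) F)) ≤
      Nat.card (ConjClasses (Matrix.SpecialLinearGroup (Fin n) F)) + A + (Nat.gcd n (Nat.card F - 1) - 1) * B := by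
  classical
  haveI : Nonempty (Fin n) := ⟨⟨0, hn⟩⟩
  letI := Fintype.ofFinite (Subgroup.center (Matrix.SpecialLinearGroup (Fin n) F))
  rw [psl_classes_eq hn, add_assoc]
  refine Nat.add_le_add_left ?_ _
  set S := Finset.univ.erase (1 : Subgroup.center (Matrix.SpecialLinearGroup (Fin n) F))
  rw [← Finset.sum_filter_add_sum_filter_not S (fun z => orderOf (czeta hn z) = 2)]
  refine add_le_add ?_ ?_
  · refine (Finset.sum_le_card_nsmul _ _ A fun z hz => ?_).trans ?_
    · simp only [S, Finset.mem_filter, Finset.mem_erase] at hz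
      obtain ⟨h1, h2⟩ := card_fixed_class_le hn hz.1.1
      have hd := (czeta_ne hn hz.1.1).2.2.1
      rw [hz.2] at h1 h2 hd
      rcases hA (Nat.mod_eq_zero_of_dvd hd) with h | h
      · exact h1.trans h
      · exact (h2 h.1).trans h.2
    · rw [smul_eq_mul]
      refine (Nat.mul_le_mul (Finset.card_le_one.2 fun a ha b hb => czeta_inj hn ?_) le_rfl).trans (one_mul A).le
      have key : ∀ z, z ∈ S.filter (fun z => orderOf (czeta hn z) = 2) → czeta hn z = -1 := by
        intro z hz
        simp only [S, Finset.mem_filter, Finset.mem_erase] at hz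
        have := pow_orderOf_eq_one (czeta hn z)
        rw [hz.2] at this
        exact (sq_eq_one_iff.1 this).resolve_left (czeta_ne hn hz.1.1).1
      rw [key a ha, key b hb]
  · refine (Finset.sum_le_card_nsmul _ _ B fun z hz => ?_).trans ?_
    · simp only [S, Finset.mem_filter, Finset.mem_erase] at hz
      obtain ⟨h1, h2⟩ := card_fixed_class_le hn hz.1.1
      obtain ⟨-, -, hd, he⟩ := czeta_ne hn hz.1.1
      rcases hB _ (by omega) hd with h | h
      · exact h1.trans h
      · exact (h2 h.1).trans h.2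
    · rw [smul_eq_mul]
      refine Nat.mul_le_mul ((Finset.card_filter_le _ _).trans ?_) le_rfl
      rw [Finset.card_erase_of_mem (Finset.mem_univ _), Finset.card_univ, ← Nat.card_eq_fintype_card,
        GLOrder.card_center_SL, Fintype.card_fin]

theorem arith_psl {q m : ℕ} (hq : 3 ≤ q) (hm : 5 ≤ m) :
    (if m % 2 = 0 then m / 2 * q ^ (m / 2) else 0) + q * (m / 3 * q ^ (m / 3)) ≤ 2 * q ^ (m - 2) := by
  have hk : ∀ k, k + 2 ≤ q ^ (k + 1) := fun k =>
    (show k + 1 + 1 ≤ q ^ (k + 1) from (Nat.lt_pow_self (by omega : 1 < q)))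
  have hk3 : ∀ k, k + 3 ≤ q ^ (k + 1) := by
    intro k
    induction k with
    | zero => simpa using hq
    | succ k ih =>
      rw [pow_succ _ (k + 1)]
      have := Nat.mul_le_mul ih hq
      omega
  have h1 : (if m % 2 = 0 then m / 2 * q ^ (m / 2) else 0) ≤ q ^ (m - 2) := by
    split_ifs with he
    · obtain ⟨k, hk'⟩ : ∃ k, m = m / 2 + (k + 1) + 2 := ⟨m - m / 2 - 3, by omega⟩
      rw [show m - 2 = (k + 1) + m / 2 by omega, pow_add]
      exact Nat.mul_le_mul (le_trans (by omega) (hk3 k)) le_rfl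
    · exact Nat.zero_le _
  have h2 : q * (m / 3 * q ^ (m / 3)) ≤ q ^ (m - 2) := by
    obtain ⟨k, hk'⟩ : ∃ k, m = m / 3 + (k + 1) + 3 := ⟨m - m / 3 - 4, by omega⟩
    rw [show m - 2 = (k + 1) + m / 3 + 1 by omega, pow_succ', pow_add]
    exact Nat.mul_le_mul le_rfl (Nat.mul_le_mul (le_trans (by omega) (hk k)) le_rfl)
  omega

theorem psl_classes_bounds (hn : 2 ≤ n) :
    Nat.card F ^ (n - 1) ≤ Nat.gcd n (Nat.card F - 1) * Nat.card (ConjClasses (Matrix.ProjectiveSpecialLinearGroup (Fin n) F)) ∧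
      Nat.gcd n (Nat.card F - 1) * Nat.card (ConjClasses (Matrix.ProjectiveSpecialLinearGroup (Fin n) F)) ≤
        Nat.card F ^ (n - 1) + 5 * Nat.card F ^ (n - 2) := by
  classical
  have hq := Finite.one_lt_card (α := F)
  set q := Nat.card F with hqdef
  refine ⟨?_, ?_⟩
  · letI := Fintype.ofFinite (Subgroup.center (Matrix.SpecialLinearGroup (Fin n) F))
    rw [hqdef, psl_classes_eq (by omega)]
    obtain ⟨m, rfl⟩ : ∃ m, n = m + 1 := ⟨n - 1, by omega⟩
    rw [Nat.add_sub_cancel]
    exact (lt_card_classes_SL m (by omega)).le.trans (Nat.le_add_right _ _)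
  have hd : Nat.gcd n (q - 1) ≤ q - 1 := Nat.le_of_dvd (by omega) (Nat.gcd_dvd_right _ _)
  obtain rfl | rfl | rfl | hn5 : n = 2 ∨ n = 3 ∨ n = 4 ∨ 5 ≤ n := by omega
  · have h := psl_classes_le (F := F) (n := 2) (by norm_num) 1 0 (fun _ => Or.inr ⟨rfl, le_rfl⟩)
      (fun e he hed => absurd (Nat.le_of_dvd (by norm_num) hed) (by omega))
    have hk := card_classes_SL_two (F := F)
    rw [← hqdef] at h hk
    simp only [show 2 - 1 = 1 from rfl, Nat.sub_self, pow_one, pow_zero, mul_zero] at h ⊢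
    omega
  · have h := psl_classes_le (F := F) (n := 3) (by norm_num) 0 1 (by norm_num)
      (fun e he hed => Or.inr ⟨by rw [le_antisymm (Nat.le_of_dvd (by norm_num) hed) he], le_rfl⟩)
    have hk := card_classes_SL_three (F := F)
    rw [← hqdef] at h hk
    rw [Nat.gcd_comm (q - 1) 3] at hk
    simp only [show 3 - 1 = 2 from rfl, show 3 - 2 = 1 from rfl, pow_one, mul_one] at h ⊢
    rcases (Nat.dvd_prime Nat.prime_three).1 (Nat.gcd_dvd_left 3 (q - 1)) with e | e <;> rw [e] at h hk hd ⊢ <;> omega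
  · have h := psl_classes_le (F := F) (n := 4) (by norm_num) (2 * q ^ 2) 1 (fun _ => Or.inl le_rfl)
      (fun e he hed => by
        have h4 : e = 4 := by
          have := Nat.le_of_dvd (by norm_num) hed
          interval_cases e
          · norm_num at hed
          · rfl
        subst h4
        exact Or.inr ⟨rfl, le_rfl⟩)
    have hk := card_classes_SL_four (F := F)
    rw [← hqdef] at h hk
    rw [Nat.gcd_comm (q - 1) 4] at hk
    simp only [show 4 - 1 = 3 from rfl, show 4 - 2 = 2 from rfl, mul_one] at h ⊢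
    rcases (show q = 2 ∨ q = 3 ∨ q = 4 ∨ 5 ≤ q by omega) with e | e | e | e
    · rw [e] at h hk ⊢; norm_num at h hk ⊢; omega
    · rw [e] at h hk ⊢; norm_num at h hk ⊢; omega
    · rw [e] at h hk ⊢; norm_num at h hk ⊢; omega
    · have h2 : Nat.gcd (q - 1) 2 ≤ 2 := Nat.le_of_dvd (by omega) (Nat.gcd_dvd_right _ _)
      have h4 : Nat.gcd 4 (q - 1) ≤ 4 := Nat.le_of_dvd (by omega) (Nat.gcd_dvd_left _ _)
      have h5 : 5 * q ≤ q ^ 2 := by rw [sq]; exact Nat.mul_le_mul e le_rfl
      have h6 := Nat.mul_le_mul h4 h4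
      have h7 := Nat.mul_le_mul (Nat.mul_le_mul h2 h2) (le_refl q)
      omega
  · have hk := card_classes_SL_le (F := F) (n := n) (by omega)
    rw [← hqdef] at hk
    rcases (show q = 2 ∨ 3 ≤ q by omega) with h2 | h3
    · letI := Fintype.ofFinite (Subgroup.center (Matrix.SpecialLinearGroup (Fin n) F))
      haveI : Nonempty (Fin n) := ⟨⟨0, by omega⟩⟩
      rw [hqdef, psl_classes_eq (by omega), show Finset.univ.erase (1 : Subgroup.center (Matrix.SpecialLinearGroup (Fin n) F)) = ∅
        from Finset.card_eq_zero.1 (by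
          rw [Finset.card_erase_of_mem (Finset.mem_univ _), Finset.card_univ, ← Nat.card_eq_fintype_card,
            GLOrder.card_center_SL, ← hqdef, h2]; simp), Finset.sum_empty, ← hqdef]
      omega
    · have h := psl_classes_le (F := F) (n := n) (by omega) (if n % 2 = 0 then n / 2 * q ^ (n / 2) else 0)
        (n / 3 * q ^ (n / 3)) (fun he => Or.inl (by rw [if_pos he]))
        (fun e he hed => Or.inl (Nat.mul_le_mul (Nat.div_le_div_left he (by norm_num))
          (Nat.pow_le_pow_right (by omega) (Nat.div_le_div_left he (by norm_num)))))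
      rw [← hqdef] at h
      have h1 : (Nat.gcd n (q - 1) - 1) * (n / 3 * q ^ (n / 3)) ≤ q * (n / 3 * q ^ (n / 3)) :=
        Nat.mul_le_mul (by omega) le_rfl
      have h2 := arith_psl h3 hn5
      omega

end Cfsg.Agent.SLComm
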