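import Cfsg.Agent.Lib.SLComm.SLClasses

/-!
# Upper bounds for the class number of `SL_n`

* `card_classes_SL_le_parts` : the split into tuples with and without a part of weight one;
* `card_classes_SL_two`, `card_classes_SL_le` : `k ≤ q + 4` for `n = 2` and `k ≤ q^(n-1) + 3 q^(n-2)` for `n ≥ 3`.
-/

set_option autoImplicit false
set_option linter.style.haveILetI false
set_option linter.unusedVariables false
set_option linter.unusedSectionVars false

namespace Cfsg.Agent.SLComm

open Polynomial Module Matrix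

variable {F : Type*} [Field F] [Finite F]

theorem sum_down (n : ℕ) (g : ℕ → ℕ) : ((down n).map g).sum = ∑ i ∈ Finset.Icc 1 n, g i := by
  classical
  rw [← List.sum_toFinset _ (down_nodup n).1]
  congr 1
  ext i
  rw [List.mem_toFinset, (down_nodup n).2, Finset.mem_Icc]

theorem sum_downTwo (n : ℕ) (g : ℕ → ℕ) : ((downTwo n).map g).sum = ∑ i ∈ Finset.Icc 2 n, g i := by
  classical
  rw [← List.sum_toFinset _ (downTwo_nodup n).1]
  congr 1
  ext i
  rw [List.mem_toFinset, (downTwo_nodup n).2, Finset.mem_Icc]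

theorem mem_tupSet_down {n m : ℕ} {f : ℕ → F[X]} : f ∈ tupSet F (down n) m ↔
    (∀ i, ¬ (1 ≤ i ∧ i ≤ n) → f i = 1) ∧ (∀ i, (f i).Monic ∧ (f i).coeff 0 ≠ 0) ∧
      ∑ i ∈ Finset.Icc 1 n, i * (f i).natDegree = m := by
  simp only [tupSet, Set.mem_setOf_eq, sum_down, (down_nodup n).2]

theorem Icc_one (n : ℕ) (hn : 1 ≤ n) : Finset.Icc 1 n = insert 1 (Finset.Icc 2 n) := by
  ext i; simp only [Finset.mem_Icc, Finset.mem_insert]; omega

variable (F) in
/-- Monic polynomials of degree `j + 1` whose determinant lies in `S`. -/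
def monicDet (j : ℕ) (S : Set F) : Set F[X] := {p | p.Monic ∧ p.natDegree = j + 1 ∧ tdet.cdetT p ∈ S}

theorem monicDet_card (j : ℕ) (S : Set F) :
    (monicDet F j S).Finite ∧ (monicDet F j S).ncard ≤ S.ncard * Nat.card F ^ j := by
  classical
  haveI := Fintype.ofFinite F
  let φ : F[X] → F × (Fin j → F) := fun p => (tdet.cdetT p, fun i => p.coeff (i.val + 1))
  have hinj : Set.InjOn φ (monicDet F j S) := by
    rintro p ⟨hp, hpd, -⟩ p' ⟨hp', hpd', -⟩ he
    simp only [φ, Prod.mk.injEq] at he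
    refine Polynomial.ext fun i => ?_
    rcases lt_trichotomy i (j + 1) with hi | hi | hi
    · rcases i with _ | i
      · have := he.1
        rw [tdet.cdetT, tdet.cdetT, hpd, hpd'] at this
        exact mul_left_cancel₀ (pow_ne_zero _ (neg_ne_zero.2 one_ne_zero)) this
      · exact congrFun he.2 ⟨i, by omega⟩
    · subst hi
      nth_rw 1 [← hpd]
      rw [hp.coeff_natDegree, ← hpd', hp'.coeff_natDegree]
    · rw [coeff_eq_zero_of_natDegree_lt (by omega), coeff_eq_zero_of_natDegree_lt (by omega)]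
  have hsub : φ '' monicDet F j S ⊆ S ×ˢ (Set.univ : Set (Fin j → F)) := by
    rintro _ ⟨p, hp, rfl⟩
    exact ⟨hp.2.2, Set.mem_univ _⟩
  refine ⟨Set.Finite.of_finite_image (Set.toFinite _) hinj, ?_⟩
  rw [← hinj.ncard_image]
  refine (Set.ncard_le_ncard hsub (Set.toFinite _)).trans ?_
  rw [Set.ncard_prod, Set.ncard_univ, Nat.card_fun, Nat.card_fin]

/-- The tuples with a part of weight one. -/
theorem card_part_one (n : ℕ) (A : Finset (ℕ → F[X])) (hA : ∀ f ∈ A, f ∈ slTupSet F (n + 1) ∧ f 1 ≠ 1) :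
    A.card ≤ ∑ j ∈ Finset.range (n + 1), Nat.card F ^ j * cnt (Nat.card F) (downTwo (n + 1)) (n - j) := by
  classical
  have hT := fun j => tupSet_finite_card (F := F) (downTwo (n + 1)) (downTwo_nodup _).1
    (fun w hw => by have := ((downTwo_nodup _).2 w).1 hw; omega) (n - j)
  set tgt : (ℕ → F[X]) → Set F := fun r => {x | x * ∏ i ∈ Finset.Icc 2 (n + 1), tdet.cdetT (r i) ^ i = 1}
  have htgt : ∀ r, (tgt r).ncard ≤ 1 := fun r => by
    refine (Set.ncard_le_one (Set.toFinite _)).2 fun a ha b hb => ?_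
    exact mul_right_cancel₀ (right_ne_zero_of_mul_eq_one ha) (ha.trans hb.symm)
  have hsub : (A : Set (ℕ → F[X])) ⊆ ⋃ j ∈ Finset.range (n + 1), ⋃ r ∈ (hT j).1.toFinset,
      (fun p : F[X] => Function.update r 1 p) '' monicDet F j (tgt r) := by
    intro f hf
    obtain ⟨⟨hmem, hdet⟩, hne⟩ := hA f hf
    obtain ⟨h1, h2, h3⟩ := mem_tupSet_down.1 hmem
    rw [Icc_one _ (by omega), Finset.sum_insert (by simp), one_mul] at h3
    rw [tdet, Icc_one _ (by omega), Finset.prod_insert (by simp), pow_one] at hdet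
    have hd : 0 < (f 1).natDegree := Nat.pos_of_ne_zero fun e => hne ((h2 1).1.natDegree_eq_zero.1 e)
    set r := Function.update f 1 (1 : F[X]) with hr
    have hr2 : ∀ i ∈ Finset.Icc 2 (n + 1), r i = f i := fun i hi => by
      rw [hr, Function.update_of_ne]
      rw [Finset.mem_Icc] at hi
      omega
    refine Set.mem_iUnion₂.2 ⟨(f 1).natDegree - 1, Finset.mem_range.2 (by omega), Set.mem_iUnion₂.2 ⟨r, ?_, f 1, ?_, ?_⟩⟩
    · rw [Set.Finite.mem_toFinset]
      refine ⟨fun i hi => ?_, fun i => ?_, ?_⟩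
      · rw [(downTwo_nodup _).2] at hi
        by_cases e : i = 1
        · subst e; simp [hr]
        · rw [hr, Function.update_of_ne e]; exact h1 i (by omega)
      · by_cases e : i = 1
        · subst e; simp [hr]
        · rw [hr, Function.update_of_ne e]; exact h2 i
      · rw [sum_downTwo, Finset.sum_congr rfl fun i hi => by rw [hr2 i hi]]
        omega
    · refine ⟨(h2 1).1, by omega, ?_⟩
      show _ * _ = (1 : F)
      rw [Finset.prod_congr rfl fun i hi => by rw [hr2 i hi], hdet]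
    · simp [hr]
  have hfin : ∀ j, ∀ r, ((fun p : F[X] => Function.update r 1 p) '' monicDet F j (tgt r)).Finite := fun j r =>
    (monicDet_card j _).1.image _
  have hfin2 : ∀ j ∈ Finset.range (n + 1), (⋃ r ∈ (hT j).1.toFinset,
      (fun p : F[X] => Function.update r 1 p) '' monicDet F j (tgt r)).Finite := fun j _ =>
    (Finset.finite_toSet _).biUnion fun r _ => hfin j r
  rw [← Set.ncard_coe_finset]
  refine (Set.ncard_le_ncard hsub ((Finset.finite_toSet _).biUnion hfin2)).trans ?_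
  refine (Finset.set_ncard_biUnion_le _ _).trans (Finset.sum_le_sum fun j _ => ?_)
  refine (Finset.set_ncard_biUnion_le _ _).trans ?_
  refine le_trans (Finset.sum_le_card_nsmul _ _ (Nat.card F ^ j) fun r _ => ?_) ?_
  · refine (Set.ncard_image_le (monicDet_card j _).1).trans ((monicDet_card j _).2.trans ?_)
    exact (Nat.mul_le_mul (htgt r) le_rfl).trans (one_mul _).le
  · rw [smul_eq_mul, mul_comm, ← Set.ncard_eq_toFinset_card _ (hT j).1]
    exact Nat.mul_le_mul le_rfl (hT j).2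

/-- The tuples without a part of weight one and supported on multiples of `d`. -/
theorem card_part_mult {n d : ℕ} (hd : 0 < d) (B : Finset (ℕ → F[X]))
    (hB : ∀ f ∈ B, f ∈ slTupSet F n ∧ ∀ i, f i ≠ 1 → d ∣ i) : B.card ≤ Nat.card F ^ (n / d) := by
  classical
  have hT := tupSet_finite_card (F := F) (down (n / d)) (down_nodup _).1 (down_pos _) (n / d)
  rw [← Set.ncard_coe_finset]
  refine (Set.ncard_le_ncard_of_injOn (fun f i => f (d * i)) (fun f hf => ?_) ?_ hT.1).trans
    (hT.2.trans (cnt_down_le _ Nat.card_pos _ _))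
  · obtain ⟨⟨hmem, -⟩, hdvd⟩ := hB f hf
    obtain ⟨h1, h2, h3⟩ := mem_tupSet_down.1 hmem
    refine mem_tupSet_down.2 ⟨fun i hi => h1 _ fun h => hi ?_, fun i => h2 _, ?_⟩
    · refine ⟨Nat.pos_of_ne_zero fun e => by simp [e] at h, ?_⟩
      rw [Nat.le_div_iff_mul_le hd, mul_comm]; exact h.2
    · have key : ∑ i ∈ Finset.Icc 1 n, i * (f i).natDegree =
          ∑ i ∈ Finset.Icc 1 (n / d), d * (i * (f (d * i)).natDegree) := by
        rw [← Finset.sum_subset (s₁ := (Finset.Icc 1 (n / d)).image (d * ·)) ?_ ?_, Finset.sum_image]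
        · exact Finset.sum_congr rfl fun i _ => mul_assoc _ _ _
        · exact fun a _ b _ e => Nat.eq_of_mul_eq_mul_left hd e
        · intro i hi
          obtain ⟨a, ha, rfl⟩ := Finset.mem_image.1 hi
          rw [Finset.mem_Icc] at ha ⊢
          refine ⟨Nat.mul_pos hd (by omega), ?_⟩
          have := (Nat.le_div_iff_mul_le hd).1 ha.2
          rw [mul_comm]; exact this
        · intro i hi hni
          by_contra hne
          have hfi : f i ≠ 1 := fun e => hne (by rw [e, natDegree_one, mul_zero])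
          obtain ⟨a, rfl⟩ := hdvd i hfi
          refine hni (Finset.mem_image.2 ⟨a, ?_, rfl⟩)
          rw [Finset.mem_Icc] at hi ⊢
          refine ⟨Nat.pos_of_ne_zero fun e => by simp [e] at hi, ?_⟩
          rw [Nat.le_div_iff_mul_le hd, mul_comm]; exact hi.2
      rw [h3, ← Finset.mul_sum] at key
      exact (Nat.div_eq_of_eq_mul_right hd key).symm
  · intro f hf g hg he
    funext i
    by_cases hi : d ∣ i
    · obtain ⟨a, rfl⟩ := hi
      exact congrFun he a
    · rw [by_contra fun h => hi ((hB f hf).2 i h), by_contra fun h => hi ((hB g hg).2 i h)]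

theorem dvd_of_mem {n : ℕ} {f : ℕ → F[X]} {d : ℕ} (hf : f ∈ slTupSet F n) (hd : d ∣ tg n f) :
    (∀ i, f i ≠ 1 → d ∣ i) ∧ d ∣ n := by
  classical
  obtain ⟨h1, h2, h3⟩ := mem_tupSet_down.1 hf.1
  have hsupp : ∀ i, f i ≠ 1 → d ∣ i := by
    intro i hi
    refine hd.trans ((Nat.gcd_dvd_left _ _).trans (Finset.gcd_dvd (f := id) (Finset.mem_filter.2 ⟨?_, hi⟩)))
    rw [Finset.mem_Icc]
    exact by_contra fun h => hi (h1 i h)
  refine ⟨hsupp, h3 ▸ Finset.dvd_sum fun i _ => ?_⟩
  by_cases hi : f i = 1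
  · rw [hi, natDegree_one, mul_zero]; exact dvd_zero d
  · exact (hsupp i hi).trans (dvd_mul_right _ _)

theorem tg_dvd_card (n : ℕ) (f : ℕ → F[X]) : tg n f ∣ Nat.card F - 1 := Nat.gcd_dvd_right _ _

/-- The sum over the tuples with a part of weight one. -/
def sumOne (q n : ℕ) : ℕ := ∑ j ∈ Finset.range (n + 1), q ^ j * cnt q (downTwo (n + 1)) (n - j)

theorem cnt_down_eq_sumOne (q n : ℕ) :
    (q - 1) * sumOne q n + cnt q (downTwo (n + 1)) (n + 1) = cnt q (down (n + 1)) (n + 1) := by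
  rw [cnt_perm q (down_perm n) (down_pos _), cnt_one_cons, Finset.sum_range_succ' _ (n + 1), sumOne, Finset.mul_sum]
  congr 1
  · refine Finset.sum_congr rfl fun j _ => ?_
    rw [Nat.succ_sub_succ_eq_sub, cc, mul_assoc]
  · simp [cc]

theorem card_classes_SL_le_split (n : ℕ) : ∃ B : Finset (ℕ → F[X]),
    (∀ f ∈ B, f ∈ slTupSet F (n + 1) ∧ f 1 = 1) ∧
    Nat.card (ConjClasses (Matrix.SpecialLinearGroup (Fin (n + 1)) F)) ≤ sumOne (Nat.card F) n + ∑ f ∈ B, tg (n + 1) f := by
  classical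
  set S := (slTupSet_finite (F := F) (n + 1)).toFinset
  refine ⟨S.filter fun f => f 1 = 1, fun f hf => ?_, card_classes_SL_le_sum.trans ?_⟩
  · rw [Finset.mem_filter, Set.Finite.mem_toFinset] at hf
    exact hf
  rw [← Finset.sum_filter_add_sum_filter_not S (fun f => f 1 = 1), add_comm]
  refine Nat.add_le_add_right ?_ _
  refine le_trans (Finset.sum_le_card_nsmul _ _ 1 fun f hf => ?_) ?_
  · rw [Finset.mem_filter] at hf
    refine Nat.le_of_dvd one_pos ((Nat.gcd_dvd_left _ _).trans (Finset.gcd_dvd (f := id) (b := 1) ?_))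
    rw [Finset.mem_filter, Finset.mem_Icc]
    exact ⟨by omega, hf.2⟩
  · rw [smul_eq_mul, mul_one]
    refine card_part_one n _ fun f hf => ?_
    rw [Finset.mem_filter, Set.Finite.mem_toFinset] at hf
    exact hf

theorem sum_tg_le (n : ℕ) (B : Finset (ℕ → F[X])) (hB : ∀ f ∈ B, f ∈ slTupSet F n ∧ f 1 = 1) (hn : 1 ≤ n) :
    ∑ f ∈ B, tg n f ≤ cnt (Nat.card F) (downTwo n) n +
      ∑ d ∈ (Nat.gcd n (Nat.card F - 1)).divisors.erase 1, Nat.totient d * Nat.card F ^ (n / d) := by
  classical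
  have hq := Finite.one_lt_card (α := F)
  have hh0 : Nat.gcd n (Nat.card F - 1) ≠ 0 := (Nat.gcd_pos_of_pos_left _ hn).ne'
  have hg : ∀ f ∈ B, tg n f = ∑ d ∈ (Nat.gcd n (Nat.card F - 1)).divisors, if d ∣ tg n f then Nat.totient d else 0 := by
    intro f hf
    have hdvd : tg n f ∣ Nat.gcd n (Nat.card F - 1) :=
      Nat.dvd_gcd (dvd_of_mem (hB f hf).1 dvd_rfl).2 (tg_dvd_card n f)
    rw [← Finset.sum_filter, Nat.divisors_filter_dvd_of_dvd hh0 hdvd, Nat.sum_totient]
  rw [Finset.sum_congr rfl hg, Finset.sum_comm,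
    ← Finset.add_sum_erase _ _ (Nat.one_mem_divisors.2 hh0)]
  refine add_le_add ?_ (Finset.sum_le_sum fun d hd => ?_)
  · have hT := tupSet_finite_card (F := F) (downTwo n) (downTwo_nodup n).1
      (fun w hw => by have := ((downTwo_nodup n).2 w).1 hw; omega) n
    simp only [one_dvd, if_true, Nat.totient_one, Finset.sum_const, smul_eq_mul, mul_one]
    rw [← Set.ncard_coe_finset]
    refine (Set.ncard_le_ncard (fun f hf => ?_) hT.1).trans hT.2
    obtain ⟨⟨hmem, -⟩, h11⟩ := hB f hf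
    obtain ⟨h1, h2, h3⟩ := mem_tupSet_down.1 hmem
    refine ⟨fun i hi => ?_, h2, ?_⟩
    · rw [(downTwo_nodup n).2] at hi
      by_cases e : i = 1
      · rw [e, h11]
      · exact h1 i (by omega)
    · rw [sum_downTwo]
      rw [Icc_one n hn, Finset.sum_insert (by simp), h11, natDegree_one, mul_zero, zero_add] at h3
      exact h3
  · rw [Finset.mem_erase, Nat.mem_divisors] at hd
    rw [← Finset.sum_filter, Finset.sum_const, smul_eq_mul, mul_comm]
    refine Nat.mul_le_mul le_rfl (card_part_mult (Nat.pos_of_dvd_of_pos hd.2.1 (Nat.pos_of_ne_zero hh0)) _ fun f hf => ?_)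
    rw [Finset.mem_filter] at hf
    exact ⟨(hB f hf.1).1, (dvd_of_mem (hB f hf.1).1 hf.2).1⟩

theorem sum_divisors_le {q n : ℕ} (hq : 3 ≤ q) :
    ∑ d ∈ (Nat.gcd n (q - 1)).divisors.erase 1, Nat.totient d * q ^ (n / d) ≤
      (if n % 2 = 0 then q ^ (n / 2) else 0) + (q - 1) * q ^ (n / 3) := by
  classical
  set h := Nat.gcd n (q - 1)
  have hh0 : 0 < h := Nat.gcd_pos_of_pos_right _ (by omega)
  rw [← Finset.sum_filter_add_sum_filter_not _ (fun d => d = 2)]
  refine add_le_add ?_ ?_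
  · split_ifs with he
    · refine (Finset.sum_le_sum_of_subset (t := {2}) ?_).trans (by simp)
      intro d hd
      simp only [Finset.mem_filter] at hd
      simp [hd.2]
    · refine le_of_eq (Finset.sum_eq_zero fun d hd => ?_)
      simp only [Finset.mem_filter, Finset.mem_erase, Nat.mem_divisors] at hd
      obtain ⟨⟨-, hdd, -⟩, rfl⟩ := hd
      exact absurd (Nat.mod_eq_zero_of_dvd (hdd.trans (Nat.gcd_dvd_left _ _))) he
  · calc ∑ d ∈ ((h.divisors.erase 1).filter fun d => ¬ d = 2), Nat.totient d * q ^ (n / d)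
        ≤ ∑ d ∈ ((h.divisors.erase 1).filter fun d => ¬ d = 2), Nat.totient d * q ^ (n / 3) := by
          refine Finset.sum_le_sum fun d hd => Nat.mul_le_mul le_rfl (Nat.pow_le_pow_right (by omega) ?_)
          simp only [Finset.mem_filter, Finset.mem_erase] at hd
          have := Nat.pos_of_mem_divisors hd.1.2
          exact Nat.div_le_div_left (by omega) (by norm_num)
      _ = (∑ d ∈ ((h.divisors.erase 1).filter fun d => ¬ d = 2), Nat.totient d) * q ^ (n / 3) := by
          rw [Finset.sum_mul]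
      _ ≤ (q - 1) * q ^ (n / 3) := by
          refine Nat.mul_le_mul ?_ le_rfl
          refine (Finset.sum_le_sum_of_subset ((Finset.filter_subset _ _).trans (Finset.erase_subset _ _))).trans ?_
          rw [Nat.sum_totient]
          exact Nat.le_of_dvd (by omega) (Nat.gcd_dvd_right _ _)

theorem arith_large {q n : ℕ} (hq : 3 ≤ q) (hn : 5 ≤ n) :
    2 * (if n % 2 = 0 then q ^ (n / 2) else 0) + (q - 1) * q ^ (n / 3) ≤ q ^ (n - 2) := by
  have hq1 : q - 1 ≤ q := Nat.sub_le _ _
  rcases Nat.lt_or_ge n 6 with h6 | h6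
  · obtain rfl : n = 5 := by omega
    norm_num
    calc (q - 1) * q ≤ q * q := Nat.mul_le_mul hq1 le_rfl
      _ ≤ q * q * q := Nat.le_mul_of_pos_right _ (by omega)
      _ = q ^ 3 := by ring
  have h1 : (if n % 2 = 0 then q ^ (n / 2) else 0) ≤ q ^ (n - 3) := by
    split_ifs
    · exact Nat.pow_le_pow_right (by omega) (by omega)
    · exact Nat.zero_le _
  have h2 : q ^ (n / 3 + 1) ≤ q ^ (n - 3) := Nat.pow_le_pow_right (by omega) (by omega)
  have h3 : (q - 1) * q ^ (n / 3) ≤ q ^ (n / 3 + 1) := by rw [pow_succ']; exact Nat.mul_le_mul hq1 le_rfl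
  have h4 : 3 * q ^ (n - 3) ≤ q ^ (n - 2) := by
    rw [show n - 2 = n - 3 + 1 by omega, pow_succ']; exact Nat.mul_le_mul hq le_rfl
  omega

theorem arith_combine {Q s T D e P1 P2 : ℕ} {q : ℕ} (hq : 3 ≤ q) (hQ : (q - 1) * s + T + 1 ≤ Q) (hQ1 : Q = q * P1)
    (hP : P1 = q * P2) (hT : T + 1 ≤ e + P2) (hD : e + D ≤ P2) : s + T + D ≤ P1 + 3 * P2 := by
  obtain ⟨r, rfl⟩ : ∃ r, q = r + 2 := ⟨q - 2, by omega⟩
  rw [show r + 2 - 1 = r + 1 by omega] at hQ
  subst hQ1 hP
  by_contra hlt
  nlinarith [Nat.mul_le_mul (le_refl r) hT, Nat.mul_le_mul (le_refl r) hD]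

theorem card_classes_SL_two : Nat.card (ConjClasses (Matrix.SpecialLinearGroup (Fin 2) F)) ≤ Nat.card F + 4 := by
  classical
  obtain ⟨B, hB, hle⟩ := card_classes_SL_le_split (F := F) 1
  refine hle.trans (add_le_add ?_ ?_)
  · simp [sumOne, Finset.sum_range_succ, cnt, downTwo, Finset.sum_filter, cc]
  · have hsub : (B : Set (ℕ → F[X])) ⊆ (fun p : F[X] => Function.update (fun _ => (1 : F[X])) 2 p) ''
        monicDet F 0 {x | x ^ 2 = 1} := by
      intro f hf
      obtain ⟨⟨hmem, hdet⟩, h11⟩ := hB f hf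
      obtain ⟨h1, h2, h3⟩ := mem_tupSet_down.1 hmem
      simp [Finset.sum_Icc_succ_top, h11] at h3
      simp [tdet, Finset.prod_Icc_succ_top, h11, tdet.cdetT] at hdet
      refine ⟨f 2, ⟨(h2 2).1, by omega, ?_⟩, funext fun i => ?_⟩
      · simpa [tdet.cdetT] using hdet
      · by_cases e : i = 2
        · subst e; simp
        · simp only [Function.update_of_ne e]
          by_cases e1 : i = 1
          · rw [e1, h11]
          · exact (h1 i (by omega)).symm
    have hcard : B.card ≤ 2 := by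
      rw [← Set.ncard_coe_finset]
      refine (Set.ncard_le_ncard hsub ((monicDet_card 0 _).1.image _)).trans ?_
      refine (Set.ncard_image_le (monicDet_card 0 _).1).trans ((monicDet_card 0 _).2.trans ?_)
      rw [pow_zero, mul_one, show {x : F | x ^ 2 = 1} = {1, -1} from Set.ext fun x => by simp [sq_eq_one_iff]]
      exact (Set.ncard_insert_le _ _).trans (by simp)
    calc ∑ f ∈ B, tg 2 f ≤ B.card * 2 := by
          refine (Finset.sum_le_card_nsmul _ _ 2 fun f hf => ?_).trans (by simp)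
          exact Nat.le_of_dvd two_pos (dvd_of_mem (hB f hf).1 dvd_rfl).2
      _ ≤ 4 := by omega

theorem card_classes_SL_two_of_two (h2 : Nat.card F = 2) :
    Nat.card (ConjClasses (Matrix.SpecialLinearGroup (Fin 2) F)) ≤ 4 := by
  classical
  refine card_classes_SL_le_sum.trans ((Finset.sum_le_card_nsmul _ _ 1 fun f _ => ?_).trans ?_)
  · exact Nat.le_of_dvd one_pos (by simpa [h2] using tg_dvd_card 2 f)
  · rw [smul_eq_mul, mul_one, ← Set.ncard_eq_toFinset_card _ (slTupSet_finite (F := F) 2)]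
    have hT := tupSet_finite_card (F := F) (down 2) (down_nodup 2).1 (down_pos 2) 2
    refine (Set.ncard_le_ncard (Set.sep_subset _ _) hT.1).trans (hT.2.trans ?_)
    exact (cnt_down_le _ (by omega) 2 2).trans (by rw [h2]; norm_num)

/-- Elements with a given power. -/
theorem ncard_pow_eq_one (w : ℕ) (hw : 0 < w) :
    ({x : F | x ^ w = 1} : Set F).ncard ≤ Nat.gcd (Nat.card F - 1) w := by
  classical
  have hsub : ({x : F | x ^ w = 1} : Set F) ⊆ (fun u : Fˣ => (u : F)) '' ((powMonoidHom w : Fˣ →* Fˣ).ker : Set Fˣ) := by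
    intro x hx
    have hx0 : x ≠ 0 := fun e => by simp [e, zero_pow hw.ne'] at hx
    exact ⟨Units.mk0 x hx0, Units.ext hx, rfl⟩
  refine (Set.ncard_le_ncard hsub (Set.toFinite _)).trans ((Set.ncard_image_le (Set.toFinite _)).trans ?_)
  rw [← Nat.card_coe_set_eq, ← Nat.card_units]
  exact (IsCyclic.card_powMonoidHom_ker (G := Fˣ) w).le

theorem single_part {n : ℕ} (B : Finset (ℕ → F[X])) (hB : ∀ f ∈ B, f ∈ slTupSet F n)
    (w j : ℕ) (hw : 1 ≤ w ∧ w ≤ n) (hone : ∀ f ∈ B, (∀ i, i ≠ w → f i = 1) ∧ (f w).natDegree = j + 1) :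
    ∑ f ∈ B, tg n f ≤ Nat.gcd (Nat.card F - 1) w * (Nat.gcd (Nat.card F - 1) w * Nat.card F ^ j) := by
  classical
  have hq := Finite.one_lt_card (α := F)
  have hsub : (B : Set (ℕ → F[X])) ⊆ (fun p : F[X] => Function.update (fun _ => (1 : F[X])) w p) ''
      monicDet F j {x | x ^ w = 1} := by
    intro f hf
    obtain ⟨ho, hd⟩ := hone f hf
    obtain ⟨hmem, hdet⟩ := hB f hf
    obtain ⟨h1, h2, h3⟩ := mem_tupSet_down.1 hmem
    refine ⟨f w, ⟨(h2 w).1, hd, ?_⟩, funext fun i => ?_⟩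
    · show _ ^ w = 1
      rw [tdet, Finset.prod_eq_single w (fun i _ hi => by rw [ho i hi]; simp [tdet.cdetT])
        (fun h => absurd (Finset.mem_Icc.2 hw) h)] at hdet
      exact hdet
    · by_cases e : i = w
      · subst e; simp
      · simp only [Function.update_of_ne e, ho i e]
  refine (Finset.sum_le_card_nsmul _ _ (Nat.gcd (Nat.card F - 1) w) fun f hf => ?_).trans ?_
  · refine Nat.le_of_dvd (Nat.gcd_pos_of_pos_right _ hw.1) (Nat.dvd_gcd (tg_dvd_card n f) ?_)
    refine (dvd_of_mem (hB f hf) dvd_rfl).1 w fun e => ?_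
    have := (hone f hf).2
    rw [e, natDegree_one] at this
    omega
  · rw [smul_eq_mul, mul_comm]
    refine Nat.mul_le_mul le_rfl ?_
    rw [← Set.ncard_coe_finset]
    refine (Set.ncard_le_ncard hsub ((monicDet_card _ _).1.image _)).trans ?_
    refine (Set.ncard_image_le (monicDet_card _ _).1).trans ((monicDet_card _ _).2.trans ?_)
    exact Nat.mul_le_mul (ncard_pow_eq_one w hw.1) le_rfl

theorem card_classes_SL_three :
    Nat.card (ConjClasses (Matrix.SpecialLinearGroup (Fin 3) F)) ≤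
      Nat.card F ^ 2 + (Nat.card F - 1) + Nat.gcd (Nat.card F - 1) 3 * Nat.gcd (Nat.card F - 1) 3 := by
  classical
  obtain ⟨B, hB, hle⟩ := card_classes_SL_le_split (F := F) 2
  refine hle.trans (add_le_add ?_ ?_)
  · simp [sumOne, Finset.sum_range_succ, cnt, downTwo, Finset.sum_filter, cc]
    omega
  · refine (single_part B (fun f hf => (hB f hf).1) 3 0 (by omega) fun f hf => ?_).trans (by simp)
    obtain ⟨h1, h2, h3⟩ := mem_tupSet_down.1 (hB f hf).1.1
    simp [Finset.sum_Icc_succ_top, (hB f hf).2] at h3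
    refine ⟨fun i hi => ?_, by omega⟩
    by_cases e1 : i = 1
    · rw [e1, (hB f hf).2]
    by_cases e2 : i = 2
    · subst e2
      exact (h2 2).1.natDegree_eq_zero.1 (by omega)
    exact h1 i (by omega)

theorem card_classes_SL_four :
    Nat.card (ConjClasses (Matrix.SpecialLinearGroup (Fin 4) F)) ≤
      Nat.card F ^ 3 + Nat.card F ^ 2 + Nat.gcd (Nat.card F - 1) 4 * Nat.gcd (Nat.card F - 1) 4 +
        Nat.gcd (Nat.card F - 1) 2 * Nat.gcd (Nat.card F - 1) 2 * Nat.card F := by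
  classical
  obtain ⟨B, hB, hle⟩ := card_classes_SL_le_split (F := F) 3
  have hq := Finite.one_lt_card (α := F)
  have hs : sumOne (Nat.card F) 3 ≤ Nat.card F ^ 3 + Nat.card F ^ 2 := by
    have hlow : ∀ r, r ≤ 3 → cnt (Nat.card F) (downTwo 4) r = cnt (Nat.card F) (downTwo 3) r := fun r hr => by
      rw [show downTwo 4 = 4 :: downTwo 3 from rfl, cnt_eq_add_dd, dd_lt _ _ _ (by omega), add_zero]
    have hlow3 : ∀ r, r ≤ 2 → cnt (Nat.card F) (downTwo 3) r = cnt (Nat.card F) [2] r := fun r hr => by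
      rw [show downTwo 3 = 3 :: [2] from rfl, cnt_eq_add_dd, dd_lt _ _ _ (by omega), add_zero]
    have h33 : cnt (Nat.card F) (downTwo 3) 3 = Nat.card F - 1 := by
      rw [show downTwo 3 = 3 :: [2] from rfl, cnt_eq_add_dd, show (3 : ℕ) = 0 + 3 from rfl, dd_step _ (by norm_num),
        dd_lt _ _ _ (by norm_num)]
      simp [cnt_two_weight, cc]
    simp only [sumOne, Finset.sum_range_succ, Finset.sum_range_zero, Nat.sub_self, Nat.sub_zero, zero_add,
      hlow 3 le_rfl, h33, show 3 - 1 = 2 from rfl, show 3 - 2 = 1 from rfl,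
      hlow 2 (by norm_num), hlow 1 (by norm_num), hlow 0 (by norm_num), hlow3 2 le_rfl, hlow3 1 (by norm_num),
      hlow3 0 (by norm_num), cnt_two_weight]
    norm_num [cc]
    obtain ⟨r, hr⟩ : ∃ r, Nat.card F = r + 1 := ⟨Nat.card F - 1, by omega⟩
    rw [hr, Nat.add_sub_cancel]
    nlinarith
  refine hle.trans ?_
  rw [← Finset.sum_filter_add_sum_filter_not B (fun f => f 4 ≠ 1)]
  have hdeg : ∀ f ∈ B, (∀ i, i ≠ 2 → i ≠ 4 → f i = 1) ∧ (f 2).Monic ∧ (f 4).Monic ∧
      2 * (f 2).natDegree + 4 * (f 4).natDegree = 4 := by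
    intro f hf
    obtain ⟨h1, h2, h3⟩ := mem_tupSet_down.1 (hB f hf).1.1
    simp [Finset.sum_Icc_succ_top, (hB f hf).2] at h3
    refine ⟨fun i hi2 hi4 => ?_, (h2 2).1, (h2 4).1, by omega⟩
    by_cases e1 : i = 1
    · rw [e1, (hB f hf).2]
    by_cases e3 : i = 3
    · subst e3
      exact (h2 3).1.natDegree_eq_zero.1 (by omega)
    exact h1 i (by omega)
  have hA := single_part (B.filter fun f => f 4 ≠ 1) (fun f hf => (hB f (Finset.mem_filter.1 hf).1).1) 4 0 (by omega)
    fun f hf => by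
      rw [Finset.mem_filter] at hf
      obtain ⟨ho, hm2, hm4, hd⟩ := hdeg f hf.1
      have : 0 < (f 4).natDegree := Nat.pos_of_ne_zero fun e => hf.2 (hm4.natDegree_eq_zero.1 e)
      refine ⟨fun i hi => ?_, by omega⟩
      by_cases e : i = 2
      · subst e; exact hm2.natDegree_eq_zero.1 (by omega)
      · exact ho i e hi
  have hC := single_part (B.filter fun f => ¬ f 4 ≠ 1) (fun f hf => (hB f (Finset.mem_filter.1 hf).1).1) 2 1 (by omega)
    fun f hf => by
      rw [Finset.mem_filter, not_not] at hf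
      obtain ⟨ho, hm2, hm4, hd⟩ := hdeg f hf.1
      rw [hf.2, natDegree_one] at hd
      refine ⟨fun i hi => ?_, by omega⟩
      by_cases e : i = 4
      · rw [e, hf.2]
      · exact ho i hi e
  simp only [pow_zero, mul_one, pow_one, ← mul_assoc] at hA hC
  omega

/-- The class number of `SL_n`, `n ≥ 3`. -/
theorem card_classes_SL_le {n : ℕ} (hn : 3 ≤ n) :
    Nat.card (ConjClasses (Matrix.SpecialLinearGroup (Fin n) F)) ≤
      Nat.card F ^ (n - 1) + 3 * Nat.card F ^ (n - 2) := by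
  classical
  have hq := Finite.one_lt_card (α := F)
  set q := Nat.card F with hqdef
  obtain rfl | rfl | hn5 : n = 3 ∨ n = 4 ∨ 5 ≤ n := by omega
  · refine card_classes_SL_three.trans ?_
    rw [← hqdef]
    have hg : Nat.gcd (q - 1) 3 ≤ 3 := Nat.le_of_dvd (by omega) (Nat.gcd_dvd_right _ _)
    have hg2 : Nat.gcd (q - 1) 3 * Nat.gcd (q - 1) 3 ≤ 2 * q + 1 := by
      rcases (Nat.dvd_prime Nat.prime_three).1 (Nat.gcd_dvd_right (q - 1) 3) with e | e
      · rw [e]; omega
      · rw [e]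
        have h3 : 3 ≤ q - 1 := Nat.le_of_dvd (by omega) (e ▸ Nat.gcd_dvd_left (q - 1) 3)
        omega
    simp only [show 3 - 1 = 2 from rfl, show 3 - 2 = 1 from rfl, pow_one]
    omega
  · refine card_classes_SL_four.trans ?_
    rw [← hqdef]
    simp only [show 4 - 1 = 3 from rfl, show 4 - 2 = 2 from rfl]
    have key : Nat.gcd (q - 1) 4 * Nat.gcd (q - 1) 4 + Nat.gcd (q - 1) 2 * Nat.gcd (q - 1) 2 * q ≤ 2 * q ^ 2 := by
      rcases (show q = 2 ∨ q = 3 ∨ q = 4 ∨ 5 ≤ q by omega) with e | e | e | e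
      · rw [e]; norm_num
      · rw [e]; norm_num
      · rw [e]; norm_num
      · have h4 : Nat.gcd (q - 1) 4 ≤ 4 := Nat.le_of_dvd (by omega) (Nat.gcd_dvd_right _ _)
        have h2 : Nat.gcd (q - 1) 2 ≤ 2 := Nat.le_of_dvd (by omega) (Nat.gcd_dvd_right _ _)
        nlinarith [Nat.mul_le_mul h4 h4, Nat.mul_le_mul (Nat.mul_le_mul h2 h2) (le_refl q),
          Nat.mul_le_mul e (le_refl q)]
    omega
  · obtain ⟨m, rfl⟩ : ∃ m, n = m + 1 := ⟨n - 1, by omega⟩
    obtain ⟨B, hB, hle⟩ := card_classes_SL_le_split (F := F) m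
    have hs := sum_tg_le (m + 1) B hB (by omega)
    rw [← hqdef] at hs hle
    have hT := cnt_two_le q (by omega) (n := m + 1) (by omega) (m + 1) (by omega)
    rw [Nat.sub_self, pow_zero] at hT
    have hQ := (cnt_down_bounds q (by omega) (m + 1)).2 (m + 1) le_rfl (by omega)
    rw [Nat.sub_self, pow_zero, ← cnt_down_eq_sumOne] at hQ
    rcases (show q = 2 ∨ 3 ≤ q by omega) with h2 | h3
    · rw [show (Nat.gcd (m + 1) (q - 1)).divisors.erase 1 = ∅ by rw [h2]; simp, Finset.sum_empty, add_zero] at hs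
      rw [h2] at hQ hle hs ⊢
      rw [show m + 1 - 1 = m by omega, show m + 1 - 2 = m - 1 by omega]
      rw [show (2 : ℕ) ^ (m + 1) = 2 ^ m + 2 * 2 ^ (m - 1) by
        rw [← pow_succ', show m - 1 + 1 = m by omega, pow_succ]; ring] at hQ
      omega
    · have hD := sum_divisors_le (n := m + 1) h3
      have hA := arith_large (n := m + 1) h3 hn5
      have := arith_combine (D := ∑ d ∈ (Nat.gcd (m + 1) (q - 1)).divisors.erase 1, Nat.totient d * q ^ ((m + 1) / d))
        (e := if (m + 1) % 2 = 0 then q ^ ((m + 1) / 2) else 0) (P1 := q ^ (m + 1 - 1)) (P2 := q ^ (m + 1 - 2))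
        h3 hQ (by rw [← pow_succ']; congr 1 <;> omega) (by rw [← pow_succ']; congr 1 <;> omega) hT (by omega)
      omega

end Cfsg.Agent.SLComm
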