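import Cfsg.Agent.Lib.SLComm.Large

/-!
# Explicit commutators over the fields with two and three elements
-/

set_option autoImplicit false
set_option linter.style.haveILetI false
set_option linter.unusedVariables false
set_option maxRecDepth 8000
set_option maxHeartbeats 1000000

namespace Cfsg.Agent.SLComm

open Polynomial Module Matrix

variable {F : Type*} [Field F] [Finite F]

/-- A Jordan matrix. -/
def jor {R : Type*} [Zero R] [One R] (lam : R) (n : ℕ) : Matrix (Fin n) (Fin n) R :=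
  Matrix.of fun i j => if i = j then lam else if j.val = i.val + 1 then 1 else 0

/-- Two Jordan blocks of the same eigenvalue. -/
def jor2 {R : Type*} [Zero R] [One R] (lam : R) (a b : ℕ) : Matrix (Fin (a + b)) (Fin (a + b)) R :=
  Matrix.of fun i j => if i = j then lam else if j.val = i.val + 1 ∧ j.val ≠ a then 1 else 0

theorem sim_jor (lam : F) (n : ℕ) : Sim (Matrix.toLin' (jor lam n)) (Cyc ((X - C lam) ^ n)) := by
  have h := (fil_zero (jor lam n)).group (t := n) (c := lam) (Nat.zero_le n) le_rfl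
    (fun i j hji _ => by
      have h' : j.val < i.val := hji
      simp only [jor, Matrix.of_apply]
      rw [if_neg (Fin.ne_of_gt hji), if_neg (by omega)])
    (fun i _ _ => by simp [jor])
    (fun i j _ hij _ => by
      simp only [jor, Matrix.of_apply]
      rw [if_neg (fun e => by subst e; omega), if_pos hij]
      exact one_ne_zero)
    (by simp)
  rw [one_mul, Nat.sub_zero] at h
  exact h.sim

theorem sim_jor2 (lam : F) (a b : ℕ) :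
    Sim (Matrix.toLin' (jor2 lam a b)) (dcyc [(X - C lam) ^ a, (X - C lam) ^ b]) := by
  refine (sim_split _ (jor lam a) (jor lam b) ?_ ?_ ?_).trans
    (((sim_jor lam a).prodMap ((sim_jor lam b).trans (dcyc_singleton _).symm)).trans (dcyc_cons _ _).symm)
  · intro i j
    have := j.isLt
    simp only [jor, jor2, Matrix.of_apply, Fin.castAdd_inj, Fin.val_castAdd]
    split_ifs <;> first | rfl | omega
  · intro i j
    simp only [jor, jor2, Matrix.of_apply, Fin.natAdd_inj, Fin.val_natAdd]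
    split_ifs <;> first | rfl | omega
  · intro i j
    have := i.isLt
    constructor <;>
      (simp only [jor2, Matrix.of_apply, Fin.ext_iff, Fin.val_natAdd, Fin.val_castAdd]
       split_ifs <;> first | rfl | omega)

theorem jor_map {p : ℕ} [CharP F p] (lam : ZMod p) (n : ℕ) :
    (jor lam n).map (ZMod.castHom dvd_rfl F) = jor (ZMod.castHom dvd_rfl F lam) n := by
  ext i j
  simp only [jor, Matrix.map_apply, Matrix.of_apply]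
  split_ifs <;> simp

theorem jor2_map {p : ℕ} [CharP F p] (lam : ZMod p) (a b : ℕ) :
    (jor2 lam a b).map (ZMod.castHom dvd_rfl F) = jor2 (ZMod.castHom dvd_rfl F lam) a b := by
  ext i j
  simp only [jor2, Matrix.map_apply, Matrix.of_apply]
  split_ifs <;> simp

theorem pairM_map {p : ℕ} [CharP F p] [Fact p.Prime] (lam t : ZMod p) (m n : ℕ) :
    (pairM lam t m n).map (ZMod.castHom dvd_rfl F) =
      pairM (ZMod.castHom dvd_rfl F lam) (ZMod.castHom dvd_rfl F t) m n := by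
  ext i j
  simp only [pairM, Matrix.map_apply, Matrix.of_apply]
  split_ifs <;> simp

theorem det_lu {p n : ℕ} {B : Matrix (Fin n) (Fin n) (ZMod p)} (L U : Matrix (Fin n) (Fin n) (ZMod p))
    (h : L * U = B) (hL : (Matrix.of fun i j => if i < j then L i j else 0) = 0)
    (hU : (Matrix.of fun i j => if j < i then U i j else 0) = 0)
    (hd : (List.ofFn fun i => L i i).prod * (List.ofFn fun i => U i i).prod = 1) : B.det = 1 := by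
  rw [← h, Matrix.det_mul, Matrix.det_of_lowerTriangular L fun i j hij => ?_,
    Matrix.det_of_upperTriangular fun i j hij => ?_, ← List.prod_ofFn, ← List.prod_ofFn, hd]
  · have := congrFun (congrFun hU i) j
    rwa [Matrix.of_apply, if_pos (show j < i from hij), Matrix.zero_apply] at this
  · have := congrFun (congrFun hL i) j
    rwa [Matrix.of_apply, if_pos (show i < j from hij), Matrix.zero_apply] at this

/-- The units of an explicit commutator. -/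
theorem units_mat {p n : ℕ} [CharP F p] {M : Matrix (Fin n) (Fin n) (ZMod p)}
    (A A' B B' : Matrix (Fin n) (Fin n) (ZMod p)) (hA : A * A' = 1) (hB : B * B' = 1) (h : A * B = M * B * A)
    (hd : B.det = 1) :
    ∃ a b : (Module.End F (Fin n → F))ˣ,
      Matrix.toLin' (M.map (ZMod.castHom dvd_rfl F)) =
        ((a * b * a⁻¹ * b⁻¹ : (Module.End F (Fin n → F))ˣ) : Module.End F (Fin n → F)) ∧
      (a : Module.End F (Fin n → F)) = Matrix.toLin' (A.map (ZMod.castHom dvd_rfl F)) ∧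
      ((a⁻¹ : (Module.End F (Fin n → F))ˣ) : Module.End F (Fin n → F)) =
        Matrix.toLin' (A'.map (ZMod.castHom dvd_rfl F)) ∧
      LinearMap.det (a : Module.End F (Fin n → F)) = ZMod.castHom dvd_rfl F A.det ∧
      LinearMap.det (b : Module.End F (Fin n → F)) = 1 := by
  set f := ZMod.castHom (dvd_rfl (a := p)) F
  let T : Matrix (Fin n) (Fin n) (ZMod p) →* Module.End F (Fin n → F) :=
    (Matrix.toLinAlgEquiv' (R := F) (n := Fin n)).toMonoidHom.comp (f.mapMatrix.toMonoidHom)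
  have hA2 := mul_eq_one_comm.1 hA
  have hB2 := mul_eq_one_comm.1 hB
  let a : (Module.End F (Fin n → F))ˣ := Units.map T ⟨A, A', hA, hA2⟩
  let b : (Module.End F (Fin n → F))ˣ := Units.map T ⟨B, B', hB, hB2⟩
  have hdet : ∀ X : Matrix (Fin n) (Fin n) (ZMod p), LinearMap.det (T X) = f X.det := fun X => by
    show LinearMap.det (Matrix.toLin' (X.map f)) = _
    rw [LinearMap.det_toLin', RingHom.map_det]
    rfl
  refine ⟨a, b, ?_, rfl, rfl, hdet A, by rw [show ((b : _ˣ) : Module.End F (Fin n → F)) = T B from rfl, hdet, hd, map_one]⟩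
  show T M = ((a * b * a⁻¹ * b⁻¹ : (Module.End F (Fin n → F))ˣ) : Module.End F (Fin n → F))
  rw [show ((a * b * a⁻¹ * b⁻¹ : (Module.End F (Fin n → F))ˣ) : Module.End F (Fin n → F)) = T (A * B * A' * B') by
    simp only [Units.val_mul, map_mul]; rfl]
  rw [h, mul_assoc (M * B) A A', hA, mul_one, mul_assoc M B B', hB, mul_one]

/-- An explicit commutator. -/
theorem gad_mat {p n : ℕ} [CharP F p] {M : Matrix (Fin n) (Fin n) (ZMod p)}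
    (A A' B B' : Matrix (Fin n) (Fin n) (ZMod p)) (hA : A * A' = 1) (hB : B * B' = 1) (h : A * B = M * B * A)
    (hd : B.det = 1) (e : ZMod p) (he : A.det = e) :
    Gad (Matrix.toLin' (M.map (ZMod.castHom dvd_rfl F))) (ZMod.castHom dvd_rfl F e) := by
  obtain ⟨a, b, h1, -, -, h4, h5⟩ := units_mat (F := F) A A' B B' hA hB h hd
  exact ⟨a, b, h1, by rw [h4, he], h5⟩

theorem replicate_three (q : F[X]) : List.replicate 3 q ++ List.replicate 0 (0 : F[X]) = [q, q, q] := rfl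

theorem zmod_two_det {n : ℕ} (A A' : Matrix (Fin n) (Fin n) (ZMod 2)) (h : A * A' = 1) : A.det = 1 := by
  have h1 := congrArg Matrix.det h
  rw [Matrix.det_mul, Matrix.det_one] at h1
  have h2 : ∀ x y : ZMod 2, x * y = 1 → x = 1 := by decide
  exact h2 _ _ h1

section CharTwo

variable [CharP F 2]

theorem two_21 : GadL [(X - C (1 : F)) ^ 2, (X - C (1 : F)) ^ 1] 1 := by
  have h := gad_mat (F := F) (M := jor2 (1 : ZMod 2) 2 1)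
      (!![1, 1, 1; 0, 1, 1; 0, 1, 0] : Matrix (Fin 3) (Fin 3) (ZMod 2))
      (!![1, 1, 0; 0, 0, 1; 0, 1, 1])
      (!![1, 0, 1; 0, 0, 1; 0, 1, 1])
      (!![1, 1, 0; 0, 1, 1; 0, 1, 0])
    (by decide +kernel) (by decide +kernel) (by decide +kernel) (by decide +kernel) 1 (by decide +kernel)
  rw [jor2_map, map_one] at h
  exact Gad.sim h (sim_jor2 1 2 1).symm

theorem two_22 : GadL [(X - C (1 : F)) ^ 2, (X - C (1 : F)) ^ 2] 1 := by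
  have h := gad_mat (F := F) (M := jor2 (1 : ZMod 2) 2 2)
      (!![1, 0, 1, 0; 1, 1, 0, 0; 0, 1, 1, 1; 0, 0, 1, 0] : Matrix (Fin 4) (Fin 4) (ZMod 2))
      (!![1, 0, 0, 1; 1, 1, 0, 1; 0, 0, 0, 1; 1, 1, 1, 0])
      (!![1, 0, 1, 1; 0, 1, 0, 1; 1, 0, 1, 0; 1, 0, 0, 0])
      (!![0, 0, 0, 1; 1, 1, 1, 0; 0, 0, 1, 1; 1, 0, 1, 0])
    (by decide +kernel) (by decide +kernel) (by decide +kernel) (by decide +kernel) 1 (by decide +kernel)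
  rw [jor2_map, map_one] at h
  exact Gad.sim h (sim_jor2 1 2 2).symm

theorem two_23 : GadL [(X - C (1 : F)) ^ 2, (X - C (1 : F)) ^ 3] 1 := by
  have h := gad_mat (F := F) (M := jor2 (1 : ZMod 2) 2 3)
      (!![1, 0, 1, 0, 0; 0, 1, 1, 0, 1; 0, 0, 0, 1, 0; 1, 1, 1, 0, 1; 0, 0, 1, 0, 1] : Matrix (Fin 5) (Fin 5) (ZMod 2))
      (!![0, 1, 0, 1, 0; 0, 1, 0, 0, 1; 1, 1, 0, 1, 0; 0, 0, 1, 0, 0; 1, 1, 0, 1, 1])
      (!![1, 0, 1, 1, 1; 1, 1, 1, 0, 0; 0, 0, 0, 1, 0; 1, 0, 1, 1, 0; 0, 0, 1, 0, 1])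
      (!![1, 0, 1, 0, 1; 0, 1, 1, 1, 0; 1, 0, 0, 1, 1; 0, 0, 1, 0, 0; 1, 0, 0, 1, 0])
    (by decide +kernel) (by decide +kernel) (by decide +kernel) (by decide +kernel) 1 (by decide +kernel)
  rw [jor2_map, map_one] at h
  exact Gad.sim h (sim_jor2 1 2 3).symm

theorem two_222 : GadL [(X - C (1 : F)) ^ 2, (X - C (1 : F)) ^ 2, (X - C (1 : F)) ^ 2] 1 := by
  have h := gad_mat (F := F) (M := pairM (1 : ZMod 2) 1 3 6)
      (!![0, 0, 1, 1, 1, 1; 0, 1, 0, 0, 0, 0; 1, 1, 0, 1, 0, 1; 0, 1, 1, 1, 0, 0; 1, 0, 0, 0, 0, 1; 1, 1, 1, 1, 1, 1] : Matrix (Fin 6) (Fin 6) (ZMod 2))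
      (!![1, 1, 0, 0, 0, 1; 0, 1, 0, 0, 0, 0; 0, 0, 1, 1, 1, 0; 0, 1, 1, 0, 1, 0; 0, 0, 0, 1, 1, 1; 1, 1, 0, 0, 1, 1])
      (!![1, 0, 1, 0, 1, 0; 0, 1, 0, 0, 0, 0; 0, 1, 1, 1, 1, 1; 1, 1, 1, 0, 1, 1; 1, 1, 1, 1, 0, 1; 0, 1, 0, 0, 1, 0])
      (!![0, 1, 1, 0, 1, 1; 0, 1, 0, 0, 0, 0; 1, 0, 1, 0, 1, 0; 0, 1, 0, 1, 1, 1; 0, 1, 0, 0, 0, 1; 1, 1, 0, 1, 0, 0])
    (by decide +kernel) (by decide +kernel) (by decide +kernel) (zmod_two_det _ (!![0, 1, 1, 0, 1, 1; 0, 1, 0, 0, 0, 0; 1, 0, 1, 0, 1, 0; 0, 1, 0, 1, 1, 1; 0, 1, 0, 0, 0, 1; 1, 1, 0, 1, 0, 0] : Matrix (Fin 6) (Fin 6) (ZMod 2)) (by decide +kernel))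
    1 (zmod_two_det _ (!![1, 1, 0, 0, 0, 1; 0, 1, 0, 0, 0, 0; 0, 0, 1, 1, 1, 0; 0, 1, 1, 0, 1, 0; 0, 0, 0, 1, 1, 1; 1, 1, 0, 0, 1, 1] : Matrix (Fin 6) (Fin 6) (ZMod 2)) (by decide +kernel))
  rw [pairM_map, map_one] at h
  exact Gad.sim h (sim_pairM (1 : F) one_ne_zero 3 0 6 rfl).symm

/-- `J₃` as a commutator, the first factor without eigenvalues. -/
theorem two_3 : ∃ a b : (Module.End F (Fin 3 → F))ˣ,
    Sim (Cyc ((X - C (1 : F)) ^ 3)) ((a * b * a⁻¹ * b⁻¹ : (Module.End F (Fin 3 → F))ˣ) : Module.End F (Fin 3 → F)) ∧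
      LinearMap.det (a : Module.End F (Fin 3 → F)) = 1 ∧ LinearMap.det (b : Module.End F (Fin 3 → F)) = 1 ∧
      ((a⁻¹ : (Module.End F (Fin 3 → F))ˣ) : Module.End F (Fin 3 → F)) =
        Matrix.toLin' ((!![1, 0, 1; 1, 1, 1; 1, 1, 0] : Matrix (Fin 3) (Fin 3) (ZMod 2)).map (ZMod.castHom dvd_rfl F)) := by
  obtain ⟨a, b, h1, -, h3, h4, h5⟩ := units_mat (F := F) (M := jor (1 : ZMod 2) 3)
      (!![1, 1, 1; 1, 1, 0; 0, 1, 1] : Matrix (Fin 3) (Fin 3) (ZMod 2))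
      (!![1, 0, 1; 1, 1, 1; 1, 1, 0])
      (!![1, 1, 1; 0, 1, 0; 0, 0, 1])
      (!![1, 1, 1; 0, 1, 0; 0, 0, 1])
    (by decide +kernel) (by decide +kernel) (by decide +kernel) (by decide +kernel)
  refine ⟨a, b, ?_, ?_, h5, h3⟩
  · have h := (sim_jor (ZMod.castHom (dvd_rfl (a := 2)) F 1) 3).symm
    have e : (ZMod.castHom (dvd_rfl (a := 2)) F) 1 = 1 := map_one _
    rw [e] at h
    rw [← h1, jor_map, e]
    exact h
  · rw [h4, ← map_one (ZMod.castHom (dvd_rfl (a := 2)) F)]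
    congr 1

end CharTwo

section CharThree

variable [CharP F 3]

theorem thr_Jp : GadL [(X - C (1 : F)) ^ 2] (-1) := by
  have h := gad_mat (F := F) (M := jor (1 : ZMod 3) 2)
      (!![2, 1; 0, 1] : Matrix (Fin 2) (Fin 2) (ZMod 3))
      (!![2, 1; 0, 1])
      (!![2, 2; 0, 2])
      (!![2, 1; 0, 2])
    (by decide +kernel) (by decide +kernel) (by decide +kernel) (by decide +kernel) (-1) (by decide +kernel)
  rw [jor_map] at h
  simp only [map_neg, map_one] at h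
  exact GadL.of_cyc (Gad.sim h (sim_jor _ 2).symm)

theorem thr_Jm : GadL [(X - C ((-1) : F)) ^ 2] (-1) := by
  have h := gad_mat (F := F) (M := jor ((-1) : ZMod 3) 2)
      (!![0, 2; 2, 2] : Matrix (Fin 2) (Fin 2) (ZMod 3))
      (!![1, 2; 2, 0])
      (!![1, 1; 2, 0])
      (!![0, 2; 1, 1])
    (by decide +kernel) (by decide +kernel) (by decide +kernel) (by decide +kernel) (-1) (by decide +kernel)
  rw [jor_map] at h
  simp only [map_neg, map_one] at h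
  exact GadL.of_cyc (Gad.sim h (sim_jor _ 2).symm)

theorem thr_13p : GadL [(X - C (-1 : F)) ^ 1, (X - C (-1 : F)) ^ 3] 1 := by
  have h := gad_mat (F := F) (M := jor2 (-1 : ZMod 3) 1 3)
      (!![2, 0, 0, 2; 1, 1, 2, 2; 2, 0, 0, 0; 0, 1, 0, 1] : Matrix (Fin 4) (Fin 4) (ZMod 3))
      (!![0, 0, 2, 0; 1, 0, 2, 1; 2, 2, 0, 1; 2, 0, 1, 0])
      (!![0, 1, 2, 0; 0, 1, 0, 1; 1, 1, 2, 2; 2, 0, 0, 2])
      (!![1, 0, 2, 1; 1, 1, 2, 2; 0, 1, 2, 2; 2, 0, 1, 1])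
    (by decide +kernel) (by decide +kernel) (by decide +kernel) (by decide +kernel) 1 (by decide +kernel)
  rw [jor2_map] at h
  simp only [map_neg, map_one] at h
  exact Gad.sim h (sim_jor2 _ 1 3).symm

theorem thr_13m : GadL [(X - C (-1 : F)) ^ 1, (X - C (-1 : F)) ^ 3] (-1) := by
  have h := gad_mat (F := F) (M := jor2 (-1 : ZMod 3) 1 3)
      (!![1, 0, 0, 0; 0, 2, 0, 0; 1, 0, 1, 1; 1, 2, 0, 1] : Matrix (Fin 4) (Fin 4) (ZMod 3))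
      (!![1, 0, 0, 0; 0, 2, 0, 0; 0, 1, 1, 2; 2, 2, 0, 1])
      (!![0, 1, 0, 0; 1, 0, 2, 0; 0, 1, 0, 2; 1, 0, 1, 1])
      (!![1, 2, 2, 2; 1, 0, 0, 0; 1, 1, 2, 2; 1, 0, 2, 0])
    (by decide +kernel) (by decide +kernel) (by decide +kernel) (by decide +kernel) (-1) (by decide +kernel)
  rw [jor2_map] at h
  simp only [map_neg, map_one] at h
  exact Gad.sim h (sim_jor2 _ 1 3).symm

theorem thr_33 : GadL [(X - C (-1 : F)) ^ 3, (X - C (-1 : F)) ^ 3] 1 := by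
  have h := gad_mat (F := F) (M := jor2 (-1 : ZMod 3) 3 3)
      (!![2, 1, 1, 1, 2, 1; 0, 2, 1, 1, 2, 0; 1, 0, 2, 0, 2, 2; 1, 1, 1, 1, 1, 2; 0, 2, 2, 2, 1, 2; 0, 2, 0, 1, 0, 2] : Matrix (Fin 6) (Fin 6) (ZMod 3))
      (!![2, 0, 0, 0, 2, 0; 2, 2, 1, 1, 1, 2; 2, 1, 0, 2, 1, 2; 1, 0, 2, 2, 1, 2; 1, 1, 1, 0, 1, 2; 2, 1, 1, 1, 0, 2])
      (!![2, 2, 2, 0, 2, 0; 0, 2, 1, 0, 2, 1; 0, 2, 0, 0, 1, 0; 0, 0, 0, 2, 0, 1; 1, 1, 0, 2, 2, 0; 1, 2, 0, 2, 1, 2])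
      (!![0, 0, 0, 2, 2, 2; 2, 2, 0, 1, 2, 0; 1, 2, 2, 2, 0, 1; 0, 0, 2, 2, 1, 2; 2, 2, 1, 1, 2, 0; 0, 0, 2, 0, 1, 2])
    (by decide +kernel) (by decide +kernel) (by decide +kernel)
    (det_lu !![1, 0, 0, 0, 0, 0; 0, 1, 0, 0, 0, 0; 0, 1, 1, 0, 0, 0; 0, 0, 0, 1, 0, 0; 2, 0, 1, 1, 1, 0; 2, 2, 0, 1, 1, 1] !![2, 2, 2, 0, 2, 0; 0, 2, 1, 0, 2, 1; 0, 0, 2, 0, 2, 2; 0, 0, 0, 2, 0, 1; 0, 0, 0, 0, 2, 0; 0, 0, 0, 0, 0, 2] (by decide +kernel) (by decide +kernel) (by decide +kernel) (by decide +kernel)) 1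
    (det_lu !![1, 0, 0, 0, 0, 0; 0, 1, 0, 0, 0, 0; 2, 2, 1, 0, 0, 0; 2, 1, 1, 1, 0, 0; 0, 1, 1, 1, 1, 0; 0, 1, 2, 1, 0, 1] !![2, 1, 1, 1, 2, 1; 0, 2, 1, 1, 2, 0; 0, 0, 1, 2, 0, 0; 0, 0, 0, 2, 1, 0; 0, 0, 0, 0, 1, 2; 0, 0, 0, 0, 0, 2] (by decide +kernel) (by decide +kernel) (by decide +kernel) (by decide +kernel))
  rw [jor2_map] at h
  simp only [map_neg, map_one] at h
  exact Gad.sim h (sim_jor2 _ 3 3).symm

theorem thr_222p : GadL [(X - C (1 : F)) ^ 2, (X - C (1 : F)) ^ 2, (X - C (1 : F)) ^ 2] 1 := by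
  have h := gad_mat (F := F) (M := pairM (1 : ZMod 3) 1 3 6)
      (!![1, 2, 2, 1, 2, 0; 1, 0, 1, 0, 0, 0; 2, 0, 1, 1, 0, 1; 0, 2, 1, 2, 0, 1; 1, 0, 2, 2, 1, 0; 1, 0, 2, 2, 1, 2] : Matrix (Fin 6) (Fin 6) (ZMod 3))
      (!![1, 1, 2, 2, 0, 1; 0, 2, 2, 2, 2, 1; 2, 0, 1, 1, 0, 2; 2, 1, 2, 1, 2, 0; 0, 0, 1, 0, 0, 1; 0, 0, 0, 0, 1, 2])
      (!![2, 2, 1, 0, 2, 1; 2, 1, 2, 1, 1, 2; 2, 1, 1, 0, 2, 0; 2, 1, 0, 0, 2, 0; 2, 0, 1, 2, 2, 1; 1, 2, 1, 1, 1, 2])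
      (!![0, 1, 1, 2, 2, 1; 0, 0, 2, 1, 2, 2; 0, 0, 1, 2, 0, 0; 1, 0, 2, 1, 1, 2; 0, 2, 1, 1, 0, 1; 1, 0, 0, 2, 1, 1])
    (by decide +kernel) (by decide +kernel) (by decide +kernel)
    (det_lu !![1, 0, 0, 0, 0, 0; 1, 1, 0, 0, 0, 0; 1, 1, 1, 0, 0, 0; 1, 1, 2, 1, 0, 0; 1, 2, 2, 2, 1, 0; 2, 2, 0, 2, 2, 1] !![2, 2, 1, 0, 2, 1; 0, 2, 1, 1, 2, 1; 0, 0, 2, 2, 1, 1; 0, 0, 0, 1, 2, 2; 0, 0, 0, 0, 2, 1; 0, 0, 0, 0, 0, 1] (by decide +kernel) (by decide +kernel) (by decide +kernel) (by decide +kernel)) 1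
    (det_lu !![1, 0, 0, 0, 0, 0; 1, 1, 0, 0, 0, 0; 2, 2, 1, 0, 0, 0; 0, 2, 0, 1, 0, 0; 1, 1, 2, 0, 1, 0; 1, 1, 2, 0, 1, 1] !![1, 2, 2, 1, 2, 0; 0, 1, 2, 2, 1, 0; 0, 0, 2, 1, 0, 1; 0, 0, 0, 1, 1, 1; 0, 0, 0, 0, 1, 1; 0, 0, 0, 0, 0, 2] (by decide +kernel) (by decide +kernel) (by decide +kernel) (by decide +kernel))
  rw [pairM_map] at h
  simp only [map_neg, map_one] at h
  exact Gad.sim h (sim_pairM (1 : F) one_ne_zero 3 0 6 rfl).symm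

theorem thr_222m : GadL [(X - C (-1 : F)) ^ 2, (X - C (-1 : F)) ^ 2, (X - C (-1 : F)) ^ 2] 1 := by
  have h := gad_mat (F := F) (M := pairM (-1 : ZMod 3) 1 3 6)
      (!![1, 2, 0, 0, 2, 0; 1, 1, 0, 1, 1, 1; 2, 2, 2, 0, 0, 1; 0, 2, 1, 1, 1, 0; 2, 2, 0, 2, 1, 2; 2, 0, 1, 1, 0, 2] : Matrix (Fin 6) (Fin 6) (ZMod 3))
      (!![0, 2, 1, 1, 0, 0; 2, 0, 1, 1, 1, 0; 0, 0, 0, 2, 1, 2; 2, 1, 1, 0, 1, 1; 0, 2, 0, 0, 2, 0; 2, 2, 0, 1, 2, 2])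
      (!![2, 0, 1, 1, 1, 0; 2, 2, 1, 2, 0, 1; 0, 1, 1, 1, 2, 1; 0, 1, 2, 1, 0, 1; 1, 2, 1, 0, 2, 0; 2, 1, 2, 0, 1, 2])
      (!![0, 2, 0, 2, 1, 1; 1, 0, 0, 2, 0, 2; 2, 2, 1, 2, 0, 2; 1, 2, 1, 1, 1, 1; 1, 1, 1, 2, 0, 1; 0, 0, 0, 0, 2, 2])
    (by decide +kernel) (by decide +kernel) (by decide +kernel)
    (det_lu !![1, 0, 0, 0, 0, 0; 1, 1, 0, 0, 0, 0; 0, 2, 1, 0, 0, 0; 0, 2, 2, 1, 0, 0; 2, 1, 2, 2, 1, 0; 1, 2, 1, 1, 2, 1] !![2, 0, 1, 1, 1, 0; 0, 2, 0, 1, 2, 1; 0, 0, 1, 2, 1, 2; 0, 0, 0, 1, 0, 1; 0, 0, 0, 0, 2, 2; 0, 0, 0, 0, 0, 2] (by decide +kernel) (by decide +kernel) (by decide +kernel) (by decide +kernel)) 1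
    (det_lu !![1, 0, 0, 0, 0, 0; 1, 1, 0, 0, 0, 0; 2, 2, 1, 0, 0, 0; 0, 1, 2, 1, 0, 0; 2, 2, 0, 0, 1, 0; 2, 1, 2, 1, 2, 1] !![1, 2, 0, 0, 2, 0; 0, 2, 0, 1, 2, 1; 0, 0, 2, 1, 1, 2; 0, 0, 0, 1, 0, 1; 0, 0, 0, 0, 2, 0; 0, 0, 0, 0, 0, 2] (by decide +kernel) (by decide +kernel) (by decide +kernel) (by decide +kernel))
  rw [pairM_map] at h
  simp only [map_neg, map_one] at h
  exact Gad.sim h (sim_pairM (-1 : F) one_ne_zero 3 0 6 rfl).symm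

end CharThree

end Cfsg.Agent.SLComm
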