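import Cfsg.Agent.Lib.SLComm.ThreeGad

/-!
# Commutators in the special linear groups over the field with three elements

* `gad_three` : every endomorphism of determinant one of a space of dimension at least three over three
  elements is a commutator of two automorphisms of determinant one.
-/

set_option autoImplicit false
set_option linter.style.haveILetI false
set_option linter.unusedVariables false
set_option linter.unusedSectionVars false

namespace Cfsg.Agent.SLComm

open Polynomial Module Matrix

variable {F : Type*} [Field F] [Finite F]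

theorem gadL_forall_neg {L : List F[X]} (hm : ∀ h ∈ L, h.Monic) (hg : ∀ h ∈ L, GadL [h] (-1)) :
    GadL L ((-1 : F) ^ L.length) := by
  induction L with
  | nil =>
    rw [List.length_nil, pow_zero]
    exact gadL_nil
  | cons a L ih =>
    have := GadL.append (L := [a]) (L' := L) (by simpa using hm a List.mem_cons_self)
      (fun h hh => hm h (List.mem_cons_of_mem _ hh)) (hg a List.mem_cons_self)
      (ih (fun h hh => hm h (List.mem_cons_of_mem _ hh)) fun h hh => hg h (List.mem_cons_of_mem _ hh))
    rw [List.length_cons, pow_succ']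
    exact this

/-- A primary polynomial. -/
def Prim (h : F[X]) : Prop := ∃ (P : F[X]) (e : ℕ), Irreducible P ∧ P.Monic ∧ 0 < e ∧ h = P ^ e

theorem Prim.monic {h : F[X]} (hp : Prim h) : h.Monic := by
  obtain ⟨P, e, -, hP, -, rfl⟩ := hp; exact hP.pow e

theorem Prim.pos {h : F[X]} (hp : Prim h) : 0 < h.natDegree := by
  obtain ⟨P, e, hP, hPm, he, rfl⟩ := hp
  rw [hPm.natDegree_pow]; exact Nat.mul_pos he hP.natDegree_pos

theorem flex_even (h3 : Nat.card F = 3) {h : F[X]} (hp : Prim h) (hc : cdet h = 1)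
    (h1 : h ≠ (X - C (1 : F)) ^ 2) (h2 : h ≠ (X - C (-1 : F)) ^ 2) : Flex [h] := by
  rcases Nat.lt_or_ge h.natDegree 3 with hd | hd
  · obtain ⟨P, e, hP, hPm, he, rfl⟩ := hp
    rw [hPm.natDegree_pow] at hd
    have hPd := hP.natDegree_pos
    rcases Nat.lt_or_ge P.natDegree 2 with hP1 | hP2
    · have hP1' : P.natDegree = 1 := by omega
      set c := -P.coeff 0
      have hPl : P = X - C c := by
        conv_lhs => rw [hPm.eq_X_add_C hP1']
        simp [c, sub_eq_add_neg]
      rw [hPl, cdet_pow (monic_X_sub_C c), cdet_linear] at hc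
      rw [hP1', mul_one] at hd
      have hc0 : c ≠ 0 := fun e0 => by rw [e0, zero_pow he.ne'] at hc; exact zero_ne_one hc
      rcases (show e = 1 ∨ e = 2 by omega) with rfl | rfl
      · rw [pow_one] at hc
        rw [pow_one, hPl, hc]
        exact flex_line
      · rcases pm_one_of_card_three h3 hc0 with e1 | e1
        · exact absurd (by rw [hPl, e1]) h1
        · exact absurd (by rw [hPl, e1]) h2
    · have he1 : e = 1 := by nlinarith
      subst he1
      rw [pow_one] at hc ⊢
      exact flex_simple hP hPm 0 (by rw [hc, one_pow])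
  · exact flex_of_deg h3 hp.monic hd hc

theorem flex_odd_le (h3 : Nat.card F = 3) {P : F[X]} (hP : Irreducible P) (hPm : P.Monic) {k l : ℕ}
    (hkl : k ≤ l) (hk : 0 < k) (hck : cdet (P ^ k) = -1) (hcl : cdet (P ^ l) = -1) :
    Flex [P ^ k, P ^ l] := by
  haveI : Fact (Nat.Prime 3) := ⟨Nat.prime_three⟩
  haveI := charP_of_card (F := F) h3
  have hne := neg_one_ne_one (F := F) h3
  have hodd : ∀ i : ℕ, cdet (P ^ i) = -1 → i % 2 = 1 ∧ cdet P = -1 := by
    intro i hi
    rw [cdet_pow hPm] at hi
    have hP0 : cdet P ≠ 0 := fun e0 => by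
      rw [cdet_pow hPm, e0, zero_pow hk.ne'] at hck
      exact neg_ne_zero.2 one_ne_zero hck.symm
    rcases pm_one_of_card_three h3 hP0 with e | e
    · rw [e, one_pow] at hi; exact absurd hi.symm hne
    · refine ⟨?_, e⟩
      rcases Nat.mod_two_eq_zero_or_one i with h | h
      · rw [e, Even.neg_one_pow (Nat.even_iff.2 h)] at hi; exact absurd hi.symm hne
      · exact h
  obtain ⟨hk2, hcP⟩ := hodd k hck
  obtain ⟨hl2, -⟩ := hodd l hcl
  have hPd := hP.natDegree_pos
  rcases (show l = 1 ∨ 3 ≤ l by omega) with rfl | hl3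
  · obtain rfl : k = 1 := by omega
    rw [pow_one]
    exact flex_simple hP hPm 1 (by rw [hcP]; norm_num)
  have hdk : (P ^ k).natDegree = k * P.natDegree := hPm.natDegree_pow k
  have hdl : (P ^ l).natDegree = l * P.natDegree := hPm.natDegree_pow l
  by_cases hK : k * P.natDegree = 1
  · have hk1 : k = 1 := Nat.eq_one_of_mul_eq_one_right hK
    have hd1 : P.natDegree = 1 := Nat.eq_one_of_mul_eq_one_left hK
    subst hk1
    have hPl : P = X - C (-1 : F) := by
      conv_lhs => rw [hPm.eq_X_add_C hd1]
      rw [cdet, hd1, pow_one, neg_one_mul, neg_inj] at hcP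
      rw [hcP, sub_eq_add_neg, ← map_neg, neg_neg]
    subst hPl
    rcases (show l = 3 ∨ 5 ≤ l by omega) with rfl | hl5
    · exact ⟨thr_13p, thr_13m⟩
    · obtain ⟨a, rfl⟩ : ∃ a, l = a + 4 := ⟨l - 4, by omega⟩
      rw [pow_one]
      exact ⟨gadL_one_long h3 a (by omega) (Or.inl rfl), gadL_one_long h3 a (by omega) (Or.inr rfl)⟩
  have hK2 : 2 ≤ k * P.natDegree := by
    have := Nat.mul_pos hk hPd
    omega
  have hL3 : 3 ≤ l * P.natDegree := le_trans hl3 (Nat.le_mul_of_pos_right _ hPd)
  obtain ⟨s, hs⟩ : ∃ s, (P ^ k).natDegree = s + 2 := ⟨k * P.natDegree - 2, by omega⟩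
  obtain ⟨t, ht⟩ : ∃ t, (P ^ l).natDegree = t + 3 := ⟨l * P.natDegree - 3, by omega⟩
  have hpar : (s + (t + 1)) % 2 = 0 := by
    have h : (k * P.natDegree + l * P.natDegree) % 2 = 0 := by
      rw [← add_mul, Nat.mul_mod, show (k + l) % 2 = 0 by omega, zero_mul, Nat.zero_mod]
    omega
  obtain ⟨hm1, hp1⟩ := gadL_pair h3 (hPm.pow k) (hPm.pow l) hs ht hpar hck hcl
  refine ⟨?_, hm1⟩
  rcases Nat.eq_zero_or_pos t with rfl | ht0
  · have hd1 : P.natDegree = 1 := by nlinarith
    have hl : l = 3 := by rw [hdl, hd1] at ht; omega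
    have hk3 : k = 3 := by rw [hd1] at hK2; omega
    subst hl hk3
    have hPl : P = X - C (-1 : F) := by
      conv_lhs => rw [hPm.eq_X_add_C hd1]
      rw [cdet, hd1, pow_one, neg_one_mul, neg_inj] at hcP
      rw [hcP, sub_eq_add_neg, ← map_neg, neg_neg]
    subst hPl
    exact thr_33
  · exact hp1 ht0

theorem flex_odd (h3 : Nat.card F = 3) {f g : F[X]} (hf : Prim f) (hg : Prim g) (hcf : cdet f = -1)
    (hcg : cdet g = -1) : Flex [f, g] := by
  have hne := neg_one_ne_one (F := F) h3
  obtain ⟨P, k, hP, hPm, hk, rfl⟩ := hf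
  obtain ⟨Q, l, hQ, hQm, hl, rfl⟩ := hg
  by_cases hPQ : P = Q
  · subst hPQ
    rcases Nat.le_total k l with hkl | hkl
    · exact flex_odd_le h3 hP hPm hkl hk hcf hcg
    · exact (flex_odd_le h3 hP hPm hkl hl hcg hcf).perm (List.Perm.swap _ _ _)
  · have hco : IsCoprime (P ^ k) (Q ^ l) := (coprime_of_primes hP hQ hPm hQm hPQ).pow
    refine Flex.merge (hPm.pow k) (hQm.pow l) hco (flex_of_deg h3 ((hPm.pow k).mul (hQm.pow l)) ?_ ?_)
    · rw [(hPm.pow k).natDegree_mul (hQm.pow l)]
      by_contra hlt
      have h1 := Nat.mul_pos hk hP.natDegree_pos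
      have h2 := Nat.mul_pos hl hQ.natDegree_pos
      rw [hPm.natDegree_pow, hQm.natDegree_pow] at hlt
      have hk1 : k * P.natDegree = 1 := by omega
      have hl1 : l * Q.natDegree = 1 := by omega
      have hP1 := Nat.eq_one_of_mul_eq_one_left hk1
      have hQ1 := Nat.eq_one_of_mul_eq_one_left hl1
      rw [Nat.eq_one_of_mul_eq_one_right hk1, pow_one, cdet, hP1, pow_one, neg_one_mul, neg_inj] at hcf
      rw [Nat.eq_one_of_mul_eq_one_right hl1, pow_one, cdet, hQ1, pow_one, neg_one_mul, neg_inj] at hcg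
      exact hPQ (by rw [hPm.eq_X_add_C hP1, hQm.eq_X_add_C hQ1, hcf, hcg])
    · rw [cdet_mul (hPm.pow k) (hQm.pow l), hcf, hcg, neg_mul_neg, one_mul]

/-- All blocks but the small Jordan ones. -/
theorem flex_others (h3 : Nat.card F = 3) : ∀ (n : ℕ) (O : List F[X]), O.length ≤ n →
    (∀ h ∈ O, Prim h ∧ cdet h ≠ 0 ∧ h ≠ (X - C (1 : F)) ^ 2 ∧ h ≠ (X - C (-1 : F)) ^ 2) → ldet O = 1 →
      O = [] ∨ Flex O
  | 0, O, hn, _, _ => Or.inl (List.eq_nil_of_length_eq_zero (by omega))
  | n + 1, [], _, _, _ => Or.inl rfl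
  | n + 1, h :: O, hn, hO, hdet => by
    classical
    obtain ⟨hp, hc0, hJ1, hJ2⟩ := hO h List.mem_cons_self
    have hdet' : cdet h * ldet O = 1 := by rw [← hdet]; simp [ldet]
    refine Or.inr ?_
    rcases pm_one_of_card_three h3 hc0 with hc | hc
    · rw [hc, one_mul] at hdet'
      have hO' : GadL O 1 := by
        rcases flex_others h3 n O (by simp at hn; omega) (fun x hx => hO x (List.mem_cons_of_mem _ hx)) hdet' with
          rfl | hF
        · exact gadL_nil
        · exact hF.1
      exact Flex.append (L := [h]) (by simpa using hp.monic)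
        (fun x hx => (hO x (List.mem_cons_of_mem _ hx)).1.monic) (Or.inl rfl) (flex_even h3 hp hc hJ1 hJ2) hO'
    · obtain ⟨g, hg, hcg⟩ : ∃ g ∈ O, cdet g = -1 := by
        by_contra hno
        push Not at hno
        have h1 : ldet O = 1 := List.prod_eq_one fun x hx => by
          obtain ⟨y, hy, rfl⟩ := List.mem_map.1 hx
          exact (pm_one_of_card_three h3 (hO y (List.mem_cons_of_mem _ hy)).2.1).resolve_right (hno y hy)
        rw [hc, h1, mul_one] at hdet'
        exact neg_one_ne_one h3 hdet'
      have hperm := List.perm_cons_erase hg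
      have hdet'' : ldet (O.erase g) = 1 := by
        rw [show ldet O = cdet g * ldet (O.erase g) by
          rw [show ldet O = ((g :: O.erase g).map cdet).prod from (hperm.map cdet).prod_eq]; simp [ldet],
          hc, hcg] at hdet'
        linear_combination hdet'
      have hsub : ∀ x ∈ O.erase g, x ∈ h :: O := fun x hx => List.mem_cons_of_mem _ (List.mem_of_mem_erase hx)
      have hO' : GadL (O.erase g) 1 := by
        rcases flex_others h3 n (O.erase g)
          (by rw [List.length_erase_of_mem hg]; simp at hn; omega) (fun x hx => hO x (hsub x hx)) hdet'' with e | hF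
        · rw [e]; exact gadL_nil
        · exact hF.1
      refine Flex.perm ?_ (hperm.cons h)
      exact Flex.append (L := [h, g]) (by simp [hp.monic, (hO g (List.mem_cons_of_mem _ hg)).1.monic])
        (fun x hx => (hO x (hsub x hx)).1.monic) (Or.inl rfl)
        (flex_odd h3 hp (hO g (List.mem_cons_of_mem _ hg)).1 hc hcg) hO'

theorem gadL_three (h3 : Nat.card F = 3) {L : List F[X]} (hL : ∀ h ∈ L, Prim h) (hdet : ldet L = 1)
    (hdeg : ∀ h, L = [h] → h.natDegree ≠ 2) : GadL L 1 := by
  classical
  haveI : Fact (Nat.Prime 3) := ⟨Nat.prime_three⟩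
  haveI := charP_of_card (F := F) h3
  have hne := neg_one_ne_one (F := F) h3
  set Jp : F[X] := (X - C (1 : F)) ^ 2 with hJp
  set Jm : F[X] := (X - C (-1 : F)) ^ 2 with hJmdef
  have hcJp : cdet Jp = 1 := by rw [hJp, cdet_pow (monic_X_sub_C _), cdet_linear, one_pow]
  have hcJm : cdet Jm = 1 := by rw [hJmdef, cdet_pow (monic_X_sub_C _), cdet_linear, neg_one_sq]
  have hne0 : ∀ h ∈ L, cdet h ≠ 0 := fun h hh e => by
    have : ldet L = 0 := List.prod_eq_zero (List.mem_map.2 ⟨h, hh, e⟩)
    rw [hdet] at this; exact one_ne_zero this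
  set isJ : F[X] → Bool := fun h => decide (h = Jp ∨ h = Jm) with hisJ
  set Js := L.filter isJ with hJs
  set O := L.filter fun h => !isJ h with hOdef
  have hperm : L.Perm (Js ++ O) := (List.filter_append_perm isJ L).symm
  have hJmem : ∀ h ∈ Js, h ∈ L ∧ (h = Jp ∨ h = Jm) := fun h hh => by simpa [hJs, hisJ] using hh
  have hOmem : ∀ h ∈ O, h ∈ L ∧ h ≠ Jp ∧ h ≠ Jm := fun h hh => by simpa [hOdef, hisJ] using hh
  have hJsd : ldet Js = 1 := List.prod_eq_one fun x hx => by
    obtain ⟨y, hy, rfl⟩ := List.mem_map.1 hx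
    rcases (hJmem y hy).2 with e | e
    · rw [e, hcJp]
    · rw [e, hcJm]
  have hOd : ldet O = 1 := by
    have : ldet L = ((Js ++ O).map cdet).prod := (hperm.map cdet).prod_eq
    rw [List.map_append, List.prod_append] at this
    change ldet L = ldet Js * ldet O at this
    rwa [hdet, hJsd, one_mul, eq_comm] at this
  have hJgad : ∀ J' : List F[X], (∀ h ∈ J', h = Jp ∨ h = Jm) → GadL J' ((-1) ^ J'.length) := by
    intro J' hJ'
    refine gadL_forall_neg (fun h hh => ?_) fun h hh => ?_
    · rcases hJ' h hh with e | e <;> rw [e] <;> exact (monic_X_sub_C _).pow 2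
    · rcases hJ' h hh with e | e <;> rw [e]
      exacts [thr_Jp, thr_Jm]
  refine GadL.perm ?_ hperm
  rcases flex_others h3 O.length O le_rfl
    (fun h hh => ⟨hL h (hOmem h hh).1, hne0 h (hOmem h hh).1, (hOmem h hh).2⟩) hOd with hO | hO
  · rw [hO, List.append_nil]
    rw [hO, List.append_nil] at hperm
    have hJall : ∀ h ∈ Js, h = Jp ∨ h = Jm := fun h hh => (hJmem h hh).2
    rcases Nat.even_or_odd Js.length with he | ho
    · have := hJgad Js hJall
      rwa [he.neg_one_pow] at this
    by_cases hmix : Jp ∈ Js ∧ Jm ∈ Js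
    · have hJne : Jm ≠ Jp := fun e => by
        have := congrArg (eval 1) e
        simp [hJp, hJmdef] at this
        exact hne (by linear_combination -this)
      have h1 := List.perm_cons_erase hmix.1
      have hm' : Jm ∈ Js.erase Jp := (List.mem_erase_of_ne hJne).2 hmix.2
      have h2 := h1.trans ((List.perm_cons_erase hm').cons Jp)
      have hrest : ∀ h ∈ (Js.erase Jp).erase Jm, h = Jp ∨ h = Jm := fun h hh =>
        hJall h (List.mem_of_mem_erase (List.mem_of_mem_erase hh))
      have hlen : Js.length = ((Js.erase Jp).erase Jm).length + 2 := by rw [h2.length_eq]; simp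
      have hg := hJgad _ hrest
      rw [Odd.neg_one_pow (by rw [hlen] at ho; exact Nat.odd_add.1 ho |>.2 (by norm_num))] at hg
      have hco : IsCoprime Jp Jm := (isCoprime_X_sub_C_of_isUnit_sub (sub_ne_zero.2 hne.symm).isUnit).pow
      have hF : Flex [Jp, Jm] := Flex.merge ((monic_X_sub_C _).pow 2) ((monic_X_sub_C _).pow 2) hco
        (flex_of_deg h3 (((monic_X_sub_C _).pow 2).mul ((monic_X_sub_C _).pow 2))
          (by rw [((monic_X_sub_C (1 : F)).pow 2).natDegree_mul ((monic_X_sub_C _).pow 2),
              (monic_X_sub_C (1 : F)).natDegree_pow, (monic_X_sub_C (-1 : F)).natDegree_pow, natDegree_X_sub_C,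
              natDegree_X_sub_C]
              omega)
          (by rw [cdet_mul ((monic_X_sub_C _).pow 2) ((monic_X_sub_C _).pow 2), hcJp, hcJm, one_mul]))
      refine GadL.perm ?_ h2
      have := GadL.append (L := [Jp, Jm]) (L' := (Js.erase Jp).erase Jm)
        (fun x hx => by
          simp only [List.mem_cons, List.not_mem_nil, or_false] at hx
          rcases hx with e | e <;> rw [e] <;> exact (monic_X_sub_C _).pow 2)
        (fun x hx => by rcases hrest x hx with e | e <;> rw [e] <;> exact (monic_X_sub_C _).pow 2) hF.2 hg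
      rwa [neg_mul_neg, one_mul] at this
    · obtain ⟨c, hc, hcs⟩ : ∃ c : F, (c = 1 ∨ c = -1) ∧ ∀ h ∈ Js, h = (X - C c) ^ 2 := by
        by_cases hp : Jp ∈ Js
        · exact ⟨1, Or.inl rfl, fun h hh => (hJall h hh).resolve_right fun e => hmix ⟨hp, e ▸ hh⟩⟩
        · exact ⟨-1, Or.inr rfl, fun h hh => (hJall h hh).resolve_left fun e => hp (e ▸ hh)⟩
      obtain ⟨j, hj⟩ := ho
      have hJr := List.eq_replicate_iff.2 ⟨hj, hcs⟩
      rcases j with _ | j
      · refine absurd ?_ (hdeg ((X - C c) ^ 2) ?_)
        · rw [(monic_X_sub_C c).natDegree_pow, natDegree_X_sub_C]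
        · rw [hJr] at hperm
          exact List.perm_singleton.1 hperm
      · rw [hJr, show 2 * (j + 1) + 1 = 3 + 2 * j by omega, List.replicate_add]
        have h6 : GadL (List.replicate 3 ((X - C c) ^ 2)) 1 := by
          rcases hc with rfl | rfl
          exacts [thr_222p, thr_222m]
        have hrest := hJgad (List.replicate (2 * j) ((X - C c) ^ 2)) fun h hh => by
          rw [List.eq_of_mem_replicate hh]
          rcases hc with rfl | rfl
          exacts [Or.inl rfl, Or.inr rfl]
        rw [List.length_replicate, (even_two_mul j).neg_one_pow] at hrest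
        have := GadL.append (fun x hx => by rw [List.eq_of_mem_replicate hx]; exact (monic_X_sub_C c).pow 2)
          (fun x hx => by rw [List.eq_of_mem_replicate hx]; exact (monic_X_sub_C c).pow 2) h6 hrest
        rwa [one_mul] at this
  · have hJ := hJgad Js fun h hh => (hJmem h hh).2
    have hF := Flex.append (L := O) (L' := Js) (fun x hx => (hL x (hOmem x hx).1).monic)
      (fun x hx => (hL x (hJmem x hx).1).monic) ?_ hO hJ
    · exact hF.1.perm List.perm_append_comm
    · exact neg_one_pow_eq_or F _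

/-- Every endomorphism of determinant one in dimension at least three over three elements is a commutator. -/
theorem gad_three (h3 : Nat.card F = 3) {V : Type*} [AddCommGroup V] [Module F V] [Module.Finite F V]
    (φ : Module.End F V) (hdet : LinearMap.det φ = 1) (hn : 3 ≤ finrank F V) : Gad φ 1 := by
  obtain ⟨L, hL, hs⟩ := exists_dcyc φ
  refine Gad.sim (gadL_three h3 hL ?_ ?_) hs
  · rw [← hdet, hs.det_eq, det_dcyc fun h hh => (Prim.monic (hL h hh))]
    rfl
  · intro h e h2
    subst e
    have := natDegree_eq_of_sim (Prim.monic (hL h List.mem_cons_self)) (hs.trans (dcyc_singleton _))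
    omega

end Cfsg.Agent.SLComm
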