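import Cfsg.Agent.Lib.SLComm.Two

/-!
# Gadgets over the field with three elements

* `flex_even` : a block of determinant one that is not a Jordan block of size two;
* `flex_pair` : two blocks of determinant `-1`;
Both come with both determinants of the first commutator entry (`Flex`).
-/

set_option autoImplicit false
set_option linter.style.haveILetI false
set_option linter.unusedVariables false
set_option linter.unusedSectionVars false

namespace Cfsg.Agent.SLComm

open Polynomial Module Matrix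

variable {F : Type*} [Field F] [Finite F]

/-- Commutator with both signs. -/
def Flex (L : List F[X]) : Prop := GadL L 1 ∧ GadL L (-1)

theorem Flex.perm {L L' : List F[X]} (h : Flex L) (hp : L'.Perm L) : Flex L' := ⟨h.1.perm hp, h.2.perm hp⟩

theorem Flex.append {L L' : List F[X]} {D : F} (hL : ∀ h ∈ L, h.Monic) (hL' : ∀ h ∈ L', h.Monic)
    (hD : D = 1 ∨ D = -1) (h : Flex L) (h' : GadL L' D) : Flex (L ++ L') := by
  have h1 := GadL.append hL hL' h.1 h'
  have h2 := GadL.append hL hL' h.2 h'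
  rcases hD with rfl | rfl
  · exact ⟨by rwa [mul_one] at h1, by rwa [mul_one] at h2⟩
  · exact ⟨by rwa [neg_mul_neg, mul_one] at h2, by rwa [one_mul] at h1⟩

theorem Flex.merge {f g : F[X]} (hf : f.Monic) (hg : g.Monic) (hc : IsCoprime f g) {L : List F[X]}
    (h : Flex (f * g :: L)) : Flex (f :: g :: L) := ⟨h.1.merge hf hg hc, h.2.merge hf hg hc⟩

theorem pm_one_of_card_three (h3 : Nat.card F = 3) {x : F} (hx : x ≠ 0) : x = 1 ∨ x = -1 := by
  haveI := Fintype.ofFinite F
  rw [Nat.card_eq_fintype_card] at h3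
  have := FiniteField.pow_card_sub_one_eq_one x hx
  rw [h3] at this
  exact sq_eq_one_iff.1 this

theorem neg_one_ne_one (h3 : Nat.card F = 3) : (-1 : F) ≠ 1 := by
  haveI : Fact (Nat.Prime 3) := ⟨Nat.prime_three⟩
  haveI := charP_of_card (F := F) h3
  exact Ring.neg_one_ne_one_of_char_ne_two (by rw [ringChar.eq F 3]; norm_num)

variable (F) in
/-- `X ^ 2 - τ X - 1`. -/
noncomputable def qd (τ : F) : F[X] := X ^ 2 - C τ * X + C (-1)

theorem qd_monic (τ : F) : (qd F τ).Monic := by unfold qd; monicity!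

theorem qd_natDegree (τ : F) : (qd F τ).natDegree = 2 := by unfold qd; compute_degree!

theorem qd_coeff_zero (τ : F) : (qd F τ).coeff 0 = -1 := by simp [qd]

theorem cdet_qd (τ : F) : cdet (qd F τ) = -1 := by rw [cdet, qd_natDegree, qd_coeff_zero]; simp

theorem qd_root (h3 : Nat.card F = 3) {τ : F} (hτ : τ ≠ 0) (x : F) : x ^ 2 - τ * x + -1 ≠ 0 := by
  rcases eq_or_ne x 0 with rfl | hx
  · simp
  rcases pm_one_of_card_three h3 hx with rfl | rfl
  · intro e; exact hτ (by linear_combination -e)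
  · intro e; exact hτ (by linear_combination e)

theorem qd_eval_ne (h3 : Nat.card F = 3) {τ : F} (hτ : τ ≠ 0) (x : F) : (qd F τ).eval x ≠ 0 := by
  simpa [qd] using qd_root h3 hτ x

theorem qd_irreducible (h3 : Nat.card F = 3) {τ : F} (hτ : τ ≠ 0) : Irreducible (qd F τ) := by
  rw [(qd_monic τ).irreducible_iff_roots_eq_zero_of_degree_le_three (by rw [qd_natDegree])
    (by rw [qd_natDegree]; omega)]
  refine Multiset.eq_zero_of_forall_notMem fun x hx => qd_eval_ne h3 hτ x ?_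
  exact (mem_roots (qd_monic τ).ne_zero).1 hx

theorem invPoly_qd (τ : F) : invPoly (qd F τ) = qd F (-τ) := by
  have := invPoly_quad (F := F) (τ := -τ) (N := -1) (neg_ne_zero.2 one_ne_zero)
  rw [inv_neg, inv_one, neg_div_neg_eq, div_one] at this
  exact this

theorem invPoly_one_pow (n : ℕ) : invPoly ((X - C (1 : F)) ^ n) = (X - C 1) ^ n := by
  rw [invPoly_pow, invPoly_linear one_ne_zero, inv_one]

theorem invPoly_neg_one_pow (n : ℕ) : invPoly ((X - C (-1 : F)) ^ n) = (X - C (-1)) ^ n := by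
  rw [invPoly_pow, invPoly_linear (neg_ne_zero.2 one_ne_zero), inv_neg, inv_one]

theorem cz_linear {c : F} (hc : c ≠ 0) (n : ℕ) : ((X - C c) ^ n).coeff 0 ≠ 0 := by
  rw [coeff_zero_linear_pow]; exact pow_ne_zero _ (neg_ne_zero.2 hc)

theorem cz_qd (τ : F) : (qd F τ).coeff 0 ≠ 0 := by rw [qd_coeff_zero]; exact neg_ne_zero.2 one_ne_zero

theorem coeff_zero_of_cdet {h : F[X]} {k : ℕ} {e : F} (hd : h.natDegree = k) (hc : cdet h = e) :
    h.coeff 0 = (-1) ^ k * e := by
  rw [← hc, cdet, hd, ← mul_assoc, ← mul_pow, neg_one_mul, neg_neg, one_pow, one_mul]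

/-! ### Blocks of determinant one -/

/-- The two factorisations of a block of determinant one and degree at least three. -/
theorem units_three (h3 : Nat.card F = 3) {h : F[X]} (hm : h.Monic) {a : ℕ} (hd : h.natDegree = a + 3)
    (hc : cdet h = 1) {D : F} (hD : D = 1 ∨ D = -1) :
    ∃ (n : ℕ) (x y : (Module.End F (Fin n → F))ˣ) (Q : F[X]),
      Sim (Cyc h) ((x * y * x⁻¹ * y⁻¹ : (Module.End F (Fin n → F))ˣ) : Module.End F (Fin n → F)) ∧
      LinearMap.det (x : Module.End F (Fin n → F)) = D ∧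
      LinearMap.det (y : Module.End F (Fin n → F)) = 1 ∧
      aeval ((x⁻¹ : (Module.End F (Fin n → F))ˣ) : Module.End F (Fin n → F)) Q = 0 ∧
      IsCoprime (X ^ 2 + 1 : F[X]) Q := by
  have hne := neg_one_ne_one (F := F) h3
  have h0 := coeff_zero_of_cdet hd hc
  have hu : (X ^ 2 + 1 : F[X]).eval 1 ≠ 0 := by
    simp only [eval_add, eval_pow, eval_X, eval_one, one_pow]
    intro e
    exact hne (by linear_combination -e)
  have hw : (X ^ 2 + 1 : F[X]).eval (-1) ≠ 0 := by
    simp only [eval_add, eval_pow, eval_X, eval_one, neg_one_sq]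
    intro e
    exact hne (by linear_combination -e)
  rcases hD with rfl | rfl
  · have hfac := fac_corner (a := a) (b := 0) (τ := (-1 : F)) (N := -1) (c := 1) (c' := -1) (h := h)
      (f := qd F 1 * (X - C 1) ^ a * (X - C (-1)) ^ 1)
      (neg_ne_zero.2 one_ne_zero) (neg_ne_zero.2 one_ne_zero) (qd_root h3 (neg_ne_zero.2 one_ne_zero))
      (Or.inr ⟨one_ne_zero, hne.symm⟩) (neg_ne_zero.2 one_ne_zero)
      (((qd_monic 1).mul ((monic_X_sub_C 1).pow a)).mul ((monic_X_sub_C _).pow 1))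
      (by rw [((qd_monic (1 : F)).mul ((monic_X_sub_C 1).pow a)).natDegree_mul ((monic_X_sub_C _).pow 1),
            (qd_monic (1 : F)).natDegree_mul ((monic_X_sub_C 1).pow a), qd_natDegree,
            (monic_X_sub_C (1 : F)).natDegree_pow, (monic_X_sub_C (-1 : F)).natDegree_pow, natDegree_X_sub_C,
            natDegree_X_sub_C]
          omega)
      hm hd (by
        rw [h0, mul_coeff_zero, mul_coeff_zero, qd_coeff_zero, coeff_zero_linear_pow, coeff_zero_linear_pow]
        ring)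
    rw [show (X ^ 2 - C (-1 : F) * X + C (-1)) = qd F (-1) from rfl, invPoly_mul, invPoly_mul, invPoly_qd, neg_neg,
      invPoly_one_pow, invPoly_neg_one_pow] at hfac
    have hfm : (qd F 1 * (X - C 1) ^ a * (X - C (-1)) ^ (0 + 1)).Monic :=
      ((qd_monic 1).mul ((monic_X_sub_C 1).pow a)).mul ((monic_X_sub_C _).pow 1)
    have hf0 : (qd F 1 * (X - C 1) ^ a * (X - C (-1)) ^ (0 + 1)).coeff 0 ≠ 0 := by
      rw [mul_coeff_zero, mul_coeff_zero, qd_coeff_zero, coeff_zero_linear_pow, coeff_zero_linear_pow]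
      simp
    have hcs : CentSurj (Cyc (qd F 1 * (X - C 1) ^ a * (X - C (-1)) ^ (0 + 1))) := by
      haveI := ((qd_monic (1 : F)).mul ((monic_X_sub_C 1).pow a)).finite_adjoinRoot
      haveI := (monic_X_sub_C (-1 : F)).finite_adjoinRoot
      rw [zero_add, pow_one]
      refine (CentSurj.prod_right _ (centSurj_line (-1))).sim
        (cyc_mul_sim ((qd_monic 1).mul ((monic_X_sub_C 1).pow a)) (monic_X_sub_C _) (coprime_linear ?_).symm)
      simp only [eval_mul, eval_pow, eval_sub, eval_X, eval_C]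
      exact mul_ne_zero (qd_eval_ne h3 one_ne_zero _) (pow_ne_zero _ (sub_ne_zero.2 hne))
    obtain ⟨n, x, y, h1, h2, h4, h5⟩ := units_of_fac hfac hfm hf0 hcs
    refine ⟨n, x, y, _, h1, ?_, h4, h5, ?_⟩
    · rw [h2, cdet_mul ((qd_monic 1).mul ((monic_X_sub_C 1).pow a)) ((monic_X_sub_C _).pow _),
        cdet_mul (qd_monic 1) ((monic_X_sub_C 1).pow a), cdet_qd, cdet_pow (monic_X_sub_C 1),
        cdet_pow (monic_X_sub_C (-1 : F)), cdet_linear, cdet_linear]
      simp
    · rw [invPoly_mul, invPoly_mul, invPoly_qd, invPoly_one_pow, invPoly_neg_one_pow]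
      refine IsCoprime.mul_right (IsCoprime.mul_right ?_ (coprime_linear hu).symm.pow_right)
        (coprime_linear hw).symm.pow_right
      refine (((qd_irreducible h3 (neg_ne_zero.2 one_ne_zero)).coprime_iff_not_dvd).2 fun hdv => ?_).symm
      have hm2 : (X ^ 2 + 1 : F[X]).Monic := by monicity!
      have hd2 : (X ^ 2 + 1 : F[X]).natDegree ≤ (qd F (-1)).natDegree := by
        rw [qd_natDegree]; compute_degree!
      have := congrArg (fun G => G.coeff 0) (eq_of_monic_of_dvd_of_natDegree_le (qd_monic (-1)) hm2 hdv hd2)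
      simp [qd_coeff_zero] at this
      exact hne this.symm
  · have hfac := fac_two (a := a + 2) (b := 0) (c := (1 : F)) (c' := -1) (h := h)
      (f := (X - C 1) ^ (a + 2) * (X - C (-1)) ^ 1)
      (Or.inr ⟨one_ne_zero, hne.symm⟩) (fun _ => rfl) (neg_ne_zero.2 one_ne_zero)
      (((monic_X_sub_C 1).pow _).mul ((monic_X_sub_C _).pow 1))
      (by rw [((monic_X_sub_C (1 : F)).pow _).natDegree_mul ((monic_X_sub_C _).pow 1),
            (monic_X_sub_C (1 : F)).natDegree_pow, (monic_X_sub_C (-1 : F)).natDegree_pow, natDegree_X_sub_C,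
            natDegree_X_sub_C]
          omega)
      hm (by omega) (by
        rw [h0, mul_coeff_zero, coeff_zero_linear_pow, coeff_zero_linear_pow]
        ring)
    rw [invPoly_mul, invPoly_one_pow, invPoly_neg_one_pow] at hfac
    have hfm : ((X - C (1 : F)) ^ (a + 2) * (X - C (-1)) ^ (0 + 1)).Monic :=
      ((monic_X_sub_C 1).pow _).mul ((monic_X_sub_C _).pow 1)
    have hf0 : ((X - C (1 : F)) ^ (a + 2) * (X - C (-1)) ^ (0 + 1)).coeff 0 ≠ 0 := by
      rw [mul_coeff_zero, coeff_zero_linear_pow, coeff_zero_linear_pow]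
      simp
    have hcs : CentSurj (Cyc ((X - C (1 : F)) ^ (a + 2) * (X - C (-1)) ^ (0 + 1))) := by
      haveI := ((monic_X_sub_C (1 : F)).pow (a + 2)).finite_adjoinRoot
      haveI := (monic_X_sub_C (-1 : F)).finite_adjoinRoot
      rw [zero_add, pow_one]
      exact (CentSurj.prod_right _ (centSurj_line (-1))).sim
        (cyc_mul_sim ((monic_X_sub_C 1).pow _) (monic_X_sub_C _)
          (isCoprime_X_sub_C_of_isUnit_sub (sub_ne_zero.2 hne.symm).isUnit).pow_left)
    obtain ⟨n, x, y, h1, h2, h4, h5⟩ := units_of_fac hfac hfm hf0 hcs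
    refine ⟨n, x, y, _, h1, ?_, h4, h5, ?_⟩
    · rw [h2, cdet_mul ((monic_X_sub_C 1).pow _) ((monic_X_sub_C _).pow _), cdet_pow (monic_X_sub_C 1),
        cdet_pow (monic_X_sub_C (-1 : F)), cdet_linear, cdet_linear]
      simp
    · rw [invPoly_mul, invPoly_one_pow, invPoly_neg_one_pow]
      exact IsCoprime.mul_right (coprime_linear hu).symm.pow_right (coprime_linear hw).symm.pow_right

theorem flex_of_deg (h3 : Nat.card F = 3) {h : F[X]} (hm : h.Monic) (hd : 3 ≤ h.natDegree) (hc : cdet h = 1) :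
    Flex [h] := by
  obtain ⟨a, ha⟩ : ∃ a, h.natDegree = a + 3 := ⟨h.natDegree - 3, by omega⟩
  constructor
  · obtain ⟨n, x, y, Q, h1, h2, h4, -, -⟩ := units_three h3 hm ha hc (D := 1) (Or.inl rfl)
    exact GadL.of_cyc (Gad.sim ⟨x, y, rfl, h2, h4⟩ h1)
  · obtain ⟨n, x, y, Q, h1, h2, h4, -, -⟩ := units_three h3 hm ha hc (D := -1) (Or.inr rfl)
    exact GadL.of_cyc (Gad.sim ⟨x, y, rfl, h2, h4⟩ h1)

theorem flex_line : Flex [(X - C (1 : F))] := by
  have key : ∀ D : F, D ≠ 0 → GadL [(X - C (1 : F))] D := by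
    intro D hD
    have hd : LinearMap.det (D • (1 : Module.End F F)) = D := by simp
    obtain ⟨a, ha⟩ := exists_unit (φ := D • (1 : Module.End F F)) (by rw [hd]; exact hD)
    refine GadL.of_cyc (Gad.sim (ψ := (1 : Module.End F F)) ⟨a, 1, ?_, by rw [ha, hd], by simp⟩ ?_)
    · simp
    · have := sim_Cyc_linear (1 : F)
      rwa [one_smul] at this
  exact ⟨key 1 one_ne_zero, key _ (neg_ne_zero.2 one_ne_zero)⟩

/-- Copies of a simple block. -/
theorem gadL_simple {P : F[X]} (hP : Irreducible P) (hPm : P.Monic) (k : ℕ) (hdet : cdet P ^ (k + 1) = 1) {D : F}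
    (hD : D ≠ 0) : GadL (List.replicate (k + 1) P) D := by
  haveI := Fintype.ofFinite F
  haveI := Fact.mk hP
  haveI := hPm.finite_adjoinRoot
  haveI : Finite (AdjoinRoot P) := Module.finite_of_finite F
  rw [← List.ofFn_const]
  refine Gad.sim (gad_semilinear' k (AdjoinRoot.root P) ?_ hD) (dcyc_ofFn _ _ fun _ => Sim.refl _).symm
  rw [show Algebra.norm F (AdjoinRoot.root P) = cdet P from det_Cyc hPm, hdet]

theorem flex_simple {P : F[X]} (hP : Irreducible P) (hPm : P.Monic) (k : ℕ) (hdet : cdet P ^ (k + 1) = 1) :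
    Flex (List.replicate (k + 1) P) :=
  ⟨gadL_simple hP hPm k hdet one_ne_zero, gadL_simple hP hPm k hdet (neg_ne_zero.2 one_ne_zero)⟩

/-! ### Two blocks of determinant minus one -/

/-- The first half of a pair. -/
theorem fac_half (h3 : Nat.card F = 3) {h : F[X]} (hm : h.Monic) {s : ℕ} (hd : h.natDegree = s + 2)
    (hc : cdet h = -1) {τ : F} (hτ : τ ≠ 0) (hlev : s = 0 → -τ ≠ h.coeff 1) :
    Fac h (qd F τ * (X - C (-1)) ^ s) ((X - C (-1)) ^ s * (X - C 1) ^ 2) := by
  have hne := neg_one_ne_one (F := F) h3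
  have h0 := coeff_zero_of_cdet hd hc
  have hfm : (qd F τ * (X - C (-1)) ^ s).Monic := (qd_monic τ).mul ((monic_X_sub_C _).pow s)
  have hfd : (qd F τ * (X - C (-1)) ^ s).natDegree = s + 2 := by
    rw [(qd_monic τ).natDegree_mul ((monic_X_sub_C _).pow s), qd_natDegree, (monic_X_sub_C (-1 : F)).natDegree_pow,
      natDegree_X_sub_C]
    omega
  have hh : h.coeff 0 = (qd F τ * (X - C (-1)) ^ s).coeff 0 * ((-1) ^ s * 1 ^ (1 + 1)) := by
    rw [h0, mul_coeff_zero, qd_coeff_zero, coeff_zero_linear_pow, neg_neg, one_pow, pow_add]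
    ring
  rcases Nat.eq_zero_or_pos s with rfl | hs
  · rw [pow_zero, mul_one] at hfm hfd ⊢
    rw [show (qd F τ * (X - C (-1 : F)) ^ 0) = qd F τ by rw [pow_zero, mul_one]] at hh
    rw [one_mul]
    have := fac_one (k := 0) (c := (1 : F)) one_ne_zero hfm hfd hm hd (by rw [hh]; simp)
      (Or.inl ⟨rfl, by
        rw [mul_one]
        intro e
        refine hlev rfl ?_
        rw [← e]
        simp [qd, coeff_one]⟩)
    rwa [invPoly_one_pow] at this
  · have := fac_two (a := s) (b := 1) (c := (-1 : F)) (c' := 1)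
      (Or.inr ⟨neg_ne_zero.2 one_ne_zero, hne⟩) (fun h => by omega) one_ne_zero hfm (by omega) hm (by omega) hh
    rwa [invPoly_mul, invPoly_neg_one_pow, invPoly_one_pow] at this

/-- The second half of a pair with an extra quadratic. -/
theorem fac_quad (h3 : Nat.card F = 3) {h : F[X]} (hm : h.Monic) {j : ℕ} (hd : h.natDegree = j + 4)
    (hc : cdet h = -1) {τ : F} (hτ : τ ≠ 0) :
    Fac h (qd F (-τ) * (X - C (-1)) ^ j * (X - C 1) ^ 2) (qd F τ * qd F (-τ) * (X - C (-1)) ^ j) := by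
  have hne := neg_one_ne_one (F := F) h3
  have h0 := coeff_zero_of_cdet hd hc
  have hfm : (qd F (-τ) * qd F τ * (X - C (-1)) ^ j).Monic :=
    ((qd_monic _).mul (qd_monic τ)).mul ((monic_X_sub_C _).pow j)
  have hfd : (qd F (-τ) * qd F τ * (X - C (-1)) ^ j).natDegree = j + 1 + 3 := by
    rw [((qd_monic _).mul (qd_monic τ)).natDegree_mul ((monic_X_sub_C _).pow j), (qd_monic _).natDegree_mul (qd_monic τ),
      qd_natDegree, qd_natDegree, (monic_X_sub_C (-1 : F)).natDegree_pow, natDegree_X_sub_C]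
    omega
  have hfac := fac_corner (a := j) (b := 1) (τ := -τ) (N := (-1 : F)) (c := -1) (c' := 1) (h := h)
    (f := qd F (-τ) * qd F τ * (X - C (-1)) ^ j)
    (neg_ne_zero.2 hτ) (neg_ne_zero.2 one_ne_zero) (qd_root h3 (neg_ne_zero.2 hτ))
    (Or.inr ⟨neg_ne_zero.2 one_ne_zero, hne⟩) one_ne_zero hfm hfd hm (by omega) (by
      rw [h0, mul_coeff_zero, mul_coeff_zero, qd_coeff_zero, qd_coeff_zero, coeff_zero_linear_pow, neg_neg, one_pow]
      ring)
  rw [show (X ^ 2 - C (-τ) * X + C (-1 : F)) = qd F (-τ) from rfl, invPoly_mul, invPoly_mul, invPoly_qd, neg_neg,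
    invPoly_neg_one_pow, invPoly_one_pow] at hfac
  have := hfac.swap hfm
    (by rw [mul_coeff_zero, mul_coeff_zero]
        exact mul_ne_zero (mul_ne_zero (cz_qd _) (cz_qd _)) (cz_linear (neg_ne_zero.2 one_ne_zero) _))
    (((qd_monic τ).mul ((monic_X_sub_C _).pow j)).mul ((monic_X_sub_C _).pow _))
    (by rw [mul_coeff_zero, mul_coeff_zero]
        exact mul_ne_zero (mul_ne_zero (cz_qd _) (cz_linear (neg_ne_zero.2 one_ne_zero) _))
          (cz_linear one_ne_zero _))
  rwa [invPoly_mul, invPoly_mul, invPoly_mul, invPoly_mul, invPoly_qd, invPoly_qd, neg_neg, invPoly_neg_one_pow,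
    invPoly_one_pow] at this

theorem sim_cyc_triple {f g k : F[X]} (hf : f.Monic) (hg : g.Monic) (hk : k.Monic) (hfg : IsCoprime f g)
    (hfk : IsCoprime f k) (hgk : IsCoprime g k) : Sim (Cyc (f * g * k)) (dcyc [f, g, k]) :=
  (dcyc_singleton _).symm.trans (((dcyc_merge (hf.mul hg) hk (hfk.mul_left hgk) []).symm).trans
    (dcyc_merge hf hg hfg [k]).symm)

/-- The gadget for two blocks of determinant minus one. -/
theorem gadL_pair (h3 : Nat.card F = 3) {h₁ h₂ : F[X]} (hm₁ : h₁.Monic) (hm₂ : h₂.Monic) {s t : ℕ}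
    (hd₁ : h₁.natDegree = s + 2) (hd₂ : h₂.natDegree = t + 3) (hpar : (s + (t + 1)) % 2 = 0)
    (hc₁ : cdet h₁ = -1) (hc₂ : cdet h₂ = -1) :
    GadL [h₁, h₂] (-1) ∧ (0 < t → GadL [h₁, h₂] 1) := by
  have hne := neg_one_ne_one (F := F) h3
  obtain ⟨τ, hτ, hlev⟩ : ∃ τ : F, τ ≠ 0 ∧ -τ ≠ h₁.coeff 1 := by
    by_cases h : (-1 : F) = h₁.coeff 1
    · exact ⟨-1, neg_ne_zero.2 one_ne_zero, by rw [neg_neg, ← h]; exact hne.symm⟩
    · exact ⟨1, one_ne_zero, h⟩
  have hτ' : -τ ≠ 0 := neg_ne_zero.2 hτ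
  have hqq : IsCoprime (qd F τ) (qd F (-τ)) :=
    coprime_of_primes (qd_irreducible h3 hτ) (qd_irreducible h3 hτ') (qd_monic τ) (qd_monic _) fun e => by
      have := congrArg (fun G => G.coeff 1) e
      simp [qd] at this
      rcases pm_one_of_card_three h3 hτ with rfl | rfl
      · exact hne this
      · rw [neg_neg] at this; exact hne this.symm
  have hql : ∀ {τ : F}, τ ≠ 0 → ∀ (c : F) (n : ℕ), IsCoprime (qd F τ) ((X - C c) ^ n) :=
    fun hτ c n => (coprime_linear (qd_eval_ne h3 hτ c)).symm.pow_right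
  have hll : ∀ (m n : ℕ), IsCoprime ((X - C (-1 : F)) ^ m) ((X - C 1) ^ n) := fun m n =>
    (isCoprime_X_sub_C_of_isUnit_sub (sub_ne_zero.2 hne).isUnit).pow
  have hmu : ∀ n, ((X - C (1 : F)) ^ n).Monic := fun n => (monic_X_sub_C _).pow n
  have hmw : ∀ n, ((X - C (-1 : F)) ^ n).Monic := fun n => (monic_X_sub_C _).pow n
  have hf₁ := fac_half h3 hm₁ hd₁ hc₁ hτ fun _ => hlev
  have hb₁ : BFac (Cyc h₁) (dcyc [qd F τ, (X - C (-1)) ^ s]) (dcyc [(X - C (-1)) ^ s, (X - C 1) ^ 2]) :=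
    hf₁.bfac.sim (Sim.refl _) (sim_cyc_pair (qd_monic τ) (hmw s) (hql hτ _ _)) (sim_cyc_pair (hmw s) (hmu 2) (hll _ _))
  have finish : ∀ (F2 G2 R : List F[X]), BFac (Cyc h₂) (dcyc F2) (dcyc G2) → (∀ p ∈ R, p.Monic) →
      F2.Perm ((X - C 1) ^ 2 :: R) → G2.Perm (qd F τ :: R) →
      GadL [h₁, h₂] (-1 * (-1) ^ s * ldet R) := by
    intro F2 G2 R hb₂ hR hF hG
    set R0 : List F[X] := qd F τ :: (X - C (-1)) ^ s :: (X - C 1) ^ 2 :: R with hR0
    have hmR : ∀ p ∈ R0, p.Monic := by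
      intro p hp
      simp only [hR0, List.mem_cons] at hp
      rcases hp with rfl | rfl | rfl | hp
      exacts [qd_monic τ, hmw s, hmu 2, hR p hp]
    have hb : BFac (dcyc [h₁, h₂]) (dcyc ([qd F τ, (X - C (-1)) ^ s] ++ F2))
        (dcyc ([(X - C (-1)) ^ s, (X - C 1) ^ 2] ++ G2)) :=
      (hb₁.cons (hb₂.sim (dcyc_singleton _) (Sim.refl _) (Sim.refl _)))
    have hp1 : ([qd F τ, (X - C (-1)) ^ s] ++ F2).Perm R0 := (hF.cons _).cons _
    have hp2 : ([(X - C (-1)) ^ s, (X - C 1) ^ 2] ++ G2).Perm R0 := by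
      refine (((hG.cons _).cons _)).trans ?_
      refine (((List.Perm.swap (qd F τ) ((X - C 1) ^ 2) R).cons _)).trans ?_
      exact List.Perm.swap _ _ _
    have hb' := hb.sim (Sim.refl _) (dcyc_perm hp1) (dcyc_perm hp2)
    haveI := finite_dcyc hmR
    have hdet : LinearMap.det (dcyc R0) = -1 * (-1) ^ s * ldet R := by
      rw [det_dcyc hmR]
      show ldet R0 = _
      rw [hR0, ldet, List.map_cons, List.map_cons, List.map_cons, List.prod_cons, List.prod_cons, List.prod_cons,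
        cdet_qd, cdet_pow (monic_X_sub_C (-1 : F)), cdet_linear, cdet_pow (monic_X_sub_C (1 : F)), cdet_linear,
        one_pow, one_mul, ldet, mul_assoc]
    refine (gad_of_bfac hb' (Sim.refl _) ?_ (centSurj_dcyc_prime (qd_irreducible h3 hτ) (qd_monic τ) hmR
      (by simp [hR0]))).congr hdet
    rw [det_dcyc hmR]
    refine List.prod_ne_zero fun e => ?_
    obtain ⟨p, hp, hp0⟩ := List.mem_map.1 e
    have : p.coeff 0 = 0 := (mul_eq_zero.1 hp0).resolve_left (pow_ne_zero _ (neg_ne_zero.2 one_ne_zero))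
    simp only [hR0, List.mem_cons] at hp
    rcases hp with rfl | rfl | rfl | hp
    · exact cz_qd _ this
    · exact cz_linear (neg_ne_zero.2 one_ne_zero) _ this
    · exact cz_linear one_ne_zero _ this
    · have h' : p ∈ [(X - C 1) ^ 2] ++ R := List.mem_append_right _ hp
      have hbad : LinearMap.det (dcyc R0) = 0 := by
        rw [det_dcyc hmR]
        exact List.prod_eq_zero e
      obtain ⟨n, A, Y, hA, hh, -⟩ := hb'
      have h12 : ∀ q ∈ [h₁, h₂], Monic q := by simp [hm₁, hm₂]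
      have e2 := hh.det_eq
      rw [det_dcyc h12, map_mul, hA.det_eq, hbad, zero_mul] at e2
      change ([h₁, h₂].map cdet).prod = 0 at e2
      simp [hc₁, hc₂] at e2
  constructor
  · have hf₂ := fac_half h3 hm₂ (s := t + 1) (by omega) hc₂ hτ' (fun h => by omega)
    have hsw := hf₂.swap ((qd_monic _).mul (hmw _))
      (by rw [mul_coeff_zero]; exact mul_ne_zero (cz_qd _) (cz_linear (neg_ne_zero.2 one_ne_zero) _))
      ((hmw _).mul (hmu _))
      (by rw [mul_coeff_zero]
          exact mul_ne_zero (cz_linear (neg_ne_zero.2 one_ne_zero) _) (cz_linear one_ne_zero _))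
    rw [invPoly_mul, invPoly_mul, invPoly_qd, neg_neg, invPoly_neg_one_pow, invPoly_one_pow] at hsw
    have hb₂ : BFac (Cyc h₂) (dcyc [(X - C (-1)) ^ (t + 1), (X - C 1) ^ 2]) (dcyc [qd F τ, (X - C (-1)) ^ (t + 1)]) :=
      hsw.bfac.sim (Sim.refl _) (sim_cyc_pair (hmw _) (hmu 2) (hll _ _))
        (sim_cyc_pair (qd_monic τ) (hmw _) (hql hτ _ _))
    refine (finish _ _ [(X - C (-1)) ^ (t + 1)] hb₂ (by simpa using hmw (t + 1)) (List.Perm.swap _ _ _)
      (List.Perm.refl _)).congr ?_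
    simp only [ldet, List.map_cons, List.map_nil, List.prod_cons, List.prod_nil, mul_one,
      cdet_pow (monic_X_sub_C (-1 : F)), cdet_linear]
    rw [mul_assoc, ← pow_add, Even.neg_one_pow (Nat.even_iff.2 hpar), mul_one]
  · intro ht
    obtain ⟨j, hj⟩ : ∃ j, t = j + 1 := ⟨t - 1, by omega⟩
    have hsw := fac_quad h3 hm₂ (j := j) (by omega) hc₂ hτ
    have hb₂ : BFac (Cyc h₂) (dcyc [qd F (-τ), (X - C (-1)) ^ j, (X - C 1) ^ 2])
        (dcyc [qd F τ, qd F (-τ), (X - C (-1)) ^ j]) :=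
      hsw.bfac.sim (Sim.refl _)
        (sim_cyc_triple (qd_monic _) (hmw _) (hmu 2) (hql hτ' _ _) (hql hτ' _ _) (hll _ _))
        (sim_cyc_triple (qd_monic τ) (qd_monic _) (hmw _) hqq (hql hτ _ _) (hql hτ' _ _))
    refine (finish _ _ [qd F (-τ), (X - C (-1)) ^ j] hb₂ ?_ ?_ (List.Perm.refl _)).congr ?_
    · intro p hp
      simp only [List.mem_cons, List.not_mem_nil, or_false] at hp
      rcases hp with rfl | rfl
      exacts [qd_monic _, hmw _]
    · exact (List.perm_middle (l₁ := [qd F (-τ), (X - C (-1)) ^ j]) (l₂ := ([] : List F[X]))).trans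
        (List.Perm.refl _)
    · simp only [ldet, List.map_cons, List.map_nil, List.prod_cons, List.prod_nil, mul_one, cdet_qd,
        cdet_pow (monic_X_sub_C (-1 : F)), cdet_linear]
      rw [show -1 * (-1 : F) ^ s * (-1 * (-1) ^ j) = (-1) ^ (s + j) by rw [pow_add]; ring,
        Even.neg_one_pow (Nat.even_iff.2 (by omega))]

/-- `-1` in dimension two, as a commutator, the first factor of order four. -/
theorem units_neg_one [CharP F 3] : ∃ a b : (Module.End F (Fin 2 → F))ˣ,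
    Sim ((-1 : F) • 1 : Module.End F (Fin 2 → F))
        ((a * b * a⁻¹ * b⁻¹ : (Module.End F (Fin 2 → F))ˣ) : Module.End F (Fin 2 → F)) ∧
      LinearMap.det (a : Module.End F (Fin 2 → F)) = 1 ∧ LinearMap.det (b : Module.End F (Fin 2 → F)) = 1 ∧
      aeval ((a⁻¹ : (Module.End F (Fin 2 → F))ˣ) : Module.End F (Fin 2 → F)) (X ^ 2 + 1 : F[X]) = 0 := by
  obtain ⟨a, b, h1, -, h3, h4, h5⟩ := units_mat (F := F) (M := (-1 : Matrix (Fin 2) (Fin 2) (ZMod 3)))
    (!![0, 1; 2, 0]) (!![0, 2; 1, 0]) (!![1, 1; 1, 2]) (!![1, 1; 1, 2] ^ 3)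
    (by decide +kernel) (by decide +kernel) (by decide +kernel) (by decide +kernel)
  refine ⟨a, b, ?_, ?_, h5, ?_⟩
  · rw [← h1, show (-1 : Matrix (Fin 2) (Fin 2) (ZMod 3)).map (ZMod.castHom (dvd_rfl (a := 3)) F) =
      (ZMod.castHom (dvd_rfl (a := 3)) F).mapMatrix (-1) from rfl, map_neg, map_one, map_neg, Matrix.toLin'_one,
      show ((-1 : F) • 1 : Module.End F (Fin 2 → F)) = -LinearMap.id from LinearMap.ext fun v => by simp]
    exact Sim.refl _
  · rw [h4, show (!![0, 1; 2, 0] : Matrix (Fin 2) (Fin 2) (ZMod 3)).det = 1 by decide +kernel, map_one]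
  · set A : Matrix (Fin 2) (Fin 2) (ZMod 3) := !![0, 2; 1, 0] with hA
    have hsq : A ^ 2 + 1 = 0 := by rw [hA]; decide +kernel
    rw [h3, show Matrix.toLin' (A.map (ZMod.castHom (dvd_rfl (a := 3)) F)) =
      Matrix.toLinAlgEquiv' ((ZMod.castHom (dvd_rfl (a := 3)) F).mapMatrix A) from rfl]
    simp only [map_add, map_pow, aeval_X, map_one]
    rw [← map_pow, ← map_one (Matrix.toLinAlgEquiv' (R := F) (n := Fin 2)), ← map_add, ← map_pow,
      ← map_one ((ZMod.castHom (dvd_rfl (a := 3)) F).mapMatrix (m := Fin 2)), ← map_add, hsq, map_zero, map_zero]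

/-- `-1` and a long Jordan block of eigenvalue `-1`. -/
theorem gadL_one_long (h3 : Nat.card F = 3) (a : ℕ) (ha : (a + 3) % 2 = 0) {D : F} (hD : D = 1 ∨ D = -1) :
    GadL [X - C (-1 : F), (X - C (-1)) ^ (a + 4)] D := by
  haveI : Fact (Nat.Prime 3) := ⟨Nat.prime_three⟩
  haveI := charP_of_card (F := F) h3
  set φ₁ : Module.End F (Fin 2 → F) := (-1 : F) • 1 with hφ₁
  haveI := ((monic_X_sub_C (-1 : F)).pow (a + 2 + 1)).finite_adjoinRoot
  have hu1 : φ₁ (Pi.single 1 1) = (-1 : F) • Pi.single 1 1 := rfl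
  obtain ⟨L, hL, hw, hstep, hgen⟩ := tri_jordan hu1 (a + 2)
  have hfst : ∀ (x : Fin 2 → F), triMap φ₁ (L.smulRight (Pi.single 1 1)) (Cyc ((X - C (-1 : F)) ^ (a + 2 + 1)))
      (x, 0) = ((-1 : F) • x, 0) := fun x => by simp [triMap_apply, hφ₁]
  have hv : aeval (triMap φ₁ (L.smulRight (Pi.single 1 1)) (Cyc ((X - C (-1 : F)) ^ (a + 2 + 1)))) (X - C (-1 : F))
      ((Pi.single 0 1, 0) : (Fin 2 → F) × AdjoinRoot ((X - C (-1 : F)) ^ (a + 2 + 1))) = 0 := by
    rw [map_sub, aeval_X, aeval_C, LinearMap.sub_apply, hfst, Module.algebraMap_end_apply, Prod.smul_mk, smul_zero,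
      sub_self]
  have hsim : Sim (triMap φ₁ (L.smulRight (Pi.single 1 1)) (Cyc ((X - C (-1 : F)) ^ (a + 2 + 1))))
      (dcyc [X - C (-1 : F), (X - C (-1)) ^ (a + 4)]) := by
    refine (sim_cyc_prod (monic_X_sub_C (-1 : F)) ((monic_X_sub_C (-1)).pow (a + 4)) ?_ ?_ hv hw).trans
      (((Sim.refl _).prodMap (dcyc_singleton _).symm).trans (dcyc_cons _ _).symm)
    · rw [Module.finrank_prod, Module.finrank_fin_fun,
        finrank_adjoinRoot ((monic_X_sub_C (-1 : F)).pow (a + 2 + 1))]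
      simp only [(monic_X_sub_C (-1 : F)).natDegree_pow, natDegree_X_sub_C]
      omega
    · set ψ := triMap φ₁ (L.smulRight (Pi.single 1 1)) (Cyc ((X - C (-1 : F)) ^ (a + 2 + 1))) with hψ
      set S := cspan ψ (Pi.single 0 1, 0) ⊔ cspan ψ (0, 1) with hS
      have hinv : ∀ x ∈ S, ψ x ∈ S := fun x hx => by
        obtain ⟨y, hy, z, hz, rfl⟩ := Submodule.mem_sup.1 hx
        rw [map_add]
        exact S.add_mem (Submodule.mem_sup_left (map_mem_cspan _ hy)) (Submodule.mem_sup_right (map_mem_cspan _ hz))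
      obtain ⟨hu, hall⟩ := hgen S hinv (Submodule.mem_sup_right (self_mem_cspan _ _))
      refine eq_top_iff.2 fun x _ => ?_
      rw [show x = x.1 0 • ((Pi.single 0 1, 0) : (Fin 2 → F) × AdjoinRoot ((X - C (-1 : F)) ^ (a + 2 + 1))) +
          x.1 1 • (Pi.single 1 1, 0) + (0, x.2) by
        refine Prod.ext (funext fun i => ?_) (by simp)
        fin_cases i <;> simp]
      exact S.add_mem (S.add_mem (S.smul_mem _ (Submodule.mem_sup_left (self_mem_cspan _ _))) (S.smul_mem _ hu))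
        (hall _)
  obtain ⟨a₁, b₁, hsim₁, hd₁, hb₁, hP⟩ := units_neg_one (F := F)
  obtain ⟨n, a₂, b₂, Q, h₂, hda₂, hb₂, hQ, hco⟩ := units_three h3
    (h := (X - C (-1 : F)) ^ (a + 2 + 1)) ((monic_X_sub_C _).pow _) (a := a)
    (by rw [(monic_X_sub_C (-1 : F)).natDegree_pow, natDegree_X_sub_C]; omega)
    (by rw [cdet_pow (monic_X_sub_C (-1 : F)), cdet_linear, Even.neg_one_pow (Nat.even_iff.2 (by omega))]) hD
  have := gad_triMap (L.smulRight (Pi.single 1 1)) a₁ b₁ a₂ b₂ hsim₁ h₂ hb₁ hb₂ hco hP hQ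
  rw [hda₂, hd₁, one_mul] at this
  exact Gad.sim this hsim.symm

end Cfsg.Agent.SLComm
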