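import Cfsg.Agent.Lib.SLComm.SLBound
import Mathlib.RingTheory.Polynomial.ScaleRoots
import Mathlib.Algebra.Polynomial.Expand

/-!
# The tuple of a class is an invariant, and its behaviour under scalars

* `perm_of_sim` : the primary pairs of a model are determined by it up to order;
* `sim_smul_dcyc`, `slTup_fixed` : a class fixed by the scalar `ζ` has a tuple fixed by `scaleRoots · ζ`;
* `exists_expand_of_scaleRoots`, `card_fixed_le` : there are at most `(n / e) q ^ (n / e)` such classes for `ζ` of order `e`.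
-/

set_option autoImplicit false
set_option linter.style.haveILetI false
set_option linter.unusedVariables false
set_option linter.unusedSectionVars false

namespace Cfsg.Agent.SLComm

open Polynomial Module Matrix

variable {F : Type*} [Field F]

section Rank

/-- The dimension of the image of a polynomial in the model. -/
noncomputable def rk {V : Type*} [AddCommGroup V] [Module F V] (φ : Module.End F V) (G : F[X]) : ℕ :=
  finrank F (LinearMap.range (aeval φ G))

theorem rk_sim {V W : Type*} [AddCommGroup V] [Module F V] [AddCommGroup W] [Module F W]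
    {φ : Module.End F V} {ψ : Module.End F W} (h : Sim φ ψ) (G : F[X]) : rk φ G = rk ψ G := by
  obtain ⟨e, he⟩ := h
  have h1 : ∀ v, e (aeval φ G v) = aeval ψ G (e v) := by
    intro v
    induction G using Polynomial.induction_on' generalizing v with
    | add p q hp hq => simp only [map_add, LinearMap.add_apply, hp, hq]
    | monomial k a =>
      have hp : ∀ (k : ℕ) v, e ((φ ^ k) v) = (ψ ^ k) (e v) := by
        intro k
        induction k with
        | zero => intro v; simp
        | succ k ih => intro v; rw [pow_succ, pow_succ, Module.End.mul_apply, Module.End.mul_apply, ih, he]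
      simp [aeval_monomial, Module.algebraMap_end_apply, hp]
  have h2 : (LinearMap.range (aeval φ G)).map (e : V →ₗ[F] W) = LinearMap.range (aeval ψ G) := by
    ext w
    simp only [Submodule.mem_map, LinearMap.mem_range]
    constructor
    · rintro ⟨_, ⟨v, rfl⟩, rfl⟩
      exact ⟨e v, (h1 v).symm⟩
    · rintro ⟨u, rfl⟩
      exact ⟨_, ⟨e.symm u, rfl⟩, by simpa using h1 (e.symm u)⟩
  rw [rk, rk, ← h2]
  exact (LinearEquiv.finrank_map_eq e _).symm

theorem rk_Cyc {h h' G : F[X]} (hh' : h'.Monic) (hk : ∀ K, h ∣ G * K ↔ h' ∣ K) : rk (Cyc h) G = h'.natDegree := by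
  let ψ : F[X] →ₗ[F] AdjoinRoot h := (aeval (Cyc h) G).comp (AdjoinRoot.mkₐ h).toLinearMap
  have hψ : ∀ K, ψ K = AdjoinRoot.mk h (G * K) := fun K => by
    show aeval (Cyc h) G (AdjoinRoot.mk h K) = _
    rw [aeval_Cyc, map_mul]
    rfl
  have hrange : LinearMap.range ψ = LinearMap.range (aeval (Cyc h) G) := by
    refine LinearMap.range_comp_of_range_eq_top _ (LinearMap.range_eq_top.2 fun x => ?_)
    induction x using AdjoinRoot.induction_on with | _ K => exact ⟨K, rfl⟩
  have hker : LinearMap.ker (AdjoinRoot.mkₐ h').toLinearMap = LinearMap.ker ψ := by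
    ext K
    simp only [LinearMap.mem_ker, hψ, AdjoinRoot.mk_eq_zero, hk]
    exact AdjoinRoot.mk_eq_zero
  have h1 := LinearMap.quotKerEquivOfSurjective (AdjoinRoot.mkₐ h').toLinearMap (fun x => by
    induction x using AdjoinRoot.induction_on with | _ K => exact ⟨K, rfl⟩)
  rw [rk, ← hrange, ← (LinearMap.quotKerEquivRange ψ).finrank_eq, ← (Submodule.quotEquivOfEq _ _ hker).finrank_eq,
    h1.finrank_eq, finrank_adjoinRoot hh']

theorem rk_prodMap {V W : Type*} [AddCommGroup V] [Module F V] [Module.Finite F V] [AddCommGroup W] [Module F W]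
    [Module.Finite F W] (φ : Module.End F V) (ψ : Module.End F W) (G : F[X]) :
    rk (φ.prodMap ψ) G = rk φ G + rk ψ G := by
  have h : aeval (φ.prodMap ψ) G = (aeval φ G).prodMap (aeval ψ G) := by
    have := aeval_algHom_apply (LinearMap.prodMapAlgHom F V W) (φ, ψ) G
    rw [Polynomial.aeval_prod_apply] at this
    exact this
  rw [rk, h, LinearMap.range_prodMap]
  rw [rk, rk, ← Module.finrank_prod]
  exact LinearEquiv.finrank_eq
    { toFun := fun x => (⟨x.1.1, x.2.1⟩, ⟨x.1.2, x.2.2⟩)
      invFun := fun x => ⟨(x.1.1, x.2.1), x.1.2, x.2.2⟩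
      map_add' := fun _ _ => rfl
      map_smul' := fun _ _ => rfl
      left_inv := fun _ => rfl
      right_inv := fun _ => rfl }

variable [Finite F]

theorem rk_dcyc_second : ∀ {ps : List (F[X] × ℕ)}, PairsOk ps → ∀ {P : F[X]}, Irreducible P → P.Monic → ∀ j : ℕ,
    rk (dcyc (blocks ps)) (P ^ j) + rk (dcyc (blocks ps)) (P ^ (j + 2)) =
      2 * rk (dcyc (blocks ps)) (P ^ (j + 1)) + P.natDegree * ps.countP (fun x => open Classical in decide (x = (P, j + 1)))
  | [], _, P, hP, hPm, j => by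
    have hz : ∀ G : F[X], rk (dcyc (blocks ([] : List (F[X] × ℕ)))) G = 0 := fun G => by
      rw [rk]
      haveI : Subsingleton (∀ i : Fin (blocks ([] : List (F[X] × ℕ))).length,
          AdjoinRoot ((blocks ([] : List (F[X] × ℕ))).get i)) :=
        ⟨fun a b => funext fun i => absurd i.isLt (by simp [blocks])⟩
      exact Module.finrank_zero_of_subsingleton
    simp [hz]
  | x :: ps, hok, P, hP, hPm, j => by
    classical
    have hok' : PairsOk ps := fun y hy => hok y (List.mem_cons_of_mem _ hy)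
    obtain ⟨hQ, hQm, -, -⟩ := hok x List.mem_cons_self
    have ih := rk_dcyc_second hok' hP hPm j
    haveI := (hQm.pow x.2).finite_adjoinRoot
    haveI := finite_dcyc (L := blocks ps) fun p hp => by
      obtain ⟨y, hy, rfl⟩ := List.mem_map.1 hp
      exact (hok' y hy).2.1.pow _
    have hsplit : ∀ G, rk (dcyc (blocks (x :: ps))) G = rk (Cyc (x.1 ^ x.2)) G + rk (dcyc (blocks ps)) G := fun G => by
      rw [← rk_prodMap]
      exact rk_sim (dcyc_cons _ _) G
    simp only [hsplit, List.countP_cons, decide_eq_true_eq]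
    by_cases hx : x.1 = P
    · have hr : ∀ i, rk (Cyc (x.1 ^ x.2)) (P ^ i) = (x.2 - i) * P.natDegree := fun i => by
        rw [rk_Cyc (h' := P ^ (x.2 - i)) (hPm.pow _) (fun K => ?_), hPm.natDegree_pow]
        subst hx
        by_cases hi : i ≤ x.2
        · conv_lhs => rw [show x.2 = i + (x.2 - i) by omega, pow_add]
          exact mul_dvd_mul_iff_left (pow_ne_zero _ hQ.ne_zero)
        · rw [Nat.sub_eq_zero_of_le (by omega), pow_zero]
          exact ⟨fun _ => one_dvd _, fun _ => dvd_mul_of_dvd_left (pow_dvd_pow _ (by omega)) _⟩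
      simp only [hr]
      by_cases h2 : x.2 = j + 1
      · rw [if_pos (Prod.ext hx h2), h2]
        simp only [show j + 1 - j = 1 by omega, show j + 1 - (j + 2) = 0 by omega, Nat.sub_self, one_mul, zero_mul]
        simp only [Nat.mul_add, Nat.mul_one]
        omega
      · rw [if_neg (fun e => h2 (congrArg Prod.snd e)), add_zero]
        have h3 : (x.2 - j) * P.natDegree + (x.2 - (j + 2)) * P.natDegree = 2 * ((x.2 - (j + 1)) * P.natDegree) := by
          rw [← add_mul, ← mul_assoc]
          congr 1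
          omega
        omega
    · have hr : ∀ i, rk (Cyc (x.1 ^ x.2)) (P ^ i) = (x.1 ^ x.2).natDegree := fun i => by
        refine rk_Cyc (hQm.pow _) fun K => ⟨fun h => ?_, fun h => dvd_mul_of_dvd_right h _⟩
        refine IsCoprime.dvd_of_dvd_mul_left ?_ h
        refine IsCoprime.pow ((hQ.coprime_iff_not_dvd).2 fun hd => hx ?_)
        exact eq_of_monic_of_associated hQm hPm (hQ.associated_of_dvd hP hd)
      simp only [hr]
      rw [if_neg (fun e => hx (congrArg Prod.fst e)), add_zero]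
      omega

/-- The pairs of a model are determined by it. -/
theorem perm_of_sim {ps ps' : List (F[X] × ℕ)} (h : PairsOk ps) (h' : PairsOk ps')
    (hs : Sim (dcyc (blocks ps)) (dcyc (blocks ps'))) : ps.Perm ps' := by
  classical
  refine List.perm_iff_count.2 fun x => ?_
  by_cases hx : Irreducible x.1 ∧ x.1.Monic ∧ 0 < x.2
  · obtain ⟨hP, hPm, hpos⟩ := hx
    obtain ⟨j, hj⟩ : ∃ j, x.2 = j + 1 := ⟨x.2 - 1, by omega⟩
    have e1 := rk_dcyc_second h hP hPm j
    have e2 := rk_dcyc_second h' hP hPm j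
    simp only [rk_sim hs] at e1
    have hdeg := hP.natDegree_pos
    have hcount : ∀ qs : List (F[X] × ℕ), qs.count x = qs.countP (fun y => decide (y = (x.1, j + 1))) := fun qs => by
      rw [List.count]
      refine List.countP_congr fun y _ => ?_
      simp [Prod.ext_iff, hj]
    rw [hcount, hcount]
    refine Nat.eq_of_mul_eq_mul_left hdeg ?_
    omega
  · rw [List.count_eq_zero.2 fun hm => hx ⟨(h x hm).1, (h x hm).2.1, (h x hm).2.2.1⟩,
      List.count_eq_zero.2 fun hm => hx ⟨(h' x hm).1, (h' x hm).2.1, (h' x hm).2.2.1⟩]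

end Rank

section Twist

theorem scaleRoots_inv_cancel (p : F[X]) {ζ : F} (hζ : ζ ≠ 0) : (p.scaleRoots ζ⁻¹).scaleRoots ζ = p := by
  rw [← scaleRoots_mul, inv_mul_cancel₀ hζ, scaleRoots_one]

theorem irreducible_scaleRoots {P : F[X]} (hP : Irreducible P) {ζ : F} (hζ : ζ ≠ 0) :
    Irreducible (P.scaleRoots ζ) := by
  constructor
  · intro hu
    have := natDegree_eq_zero_of_isUnit hu
    rw [natDegree_scaleRoots] at this
    exact hP.natDegree_pos.ne' this
  · intro a b hab
    have h1 : P = a.scaleRoots ζ⁻¹ * b.scaleRoots ζ⁻¹ := by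
      rw [← mul_scaleRoots_of_noZeroDivisors, ← hab, ← scaleRoots_mul, mul_inv_cancel₀ hζ, scaleRoots_one]
    have hne : a * b ≠ 0 := hab ▸ scaleRoots_ne_zero hP.ne_zero _
    rcases hP.isUnit_or_isUnit h1 with h | h
    · left
      have := natDegree_eq_zero_of_isUnit h
      rw [natDegree_scaleRoots] at this
      rw [eq_C_of_natDegree_eq_zero this]
      exact isUnit_C.2 (IsUnit.mk0 _ fun e => left_ne_zero_of_mul hne (by rw [eq_C_of_natDegree_eq_zero this, e, C_0]))
    · right
      have := natDegree_eq_zero_of_isUnit h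
      rw [natDegree_scaleRoots] at this
      rw [eq_C_of_natDegree_eq_zero this]
      exact isUnit_C.2 (IsUnit.mk0 _ fun e => right_ne_zero_of_mul hne (by rw [eq_C_of_natDegree_eq_zero this, e, C_0]))

theorem aeval_smul_root {h : F[X]} (ζ : F) :
    aeval (algebraMap F (AdjoinRoot h) ζ * AdjoinRoot.root h) (h.scaleRoots ζ) = 0 :=
  scaleRoots_aeval_eq_zero (by rw [AdjoinRoot.aeval_eq, AdjoinRoot.mk_self])

theorem sim_smul_Cyc {h : F[X]} {ζ : F} (hζ : ζ ≠ 0) : Sim (Cyc (h.scaleRoots ζ)) (ζ • Cyc h) := by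
  let f : AdjoinRoot (h.scaleRoots ζ) →ₐ[F] AdjoinRoot h :=
    AdjoinRoot.liftAlgHom _ (Algebra.ofId F _) (algebraMap F _ ζ * AdjoinRoot.root h) (aeval_smul_root ζ)
  have h2 : aeval (algebraMap F (AdjoinRoot (h.scaleRoots ζ)) ζ⁻¹ * AdjoinRoot.root (h.scaleRoots ζ)) h = 0 := by
    have := scaleRoots_aeval_eq_zero (r := ζ⁻¹) (show aeval (AdjoinRoot.root (h.scaleRoots ζ)) (h.scaleRoots ζ) = 0 by
      rw [AdjoinRoot.aeval_eq, AdjoinRoot.mk_self])
    rwa [← scaleRoots_mul, mul_inv_cancel₀ hζ, scaleRoots_one] at this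
  let g : AdjoinRoot h →ₐ[F] AdjoinRoot (h.scaleRoots ζ) :=
    AdjoinRoot.liftAlgHom _ (Algebra.ofId F _) (algebraMap F _ ζ⁻¹ * AdjoinRoot.root (h.scaleRoots ζ)) h2
  have hf : f (AdjoinRoot.root _) = algebraMap F _ ζ * AdjoinRoot.root h := AdjoinRoot.liftAlgHom_root ..
  have hg : g (AdjoinRoot.root _) = algebraMap F _ ζ⁻¹ * AdjoinRoot.root (h.scaleRoots ζ) := AdjoinRoot.liftAlgHom_root ..
  let e : AdjoinRoot (h.scaleRoots ζ) ≃ₐ[F] AdjoinRoot h := AlgEquiv.ofAlgHom f g
    (AdjoinRoot.algHom_ext (by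
      rw [AlgHom.comp_apply, hg, map_mul, f.commutes, hf, ← mul_assoc, ← map_mul, inv_mul_cancel₀ hζ, map_one, one_mul,
        AlgHom.id_apply]))
    (AdjoinRoot.algHom_ext (by
      rw [AlgHom.comp_apply, hf, map_mul, g.commutes, hg, ← mul_assoc, ← map_mul, mul_inv_cancel₀ hζ, map_one, one_mul,
        AlgHom.id_apply]))
  refine ⟨e.toLinearEquiv, fun v => ?_⟩
  show f (AdjoinRoot.root _ * v) = ζ • (AdjoinRoot.root h * f v)
  rw [map_mul, hf, Algebra.smul_def, mul_assoc]

theorem Sim.smul {V W : Type*} [AddCommGroup V] [Module F V] [AddCommGroup W] [Module F W]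
    {φ : Module.End F V} {ψ : Module.End F W} (h : Sim φ ψ) (ζ : F) : Sim (ζ • φ) (ζ • ψ) := by
  obtain ⟨e, he⟩ := h
  exact ⟨e, fun v => by simp [he]⟩

/-- The twist of a list of pairs. -/
noncomputable def twPairs (ζ : F) (ps : List (F[X] × ℕ)) : List (F[X] × ℕ) := ps.map fun x => (x.1.scaleRoots ζ, x.2)

theorem sim_smul_dcyc [Finite F] {ζ : F} (hζ : ζ ≠ 0) :
    ∀ ps : List (F[X] × ℕ), Sim (dcyc (blocks (twPairs ζ ps))) (ζ • dcyc (blocks ps))
  | [] => by
    haveI : Subsingleton (∀ i : Fin (blocks ([] : List (F[X] × ℕ))).length,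
        AdjoinRoot ((blocks ([] : List (F[X] × ℕ))).get i)) :=
      ⟨fun a b => funext fun i => absurd i.isLt (by simp [blocks])⟩
    exact ⟨LinearEquiv.refl F _, fun v => Subsingleton.elim _ _⟩
  | x :: ps => by
    refine (dcyc_cons ((x.1.scaleRoots ζ) ^ x.2) (blocks (twPairs ζ ps))).trans ?_
    have h1 : Sim ((ζ • Cyc (x.1 ^ x.2)).prodMap (ζ • dcyc (blocks ps))) (ζ • dcyc (blocks (x :: ps))) := by
      refine Sim.trans ?_ ((dcyc_cons _ _).symm.smul ζ)
      exact ⟨LinearEquiv.refl F _, fun v => rfl⟩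
    refine Sim.trans ?_ h1
    refine Sim.prodMap ?_ (sim_smul_dcyc hζ ps)
    rw [← pow_scaleRoots_of_isReduced]
    exact sim_smul_Cyc hζ

theorem pairsOk_twPairs {ζ : F} (hζ : ζ ≠ 0) {ps : List (F[X] × ℕ)} (h : PairsOk ps) : PairsOk (twPairs ζ ps) := by
  intro y hy
  obtain ⟨x, hx, rfl⟩ := List.mem_map.1 hy
  obtain ⟨a, b, c, d⟩ := h x hx
  refine ⟨irreducible_scaleRoots a hζ, (monic_scaleRoots_iff ζ).2 b, c, ?_⟩
  show (x.1.scaleRoots ζ).coeff 0 ≠ 0
  rw [coeff_scaleRoots]
  exact mul_ne_zero d (pow_ne_zero _ hζ)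

theorem tupOf_twPairs [Finite F] (ζ : F) : ∀ (ps : List (F[X] × ℕ)) (i : ℕ), tupOf (twPairs ζ ps) i = (tupOf ps i).scaleRoots ζ
  | [], i => by simp [tupOf, twPairs, one_scaleRoots]
  | x :: ps, i => by
    rw [twPairs, List.map_cons, ← twPairs, tupOf_cons, tupOf_cons, mul_scaleRoots_of_noZeroDivisors,
      tupOf_twPairs ζ ps i]
    by_cases h : x.2 = i <;> simp [h, one_scaleRoots]

end Twist

section Fixed

variable [Finite F] {n : ℕ}

theorem tupOf_perm {ps ps' : List (F[X] × ℕ)} (h : ps.Perm ps') : tupOf ps = tupOf ps' :=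
  funext fun i => ((h.filter _).map _).prod_eq

/-- A class fixed by a scalar has a fixed tuple. -/
theorem slTup_fixed {g : Matrix.SpecialLinearGroup (Fin n) F} {ζ : F} (hζ : ζ ≠ 0)
    (h : Sim (ζ • Matrix.toLin' (g : Matrix (Fin n) (Fin n) F)) (Matrix.toLin' (g : Matrix (Fin n) (Fin n) F)))
    (i : ℕ) : (slTup g i).scaleRoots ζ = slTup g i := by
  obtain ⟨hok, hs, -⟩ := pairsOf_spec (Matrix.SpecialLinearGroup.toGL g)
  set ps := pairsOf (Matrix.SpecialLinearGroup.toGL g) with hps
  have h1 : Sim (dcyc (blocks (twPairs ζ ps))) (dcyc (blocks ps)) :=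
    (sim_smul_dcyc hζ ps).trans ((hs.symm.smul ζ).trans (h.trans hs))
  have := tupOf_perm (perm_of_sim (pairsOk_twPairs hζ hok) hok h1)
  rw [slTup, ← hps, ← tupOf_twPairs, this]

theorem exists_expand_of_scaleRoots {f : F[X]} (hf : f.coeff 0 ≠ 0) {ζ : F} (h : f.scaleRoots ζ = f) {e : ℕ}
    (he : orderOf ζ = e) (he0 : 0 < e) :
    expand F e (contract e f) = f ∧ (contract e f).natDegree * e = f.natDegree := by
  have key : ∀ j, f.coeff j ≠ 0 → e ∣ f.natDegree - j := by
    intro j hj
    have := congrArg (fun p => p.coeff j) h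
    simp only [coeff_scaleRoots] at this
    rw [← he]
    exact orderOf_dvd_of_pow_eq_one (mul_left_cancel₀ hj (this.trans (mul_one _).symm))
  have hdeg : e ∣ f.natDegree := by simpa using key 0 hf
  have hexp : expand F e (contract e f) = f := by
    refine Polynomial.ext fun j => ?_
    rw [coeff_expand he0]
    split_ifs with hd
    · rw [coeff_contract he0.ne', Nat.div_mul_cancel hd]
    · by_contra hne
      exact hd ((Nat.dvd_sub_iff_right (le_natDegree_of_ne_zero (Ne.symm hne)) hdeg).1 (key j (Ne.symm hne)))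
  refine ⟨hexp, ?_⟩
  rw [← natDegree_expand, hexp]

variable (F) in
/-- The tuples of determinant one fixed by `ζ`. -/
def fixTup (n : ℕ) (ζ : F) : Set (ℕ → F[X]) := {f ∈ slTupSet F n | ∀ i, (f i).scaleRoots ζ = f i}

theorem fixTup_finite (n : ℕ) (ζ : F) : (fixTup F n ζ).Finite := (slTupSet_finite n).subset (Set.sep_subset _ _)

theorem fixTup_spec {ζ : F} {e : ℕ} (he : orderOf ζ = e) (he0 : 0 < e) {f : ℕ → F[X]} (hf : f ∈ fixTup F n ζ) :
    (∀ i, expand F e (contract e (f i)) = f i) ∧
      (fun i => contract e (f i)) ∈ tupSet F (down (n / e)) (n / e) ∧ e * tg n f ∣ n := by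
  obtain ⟨⟨hmem, hdet⟩, hfix⟩ := hf
  obtain ⟨h1, h2, h3⟩ := mem_tupSet_down.1 hmem
  have hx := fun i => exists_expand_of_scaleRoots (h2 i).2 (hfix i) he he0
  have hsum : e * ∑ i ∈ Finset.Icc 1 n, i * (contract e (f i)).natDegree = n := by
    conv_rhs => rw [← h3]
    rw [Finset.mul_sum]
    exact Finset.sum_congr rfl fun i _ => by rw [← (hx i).2]; ring
  have hne : n / e = ∑ i ∈ Finset.Icc 1 n, i * (contract e (f i)).natDegree :=
    Nat.div_eq_of_eq_mul_right he0 hsum.symm
  have hmon : ∀ i, (contract e (f i)).Monic := fun i => (monic_expand_iff he0).1 ((hx i).1.symm ▸ (h2 i).1)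
  have hone : ∀ i, ¬ (1 ≤ i ∧ i ≤ n / e) → contract e (f i) = 1 := by
    intro i hi
    by_cases hin : 1 ≤ i ∧ i ≤ n
    · refine (hmon i).natDegree_eq_zero.1 ?_
      by_contra hd
      have h5 : i * (contract e (f i)).natDegree ≤ n / e := hne ▸
        Finset.single_le_sum (f := fun i => i * (contract e (f i)).natDegree) (fun _ _ => Nat.zero_le _)
          (Finset.mem_Icc.2 hin)
      have := Nat.le_mul_of_pos_right i (Nat.pos_of_ne_zero hd)
      omega
    · rw [h1 i hin]
      rw [← C_1, contract_C]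
  refine ⟨fun i => (hx i).1, mem_tupSet_down.2 ⟨hone, fun i => ⟨hmon i, ?_⟩, ?_⟩, ?_⟩
  · rw [coeff_contract he0.ne', zero_mul]
    exact (h2 i).2
  · conv_rhs => rw [hne]
    refine Finset.sum_subset (fun i hi => ?_) fun i hi hni => ?_
    · rw [Finset.mem_Icc] at hi ⊢
      have := Nat.div_le_self n e
      omega
    · rw [hone i fun h => hni (Finset.mem_Icc.2 h), natDegree_one, mul_zero]
  · conv_rhs => rw [← hsum]
    refine Nat.mul_dvd_mul_left e (Finset.dvd_sum fun i hi => ?_)
    by_cases h : f i = 1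
    · rw [h, show contract e (1 : F[X]) = 1 by rw [← C_1, contract_C], natDegree_one, mul_zero]
      exact dvd_zero _
    · exact ((dvd_of_mem ⟨hmem, hdet⟩ dvd_rfl).1 i h).trans (dvd_mul_right _ _)

theorem ncard_fixTup_le {ζ : F} {e : ℕ} (he : orderOf ζ = e) (he0 : 0 < e) :
    (fixTup F n ζ).ncard ≤ Nat.card F ^ (n / e) := by
  have hT := tupSet_finite_card (F := F) (down (n / e)) (down_nodup _).1 (down_pos _) (n / e)
  refine (Set.ncard_le_ncard_of_injOn (fun f i => contract e (f i)) (fun f hf => (fixTup_spec he he0 hf).2.1) ?_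
    hT.1).trans (hT.2.trans (cnt_down_le _ Nat.card_pos _ _))
  intro f hf g hg h
  funext i
  rw [← (fixTup_spec he he0 hf).1 i, ← (fixTup_spec he he0 hg).1 i, show contract e (f i) = contract e (g i) from
    congrFun h i]

theorem ncard_fixTup_le_one {ζ : F} {e : ℕ} (he : orderOf ζ = e) (he0 : 0 < e) (hn : n / e = 1) :
    (fixTup F n ζ).ncard ≤ 1 := by
  refine (Set.ncard_le_one (fixTup_finite n ζ)).2 fun f hf g hg => ?_
  have key : ∀ f ∈ fixTup F n ζ, ∃ c : F, tdet.cdetT (expand F e (X + C c)) = 1 ∧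
      f = Function.update (fun _ => (1 : F[X])) 1 (expand F e (X + C c)) := by
    intro f hf
    obtain ⟨hexp, hmem, -⟩ := fixTup_spec he he0 hf
    rw [hn] at hmem
    obtain ⟨h1, h2, h3⟩ := mem_tupSet_down.1 hmem
    simp only [Finset.Icc_self, Finset.sum_singleton, one_mul] at h3
    have hlin := (h2 1).1.eq_X_add_C h3
    have hone : ∀ i, i ≠ 1 → f i = 1 := fun i hi => by
      rw [← hexp i, h1 i (by omega), map_one]
    have hf1 : f 1 = expand F e (X + C ((contract e (f 1)).coeff 0)) := by rw [← hlin, hexp]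
    refine ⟨(contract e (f 1)).coeff 0, ?_, funext fun i => ?_⟩
    · rw [← hf1]
      have hdet := hf.1.2
      have hn1 : 1 ≤ n := by
        rcases Nat.eq_zero_or_pos n with h | h
        · rw [h, Nat.zero_div] at hn; omega
        · exact h
      rw [tdet, Finset.prod_eq_single 1 (fun i _ hi => by rw [hone i hi]; simp [tdet.cdetT])
        (fun h => absurd (Finset.mem_Icc.2 ⟨le_rfl, hn1⟩) h), pow_one] at hdet
      exact hdet
    · by_cases h : i = 1
      · subst h; rw [Function.update_self]; exact hf1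
      · rw [Function.update_of_ne h, hone i h]
  obtain ⟨a, ha, rfl⟩ := key f hf
  obtain ⟨b, hb, rfl⟩ := key g hg
  have hc : ∀ c : F, tdet.cdetT (expand F e (X + C c)) = (-1) ^ e * c := fun c => by
    rw [tdet.cdetT, natDegree_expand, natDegree_X_add_C, one_mul, coeff_expand he0, if_pos (dvd_zero _), Nat.zero_div]
    simp
  rw [hc] at ha hb
  rw [mul_left_cancel₀ (pow_ne_zero _ (neg_ne_zero.2 one_ne_zero)) (ha.trans hb.symm)]

theorem tg_fixTup_le {ζ : F} {e : ℕ} (he : orderOf ζ = e) (he0 : 0 < e) (hn : 0 < n) {f : ℕ → F[X]}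
    (hf : f ∈ fixTup F n ζ) : tg n f ≤ n / e := by
  rw [Nat.le_div_iff_mul_le he0, mul_comm]
  exact Nat.le_of_dvd hn (fixTup_spec he he0 hf).2.2

/-- Classes with a fixed tuple. -/
theorem card_fixed_le (ζ : F) {b : ℕ} (hb : ∀ f ∈ fixTup F n ζ, tg n f ≤ b)
    (p : ConjClasses (Matrix.SpecialLinearGroup (Fin n) F) → Prop) (hp : ∀ c, p c → slTup c.out ∈ fixTup F n ζ) :
    Nat.card {c // p c} ≤ b * (fixTup F n ζ).ncard := by
  classical
  haveI := Fintype.ofFinite (ConjClasses (Matrix.SpecialLinearGroup (Fin n) F))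
  rw [Nat.card_eq_fintype_card, Fintype.card_subtype, mul_comm, Set.ncard_eq_toFinset_card _ (fixTup_finite n ζ)]
  refine (Finset.card_eq_sum_card_fiberwise (f := fun c : ConjClasses (Matrix.SpecialLinearGroup (Fin n) F) => slTup c.out)
    (t := (fixTup_finite n ζ).toFinset) fun c hc =>
      (fixTup_finite n ζ).mem_toFinset.2 (hp c (Finset.mem_filter.1 hc).2)).trans_le ?_
  refine (Finset.sum_le_card_nsmul _ _ b fun f hf => ?_).trans_eq (smul_eq_mul _ _)
  refine le_trans ?_ ((card_fibre_le f).trans (hb f ((fixTup_finite n ζ).mem_toFinset.1 hf)))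
  rw [Nat.card_eq_fintype_card, Fintype.card_subtype]
  exact Finset.card_le_card fun c hc => by simpa using (Finset.mem_filter.1 hc).2

end Fixed

end Cfsg.Agent.SLComm
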