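import Cfsg.Agent.Lib.SLComm.Tri

/-!
# Commutators in the linear groups over the field with two elements

* `gad_two` : every automorphism of a space of dimension at least three over two elements is a commutator.
-/

set_option autoImplicit false
set_option linter.style.haveILetI false
set_option linter.unusedVariables false
set_option linter.unusedSectionVars false

namespace Cfsg.Agent.SLComm

open Polynomial Module Matrix

variable {F : Type*} [Field F] [Finite F]

theorem gadL_forall {L : List F[X]} (hm : ∀ h ∈ L, h.Monic) (hg : ∀ h ∈ L, GadL [h] 1) : GadL L 1 := by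
  induction L with
  | nil => exact gadL_nil
  | cons a L ih =>
    have := GadL.append (L := [a]) (L' := L) (by simpa using hm a List.mem_cons_self)
      (fun h hh => hm h (List.mem_cons_of_mem _ hh)) (hg a List.mem_cons_self)
      (ih (fun h hh => hm h (List.mem_cons_of_mem _ hh)) fun h hh => hg h (List.mem_cons_of_mem _ hh))
    rwa [one_mul] at this

theorem charP_of_card {p : ℕ} [hp : Fact p.Prime] (h : Nat.card F = p) : CharP F p := by
  haveI := Fintype.ofFinite F
  obtain ⟨n, hq, hn⟩ := FiniteField.card F (ringChar F)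
  rw [Nat.card_eq_fintype_card, hn] at h
  have h1 : ringChar F = p :=
    (Nat.prime_dvd_prime_iff_eq hq hp.out).1 (h ▸ dvd_pow_self _ (PNat.ne_zero n))
  exact h1 ▸ ringChar.charP F

theorem eq_one_of_card_two (h2 : Nat.card F = 2) {x : F} (hx : x ≠ 0) : x = 1 := by
  haveI := Fintype.ofFinite F
  rw [Nat.card_eq_fintype_card] at h2
  have := FiniteField.pow_card_sub_one_eq_one x hx
  rwa [h2, pow_one] at this

theorem centSurj_two (h2 : Nat.card F = 2) {V : Type*} [AddCommGroup V] [Module F V] (φ : Module.End F V) :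
    CentSurj φ := fun t ht => ⟨1, Commute.one_left _, by
  rw [Units.val_one, map_one, eq_one_of_card_two h2 ht]⟩

theorem units_two (h2 : Nat.card F = 2) {h : F[X]} (hm : h.Monic) {k : ℕ} (hd : h.natDegree = k + 3)
    (h0 : h.coeff 0 ≠ 0) :
    ∃ (n : ℕ) (a b : (Module.End F (Fin n → F))ˣ),
      Sim (Cyc h) ((a * b * a⁻¹ * b⁻¹ : (Module.End F (Fin n → F))ˣ) : Module.End F (Fin n → F)) ∧
      LinearMap.det (a : Module.End F (Fin n → F)) = 1 ∧
      LinearMap.det (b : Module.End F (Fin n → F)) = 1 ∧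
      aeval ((a⁻¹ : (Module.End F (Fin n → F))ˣ) : Module.End F (Fin n → F))
        ((X ^ 2 - C 1 * X + C 1) * (X - C (1 : F)) ^ (k + 1)) = 0 := by
  set q : F[X] := X ^ 2 - C 1 * X + C 1 with hq
  have hqm : q.Monic := by rw [hq]; monicity!
  have hqd : q.natDegree = 2 := by rw [hq]; compute_degree!
  set f := q * (X - C (1 : F)) ^ (k + 1) with hf
  have hfm : f.Monic := hqm.mul ((monic_X_sub_C 1).pow _)
  have hfd : f.natDegree = 0 + k + 3 := by
    rw [hf, hqm.natDegree_mul ((monic_X_sub_C 1).pow _), hqd, (monic_X_sub_C (1 : F)).natDegree_pow, natDegree_X_sub_C]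
    omega
  have hf0 : f.coeff 0 ≠ 0 := by
    rw [hf, mul_coeff_zero, coeff_zero_linear_pow]
    simp [hq]
  have hroot : ∀ x : F, x ^ 2 - 1 * x + 1 ≠ 0 := by
    intro x
    rcases eq_or_ne x 0 with rfl | hx
    · simp
    · rw [eq_one_of_card_two h2 hx]; simp
  have hfac := fac_corner (a := 0) (b := k) (τ := (1 : F)) (N := 1) (c := 1) (c' := 1) one_ne_zero one_ne_zero hroot
    (Or.inl rfl) one_ne_zero hfm hfd hm (by omega) (by
      rw [eq_one_of_card_two h2 h0, eq_one_of_card_two h2 hf0]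
      simp)
  have hinv : invPoly q = q := by
    have := invPoly_quad (F := F) (τ := 1) (N := 1) one_ne_zero
    rwa [div_one, inv_one] at this
  rw [pow_zero, mul_one, invPoly_mul, invPoly_pow, invPoly_linear one_ne_zero, inv_one, hinv] at hfac
  obtain ⟨n, a, b, hab, ha, hb, hP⟩ := units_of_fac hfac hfm hf0 (centSurj_two h2 _)
  refine ⟨n, a, b, hab, ?_, hb, ?_⟩
  · exact eq_one_of_card_two h2 (det_unit_ne_zero a)
  · rwa [invPoly_mul, invPoly_pow, invPoly_linear one_ne_zero, inv_one, hinv] at hP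

theorem gadL_deg_ge_three (h2 : Nat.card F = 2) {h : F[X]} (hm : h.Monic) (hd : 3 ≤ h.natDegree)
    (h0 : h.coeff 0 ≠ 0) : GadL [h] 1 := by
  obtain ⟨k, hk⟩ : ∃ k, h.natDegree = k + 3 := ⟨h.natDegree - 3, by omega⟩
  obtain ⟨n, a, b, hab, ha, hb, -⟩ := units_two h2 hm hk h0
  exact GadL.of_cyc (Gad.sim ⟨a, b, rfl, ha, hb⟩ hab)

/-- A small Jordan block and a long one. -/
theorem two_tri (h2 : Nat.card F = 2) (k : ℕ) :
    GadL [(X - C (1 : F)) ^ 2, (X - C (1 : F)) ^ (k + 4)] 1 := by
  haveI : CharP F 2 := charP_of_card h2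
  set t3 : F[X] := (X - C (1 : F)) ^ 3 with ht3
  haveI := ((monic_X_sub_C (1 : F)).pow 3).finite_adjoinRoot
  haveI := ((monic_X_sub_C (1 : F)).pow (k + 2 + 1)).finite_adjoinRoot
  set u : AdjoinRoot t3 := AdjoinRoot.mk t3 ((X - C (1 : F)) ^ 2) with hu
  have hu1 : Cyc t3 u = (1 : F) • u := by
    show AdjoinRoot.root t3 * u = _
    rw [one_smul, ← AdjoinRoot.mk_X, hu, ← map_mul, AdjoinRoot.mk_eq_mk, ht3]
    exact ⟨1, by rw [map_one]; ring⟩
  obtain ⟨L, hL, hw, hstep, hgen⟩ := tri_jordan hu1 (k + 2)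
  set ψ := triMap (Cyc t3) (L.smulRight u) (Cyc ((X - C (1 : F)) ^ (k + 2 + 1))) with hψ
  set y₀ : AdjoinRoot ((X - C (1 : F)) ^ (k + 2 + 1)) := -(AdjoinRoot.mk ((X - C (1 : F)) ^ (k + 2 + 1)) (X - C (1 : F)) ^ (k + 1)) with hy₀
  have hfst : ∀ (G : F[X]) (x : AdjoinRoot t3), aeval ψ G (x, 0) = (aeval (Cyc t3) G x, 0) := by
    intro G
    induction G using Polynomial.induction_on with
    | C r => intro x; simp [Module.algebraMap_end_apply]
    | add p q hp hq => intro x; simp [hp, hq]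
    | monomial n r ih =>
      intro x
      rw [show C r * X ^ (n + 1) = C r * X ^ n * X by ring, map_mul (aeval ψ), map_mul (aeval (Cyc t3)) (C r * X ^ n), aeval_X, aeval_X,
        Module.End.mul_apply, Module.End.mul_apply, show ψ (x, 0) = (Cyc t3 x, 0) by simp [hψ, triMap_apply], ih]
  have hv : aeval ψ ((X - C (1 : F)) ^ 2) ((1 : AdjoinRoot t3), y₀) = 0 := by
    rw [show ((1 : AdjoinRoot t3), y₀) = (1, 0) + (0, y₀) by simp, map_add, hfst, hstep 1, aeval_Cyc_one, hy₀,
      pow_one, mul_neg, mul_neg, ← pow_succ', ← pow_add]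
    rw [show AdjoinRoot.mk ((X - C (1 : F)) ^ (k + 2 + 1)) (X - C (1 : F)) ^ (k + 1 + 1) = AdjoinRoot.mk ((X - C (1 : F)) ^ (k + 2 + 1)) ((X - C (1 : F)) ^ (k + 2)) by
      rw [map_pow], map_neg, hL, neg_one_smul, hu]
    rw [show AdjoinRoot.mk ((X - C (1 : F)) ^ (k + 2 + 1)) (X - C (1 : F)) ^ (1 + 1 + (k + 1)) = 0 by
      rw [← map_pow, AdjoinRoot.mk_eq_zero]; exact pow_dvd_pow _ (by omega)]
    simp
  have hsim : Sim ψ (dcyc [(X - C (1 : F)) ^ 2, (X - C (1 : F)) ^ (k + 4)]) := by
    refine (sim_cyc_prod (v := ((1 : AdjoinRoot t3), y₀)) (w := (0, 1)) ((monic_X_sub_C 1).pow 2)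
      ((monic_X_sub_C 1).pow (k + 4)) ?_ ?_ hv hw).trans
      (((Sim.refl _).prodMap (dcyc_singleton _).symm).trans (dcyc_cons _ _).symm)
    · rw [Module.finrank_prod, finrank_adjoinRoot ((monic_X_sub_C (1 : F)).pow 3),
        finrank_adjoinRoot ((monic_X_sub_C (1 : F)).pow (k + 2 + 1))]
      simp only [(monic_X_sub_C (1 : F)).natDegree_pow, natDegree_X_sub_C]
      omega
    · set S := cspan ψ ((1 : AdjoinRoot t3), y₀) ⊔ cspan ψ (0, 1) with hS
      have hinv : ∀ x ∈ S, ψ x ∈ S := fun x hx => by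
        obtain ⟨a, ha, b, hb, rfl⟩ := Submodule.mem_sup.1 hx
        rw [map_add]
        exact S.add_mem (Submodule.mem_sup_left (map_mem_cspan _ ha)) (Submodule.mem_sup_right (map_mem_cspan _ hb))
      obtain ⟨-, hall⟩ := hgen S hinv (Submodule.mem_sup_right (self_mem_cspan _ _))
      have h1 : ((1 : AdjoinRoot t3), (0 : AdjoinRoot ((X - C (1 : F)) ^ (k + 2 + 1)))) ∈ S := by
        have := S.sub_mem (Submodule.mem_sup_left (self_mem_cspan ψ ((1 : AdjoinRoot t3), y₀))) (hall y₀)
        simpa using this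
      refine eq_top_iff.2 fun x _ => ?_
      rw [show x = (x.1, 0) + (0, x.2) by simp]
      refine S.add_mem ?_ (hall _)
      obtain ⟨G, hG⟩ := mem_cspan.1 ((cspan_Cyc t3).symm ▸ Submodule.mem_top : x.1 ∈ cspan (Cyc t3) 1)
      rw [← hG, ← hfst]
      exact aeval_mem hinv G _ h1
  obtain ⟨a₁, b₁, h₁, hda₁, hb₁, ha₁⟩ := two_3 (F := F)
  obtain ⟨n, a₂, b₂, h₂, hda₂, hb₂, hQ⟩ := units_two h2 (h := ((X - C (1 : F)) ^ (k + 2 + 1))) ((monic_X_sub_C 1).pow _) (k := k)
    (by rw [(monic_X_sub_C (1 : F)).natDegree_pow, natDegree_X_sub_C]; omega)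
    (by rw [coeff_zero_linear_pow]; simp)
  have hP : aeval ((a₁⁻¹ : (Module.End F (Fin 3 → F))ˣ) : Module.End F (Fin 3 → F)) (X ^ 3 + X + 1 : F[X]) = 0 := by
    set A : Matrix (Fin 3) (Fin 3) (ZMod 2) := !![1, 0, 1; 1, 1, 1; 1, 1, 0] with hA
    have h3 : A ^ 3 + A + 1 = 0 := by rw [hA]; decide +kernel
    rw [ha₁, show Matrix.toLin' (A.map (ZMod.castHom (dvd_rfl (a := 2)) F)) =
      Matrix.toLinAlgEquiv' ((ZMod.castHom (dvd_rfl (a := 2)) F).mapMatrix A) from rfl]
    simp only [map_add, map_pow, aeval_X, map_one]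
    rw [← map_pow, ← map_add, ← map_one (Matrix.toLinAlgEquiv' (R := F) (n := Fin 3)), ← map_add, ← map_pow,
      ← map_one ((ZMod.castHom (dvd_rfl (a := 2)) F).mapMatrix (m := Fin 3)), ← map_add, ← map_add, h3, map_zero,
      map_zero]
  have hco : IsCoprime (X ^ 3 + X + 1 : F[X]) ((X ^ 2 - C 1 * X + C 1) * (X - C (1 : F)) ^ (k + 1)) := by
    refine IsCoprime.mul_right ⟨1 - X, X ^ 2, by rw [map_one]; ring⟩ ((coprime_linear ?_).symm.pow_right)
    simp only [eval_add, eval_pow, eval_X, eval_one, one_pow]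
    rw [show (1 : F) + 1 + 1 = 2 + 1 by ring, show (2 : F) = 0 from CharTwo.two_eq_zero, zero_add]
    exact one_ne_zero
  have := gad_triMap (L.smulRight u) a₁ b₁ a₂ b₂ h₁ h₂ hb₁ hb₂ hco hP hQ
  rw [hda₁, hda₂, one_mul] at this
  exact Gad.sim this hsim.symm

theorem gadL_two (h2 : Nat.card F = 2) {L : List F[X]}
    (hL : ∀ h ∈ L, ∃ (P : F[X]) (e : ℕ), Irreducible P ∧ P.Monic ∧ 0 < e ∧ h = P ^ e) (hdet : ldet L = 1)
    (hJ : L ≠ [(X - C (1 : F)) ^ 2]) : GadL L 1 := by
  classical
  haveI : CharP F 2 := charP_of_card h2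
  set J : F[X] := (X - C (1 : F)) ^ 2 with hJdef
  have hJm : J.Monic := (monic_X_sub_C 1).pow 2
  have hmon : ∀ h ∈ L, h.Monic := fun h hh => by
    obtain ⟨P, e, -, hP, -, rfl⟩ := hL h hh; exact hP.pow e
  have hne : ∀ h ∈ L, h.coeff 0 ≠ 0 := fun h hh e => by
    have : ldet L = 0 := List.prod_eq_zero (List.mem_map.2 ⟨h, hh, by simp [cdet, e]⟩)
    rw [hdet] at this; exact one_ne_zero this
  have hitem : ∀ h ∈ L, h ≠ J → GadL [h] 1 := by
    intro h hh hhJ
    have hm := hmon h hh
    obtain ⟨P, e, hP, hPm, he, rfl⟩ := hL h hh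
    rcases Nat.lt_or_ge (P ^ e).natDegree 3 with hd | hd
    · rw [hPm.natDegree_pow] at hd
      have hPd := hP.natDegree_pos
      rcases Nat.lt_or_ge P.natDegree 2 with h1 | h1
      · have hP1 : P.natDegree = 1 := by omega
        have hP0 : P.coeff 0 ≠ 0 := fun e0 => hne _ hh (by
          rw [coeff_zero_eq_eval_zero, eval_pow, ← coeff_zero_eq_eval_zero, e0, zero_pow he.ne'])
        have hPl : P = X - C (1 : F) := by
          conv_lhs => rw [hPm.eq_X_add_C hP1]
          rw [eq_one_of_card_two h2 hP0, sub_eq_add_neg, ← map_neg, CharTwo.neg_eq]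
        rw [hP1, mul_one] at hd
        have he1 : e = 1 := by
          rcases (show e = 1 ∨ e = 2 by omega) with e1 | e1
          · exact e1
          · exact absurd (by rw [hPl, e1]) hhJ
        rw [he1, pow_one, hPl]
        exact gadL_line
      · have hP2 : P.natDegree = 2 ∧ e = 1 := ⟨by nlinarith, by nlinarith⟩
        rw [hP2.2, pow_one]
        have hc : cdet P = 1 := eq_one_of_card_two h2 (mul_ne_zero (pow_ne_zero _ (neg_ne_zero.2 one_ne_zero))
          (by have := hne _ hh; rwa [hP2.2, pow_one] at this))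
        exact gadL_replicate_field hP hPm 0 (by simp [ldet, hc])
    · exact gadL_deg_ge_three h2 hm hd (hne _ hh)
  set O := L.filter fun h => decide (h ≠ J) with hO
  set m := L.count J with hm
  have hperm : L.Perm (List.replicate m J ++ O) := by
    have h1 := (List.filter_append_perm (fun h => decide (h = J)) L).symm
    rw [List.filter_eq] at h1
    convert h1 using 2
    simp [hO]
  have hOm : ∀ h ∈ O, h ∈ L ∧ h ≠ J := fun h hh => by simpa [hO] using hh
  have hOgad : ∀ O' : List F[X], (∀ h ∈ O', h ∈ O) → GadL O' 1 := fun O' hO' =>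
    gadL_forall (fun h hh => hmon h (hOm h (hO' h hh)).1) fun h hh =>
      hitem h (hOm h (hO' h hh)).1 (hOm h (hO' h hh)).2
  have hrep : ∀ j, GadL (List.replicate (2 * j) J) 1 := by
    intro j
    induction j with
    | zero => exact gadL_nil
    | succ j ih =>
      have := GadL.append (L := [J, J]) (by simp [hJm]) (fun x hx => by rw [List.eq_of_mem_replicate hx]; exact hJm)
        (two_22 (F := F)) ih
      rw [one_mul] at this
      exact this
  have hcombine : ∀ A B : List F[X], (∀ h ∈ A, h.Monic) → (∀ h ∈ B, h.Monic) → GadL A 1 → GadL B 1 →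
      GadL (A ++ B) 1 := fun A B hA hB hgA hgB => by
    have := GadL.append hA hB hgA hgB
    rwa [one_mul] at this
  refine GadL.perm ?_ hperm
  rcases Nat.even_or_odd m with ⟨j, hj⟩ | ⟨j, hj⟩
  · rw [hj, ← two_mul]
    exact hcombine _ _ (fun x hx => by rw [List.eq_of_mem_replicate hx]; exact hJm)
      (fun h hh => hmon h (hOm h hh).1) (hrep j) (hOgad O fun _ h => h)
  rcases j with _ | j
  · rw [hj]
    rcases hO' : O with _ | ⟨h, O'⟩
    · refine absurd ?_ hJ
      rw [hj, hO'] at hperm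
      exact List.perm_singleton.1 hperm
    · have hh : h ∈ O := by rw [hO']; exact List.mem_cons_self
      have hO'm : ∀ x ∈ O', x ∈ O := fun x hx => by rw [hO']; exact List.mem_cons_of_mem _ hx
      obtain ⟨hhL, hhJ⟩ := hOm h hh
      refine hcombine [J, h] O' (by simp [hJm, hmon h hhL]) (fun x hx => hmon x (hOm x (hO'm x hx)).1) ?_ (hOgad O' hO'm)
      obtain ⟨P, e, hP, hPm, he, rfl⟩ := hL h hhL
      by_cases hPl : P = X - C (1 : F)
      · subst hPl
        obtain rfl | rfl | he4 : e = 1 ∨ e = 3 ∨ 4 ≤ e := by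
          have : e ≠ 2 := fun e2 => hhJ (by rw [e2])
          omega
        · exact two_21
        · exact two_23
        · obtain ⟨k, rfl⟩ : ∃ k, e = k + 4 := ⟨e - 4, by omega⟩
          exact two_tri h2 k
      · have hc : IsCoprime J (P ^ e) :=
          (coprime_of_primes (irreducible_X_sub_C 1) hP (monic_X_sub_C 1) hPm (Ne.symm hPl)).pow
        refine GadL.merge hJm (hPm.pow e) hc (gadL_deg_ge_three h2 (hJm.mul (hPm.pow e)) ?_ ?_)
        · rw [hJm.natDegree_mul (hPm.pow e), hPm.natDegree_pow, hJdef, (monic_X_sub_C (1 : F)).natDegree_pow,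
            natDegree_X_sub_C]
          have := Nat.mul_pos he hP.natDegree_pos
          omega
        · rw [mul_coeff_zero, hJdef, coeff_zero_linear_pow]
          exact mul_ne_zero (pow_ne_zero _ (neg_ne_zero.2 one_ne_zero)) (hne _ hhL)
  · rw [hj, show 2 * (j + 1) + 1 = 3 + 2 * j by omega, List.replicate_add, List.append_assoc]
    refine hcombine _ _ (fun x hx => by rw [List.eq_of_mem_replicate hx]; exact hJm) ?_ (two_222 (F := F))
      (hcombine _ _ (fun x hx => by rw [List.eq_of_mem_replicate hx]; exact hJm)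
        (fun h hh => hmon h (hOm h hh).1) (hrep j) (hOgad O fun _ h => h))
    intro x hx
    rcases List.mem_append.1 hx with hx | hx
    · rw [List.eq_of_mem_replicate hx]; exact hJm
    · exact hmon x (hOm x hx).1

/-- Every automorphism in dimension at least three over two elements is a commutator. -/
theorem gad_two (h2 : Nat.card F = 2) {V : Type*} [AddCommGroup V] [Module F V] [Module.Finite F V]
    (φ : Module.End F V) (hdet : LinearMap.det φ = 1) (hn : 3 ≤ finrank F V) : Gad φ 1 := by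
  obtain ⟨L, hL, hs⟩ := exists_dcyc φ
  refine Gad.sim (gadL_two h2 hL ?_ ?_) hs
  · rw [← hdet, hs.det_eq, det_dcyc fun h hh => by obtain ⟨P, e, -, hP, -, rfl⟩ := hL h hh; exact hP.pow e]
    rfl
  · intro e
    subst e
    have := natDegree_eq_of_sim ((monic_X_sub_C (1 : F)).pow 2) (hs.trans (dcyc_singleton _))
    rw [this, (monic_X_sub_C (1 : F)).natDegree_pow, natDegree_X_sub_C] at hn
    omega

end Cfsg.Agent.SLComm
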